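import Groth.Agent.Hilb37.Points

/-! The graded pieces of `Hom(I, S/I)` as functions on lattice regions. -/

set_option autoImplicit false

namespace Groth.Agent.Hilb37

open MvPolynomial W4c1hilbpn

variable {σ : Type*} [Finite σ] {k : Type*} [Field k] {I : Ideal (MvPolynomial σ k)} (hI : IsMonomial I)

section Quot

/-- The coefficient of a standard monomial, on the quotient. -/
noncomputable def qco (δ : σ →₀ ℕ) (hδ : δ ∉ exps I) : (MvPolynomial σ k ⧸ I) →ₗ[k] k :=
  (I.restrictScalars k).liftQ (lcoeff k δ) (fun p hp => by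
    by_contra hne
    exact hδ (hI p hp δ (mem_support_iff.mpr hne))) ∘ₗ
    (Submodule.Quotient.restrictScalarsEquiv k I).symm.toLinearMap

theorem qco_mk (δ : σ →₀ ℕ) (hδ : δ ∉ exps I) (p : MvPolynomial σ k) :
    qco hI δ hδ (Ideal.Quotient.mk I p) = coeff δ p := rfl

/-- The coefficient at an integer point, zero off the standard monomials. -/
noncomputable def qz (γ : σ → ℤ) : (MvPolynomial σ k ⧸ I) →ₗ[k] k := by
  classical
  exact if h : γ ∈ stand I then qco hI (toN γ) h.2 else 0

theorem qz_mk (γ : σ → ℤ) (p : MvPolynomial σ k) :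
    qz hI γ (Ideal.Quotient.mk I p) = open Classical in if γ ∈ stand I then coeff (toN γ) p else 0 := by
  classical
  unfold qz
  by_cases h : γ ∈ stand I
  · rw [dif_pos h, if_pos h]; exact qco_mk hI _ _ p
  · rw [dif_neg h, if_neg h]; rfl

theorem qz_of_not {γ : σ → ℤ} (h : γ ∉ stand I) (x : MvPolynomial σ k ⧸ I) : qz hI γ x = 0 := by
  unfold qz; rw [dif_neg h]; rfl

include hI in
theorem eq_of_qz {x y : MvPolynomial σ k ⧸ I} (h : ∀ γ, qz hI γ x = qz hI γ y) : x = y := by
  classical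
  obtain ⟨p, rfl⟩ := Ideal.Quotient.mk_surjective x
  obtain ⟨q, rfl⟩ := Ideal.Quotient.mk_surjective y
  rw [Ideal.Quotient.eq, as_sum (p - q)]
  refine Ideal.sum_mem _ fun β hβ => ?_
  by_cases hb : β ∈ exps I
  · have e : monomial β (coeff β (p - q)) = C (coeff β (p - q)) * monomial β 1 := by
      rw [C_mul_monomial, mul_one]
    rw [e]
    exact Ideal.mul_mem_left _ _ hb
  · have := h (toZ β)
    rw [qz_mk, qz_mk, if_pos (toZ_mem_stand.mpr hb), if_pos (toZ_mem_stand.mpr hb), toN_toZ] at this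
    rw [coeff_sub, this, sub_self, monomial_zero]
    exact zero_mem _

/-- The class of the monomial at an integer point. -/
noncomputable def mz (γ : σ → ℤ) : MvPolynomial σ k ⧸ I := Ideal.Quotient.mk I (monomial (toN γ) 1)

theorem qz_mz (γ δ : σ → ℤ) (hγ : NN γ) :
    qz hI δ (mz (I := I) γ) = open Classical in if γ = δ ∧ δ ∈ stand I then 1 else 0 := by
  classical
  rw [mz, qz_mk]
  by_cases hd : δ ∈ stand I
  · rw [if_pos hd, coeff_monomial]
    by_cases h : γ = δ
    · rw [if_pos (congrArg toN h), if_pos ⟨h, hd⟩]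
    · rw [if_neg (fun e => h (by rw [← toZ_toN hγ, e, toZ_toN hd.1])), if_neg (fun e => h e.1)]
  · rw [if_neg hd, if_neg (fun e => hd e.2)]

theorem qz_monomial_mul (δ : σ →₀ ℕ) (γ : σ → ℤ) (x : MvPolynomial σ k ⧸ I) :
    qz hI γ (Ideal.Quotient.mk I (monomial δ 1) * x) =
      open Classical in if γ ∈ stand I then qz hI (γ - toZ δ) x else 0 := by
  classical
  obtain ⟨p, rfl⟩ := Ideal.Quotient.mk_surjective x
  rw [← map_mul, qz_mk, qz_mk]
  split_ifs with h h'
  · rw [coeff_monomial_mul', if_pos, one_mul]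
    · congr 1
      ext i
      have h1 : (0 : ℤ) ≤ γ i - δ i := h'.1 i
      simp only [Finsupp.tsub_apply, toN_apply, Pi.sub_apply, toZ_apply]
      omega
    · intro i
      have h1 : (0 : ℤ) ≤ γ i - δ i := h'.1 i
      simp only [toN_apply]
      omega
  · rw [coeff_monomial_mul', if_neg]
    intro hle
    refine h' (stand_mono h (fun i => ?_) fun i => ?_)
    · simp only [Pi.sub_apply, toZ_apply]; omega
    · have := hle i
      simp only [toN_apply] at this
      have h1 := h.1 i
      simp only [Pi.sub_apply, toZ_apply]; omega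
  · rfl

end Quot

/-- The functions on the region of `α` describing the piece of degree `α`. -/
def RegFun (I : Ideal (MvPolynomial σ k)) (α : σ → ℤ) : Submodule k ((σ → ℤ) → k) where
  carrier := {f | (∀ γ, ¬ (γ ∈ stand I ∧ γ - α ∈ expZ I) → f γ = 0) ∧
    ∀ γ γ', γ - α ∈ expZ I → γ ≤ γ' → γ' ∈ stand I → f γ = f γ'}
  zero_mem' := ⟨fun _ _ => rfl, fun _ _ _ _ _ => rfl⟩
  add_mem' {f g} hf hg := ⟨fun γ h => by rw [Pi.add_apply, hf.1 γ h, hg.1 γ h, add_zero],
    fun γ γ' h h' h'' => by rw [Pi.add_apply, Pi.add_apply, hf.2 γ γ' h h' h'', hg.2 γ γ' h h' h'']⟩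
  smul_mem' c {f} hf := ⟨fun γ h => by rw [Pi.smul_apply, hf.1 γ h, smul_zero],
    fun γ γ' h h' h'' => by rw [Pi.smul_apply, Pi.smul_apply, hf.2 γ γ' h h' h'']⟩

theorem RegFun.eq_zero {α : σ → ℤ} {f : (σ → ℤ) → k} (hf : f ∈ RegFun I α) {γ γ' : σ → ℤ}
    (h : γ - α ∈ expZ I) (hle : γ ≤ γ') (hneg : ∃ i, γ i < 0) : f γ' = 0 := by
  by_cases hs : γ' ∈ stand I
  · rw [← hf.2 γ γ' h hle hs]
    exact hf.1 γ fun h' => by obtain ⟨i, hi⟩ := hneg; exact absurd (h'.1.1 i) (not_le.mpr hi)
  · exact hf.1 γ' fun h' => hs h'.1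

theorem mono_mem {β : σ →₀ ℕ} (hβ : β ∈ exps I) : monomial β (1 : k) ∈ I := hβ

variable (α : σ → ℤ)

/-- The component of degree `α` of a map, as a function of integer points. -/
noncomputable def comp : Tgt I →ₗ[k] ((σ → ℤ) → k) where
  toFun φ γ := open Classical in
    if h : γ - α ∈ expZ I then qz hI γ (φ ⟨monomial (toN (γ - α)) 1, h.2⟩) else 0
  map_add' φ ψ := funext fun γ => by
    simp only [Pi.add_apply]
    split_ifs with h
    · rw [LinearMap.add_apply, map_add]
    · rw [add_zero]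
  map_smul' c φ := funext fun γ => by
    simp only [Pi.smul_apply, RingHom.id_apply]
    split_ifs with h
    · rw [LinearMap.smul_apply, map_smul]
    · rw [smul_zero]

theorem comp_apply_eq {φ : Tgt I} {β : σ →₀ ℕ} (hβ : β ∈ exps I) :
    comp hI α φ (toZ β + α) = qz hI (toZ β + α) (φ ⟨monomial β 1, hβ⟩) := by
  classical
  have h : toZ β + α - α = toZ β := add_sub_cancel_right _ _
  show dite _ _ _ = _
  rw [dif_pos (show toZ β + α - α ∈ expZ I by rw [h]; exact toZ_mem_expZ.mpr hβ)]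
  simp only [h, toN_toZ]

theorem comp_mem (φ : Tgt I) : comp hI α φ ∈ RegFun I α := by
  classical
  refine ⟨fun γ hγ => ?_, fun γ γ' h hle hs => ?_⟩
  · show dite _ _ _ = _
    split_ifs with h
    · exact qz_of_not hI (fun h' => hγ ⟨h', h⟩) _
    · rfl
  · have h' : γ' - α ∈ expZ I := expZ_mono h (fun i => by simp only [Pi.sub_apply]; have : γ i ≤ γ' i := hle i; omega)
    show dite _ _ _ = dite _ _ _
    rw [dif_pos h, dif_pos h']
    set δ := toN (γ' - γ)
    have hδ : toZ δ = γ' - γ := toZ_toN fun i => by simp only [Pi.sub_apply]; have : γ i ≤ γ' i := hle i; omega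
    have hadd : toN (γ' - α) = δ + toN (γ - α) := by
      rw [← toN_add (fun i => by simp only [Pi.sub_apply]; have : γ i ≤ γ' i := hle i; omega) h.1]
      congr 1
      abel
    have e : (⟨monomial (toN (γ' - α)) 1, h'.2⟩ : I) =
        (monomial δ (1 : k)) • (⟨monomial (toN (γ - α)) 1, h.2⟩ : I) := Subtype.ext (by
      simp only [SetLike.val_smul, smul_eq_mul, monomial_mul, one_mul, hadd])
    rw [e, map_smul]
    show _ = qz hI γ' (Ideal.Quotient.mk I (monomial δ 1) * φ ⟨monomial (toN (γ - α)) 1, h.2⟩)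
    rw [qz_monomial_mul, if_pos hs, hδ, sub_sub_cancel]

open Classical in
/-- The monomial map with coefficients `f`, before restriction to `I`. -/
noncomputable def preMap (f : (σ → ℤ) → k) : MvPolynomial σ k →ₗ[k] MvPolynomial σ k ⧸ I :=
  (MvPolynomial.basisMonomials σ k).constr k fun β => f (toZ β + α) • mz (I := I) (toZ β + α)

theorem preMap_monomial (f : (σ → ℤ) → k) (β : σ →₀ ℕ) :
    preMap α (I := I) f (monomial β 1) = f (toZ β + α) • mz (I := I) (toZ β + α) := by
  classical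
  have h : monomial β (1 : k) = MvPolynomial.basisMonomials σ k β := by rw [coe_basisMonomials]
  rw [h, preMap, Module.Basis.constr_basis]

theorem qz_preMap {f : (σ → ℤ) → k} (hf : f ∈ RegFun I α) {β : σ →₀ ℕ} (hβ : β ∈ exps I) (γ : σ → ℤ) :
    qz hI γ (preMap α (I := I) f (monomial β 1)) = open Classical in if γ = toZ β + α then f γ else 0 := by
  classical
  rw [preMap_monomial, map_smul, smul_eq_mul]
  by_cases hn : NN (toZ β + α)
  · rw [qz_mz hI _ _ hn]
    split_ifs with h1 h2 h2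
    · rw [mul_one, h1.1]
    · exact absurd h1.1.symm h2
    · rw [mul_zero]
      exact (hf.1 γ fun h => h1 ⟨h2.symm, h.1⟩).symm
    · rw [mul_zero]
  · rw [hf.1 _ (fun h => hn h.1.1), zero_mul]
    split_ifs with h
    · exact (hf.1 γ fun h' => hn (h ▸ h'.1.1)).symm
    · rfl

include hI in
theorem preMap_monomial_mul {f : (σ → ℤ) → k} (hf : f ∈ RegFun I α) (δ : σ →₀ ℕ) {β : σ →₀ ℕ} (hβ : β ∈ exps I) :
    preMap α (I := I) f (monomial δ 1 * monomial β 1) =
      Ideal.Quotient.mk I (monomial δ 1) * preMap α (I := I) f (monomial β 1) := by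
  classical
  refine eq_of_qz hI fun γ => ?_
  have hβ' : δ + β ∈ exps I := exps_mono hβ le_add_self
  have e : toZ (δ + β) = toZ δ + toZ β := funext fun i => by simp [toZ]
  rw [monomial_mul, one_mul, qz_preMap hI α hf hβ', qz_monomial_mul, qz_preMap hI α hf hβ, e]
  have hiff : γ - toZ δ = toZ β + α ↔ γ = toZ δ + toZ β + α := by rw [sub_eq_iff_eq_add]; constructor <;> intro h <;> rw [h] <;> abel
  by_cases hs : γ ∈ stand I
  · rw [if_pos hs]
    by_cases h : γ = toZ δ + toZ β + α
    · rw [if_pos h, if_pos (hiff.mpr h)]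
      refine (hf.2 _ γ ?_ (fun i => by simp only [Pi.sub_apply, toZ_apply]; omega) hs).symm
      rw [hiff.mpr h, add_sub_cancel_right]
      exact toZ_mem_expZ.mpr hβ
    · rw [if_neg h, if_neg (fun h' => h (hiff.mp h'))]
  · rw [if_neg hs]
    split_ifs with h
    · exact hf.1 γ fun h' => hs h'.1
    · rfl

include hI in
theorem preMap_mul {f : (σ → ℤ) → k} (hf : f ∈ RegFun I α) (s : MvPolynomial σ k) {p : MvPolynomial σ k}
    (hp : p ∈ I) : preMap α (I := I) f (s * p) = Ideal.Quotient.mk I s * preMap α (I := I) f p := by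
  classical
  have hmono : ∀ (δ : σ →₀ ℕ) (c : k), monomial δ c = c • monomial δ (1 : k) := fun δ c => by
    rw [smul_monomial, smul_eq_mul, mul_one]
  induction s using MvPolynomial.induction_on' with
  | monomial δ c =>
    rw [hmono δ c, smul_mul_assoc, map_smul, show Ideal.Quotient.mk I (c • monomial δ (1 : k)) =
      c • Ideal.Quotient.mk I (monomial δ 1) from map_smul (Ideal.Quotient.mkₐ k I) c _, smul_mul_assoc]
    congr 1
    rw [as_sum p, Finset.mul_sum, map_sum, map_sum, Finset.mul_sum]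
    refine Finset.sum_congr rfl fun β hβ => ?_
    rw [hmono β (coeff β p), mul_smul_comm, map_smul, map_smul, mul_smul_comm,
      preMap_monomial_mul hI α hf δ (hI p hp β hβ)]
  | add s t hs ht => rw [add_mul, map_add, map_add, add_mul, hs, ht]

/-- The map with coefficients `f`. -/
noncomputable def ofFun (f : RegFun I α) : Tgt I where
  toFun p := preMap α (I := I) f.1 p.1
  map_add' p q := by rw [Submodule.coe_add, map_add]
  map_smul' s p := preMap_mul hI α f.2 s p.2

theorem ofFun_apply (f : RegFun I α) {β : σ →₀ ℕ} (hβ : β ∈ exps I) :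
    ofFun hI α f ⟨monomial β 1, hβ⟩ = f.1 (toZ β + α) • mz (I := I) (toZ β + α) := preMap_monomial α f.1 β

theorem ofFun_mem (f : RegFun I α) : ofFun hI α f ∈ tPiece I α := by
  intro β hβ
  refine ⟨fun h => ?_, fun h => ?_⟩
  · rw [ofFun_apply hI α f hβ]
    exact Submodule.smul_mem _ _ (Submodule.mem_span_singleton_self _)
  · rw [ofFun_apply hI α f hβ, f.2.1 _ (fun h' => ?_), zero_smul]
    obtain ⟨i, hi⟩ := h
    exact absurd (h'.1.1 i) (not_le.mpr hi)

theorem comp_ofFun (f : RegFun I α) : comp hI α (ofFun hI α f) = f.1 := funext fun γ => by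
  classical
  show dite _ _ _ = _
  split_ifs with h
  · show qz hI γ (preMap α (I := I) f.1 (monomial (toN (γ - α)) 1)) = _
    rw [qz_preMap hI α f.2 h.2, toZ_toN h.1, sub_add_cancel, if_pos rfl]
  · exact (f.2.1 γ fun h' => h h'.2).symm

theorem qz_piece {φ : Tgt I} (hφ : φ ∈ tPiece I α) {β : σ →₀ ℕ} (hβ : β ∈ exps I) (γ : σ → ℤ) :
    qz hI γ (φ ⟨monomial β 1, hβ⟩) = open Classical in if γ = toZ β + α then comp hI α φ γ else 0 := by
  classical
  split_ifs with h
  · subst h; exact (comp_apply_eq hI α hβ).symm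
  · by_cases hn : NN (toZ β + α)
    · obtain ⟨c, hc⟩ := Submodule.mem_span_singleton.mp ((hφ β hβ).1 hn)
      rw [← hc, show (shift β α) = toN (toZ β + α) from rfl, map_smul]
      rw [show Ideal.Quotient.mk I (monomial (toN (toZ β + α)) (1 : k)) = mz (I := I) (toZ β + α) from rfl,
        qz_mz hI _ _ hn, if_neg (fun e => h e.1.symm), smul_zero]
    · simp only [NN, not_forall, not_le] at hn
      rw [(hφ β hβ).2 hn, map_zero]

include hI in
theorem ext_monomial {φ ψ : Tgt I} (h : ∀ β (hβ : β ∈ exps I), φ ⟨monomial β 1, hβ⟩ = ψ ⟨monomial β 1, hβ⟩) : φ = ψ := by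
  classical
  ext p
  have hp : p = ∑ β : p.1.support, (C (σ := σ) (coeff β.1 p.1)) • (⟨monomial β.1 1, hI p.1 p.2 β.1 β.2⟩ : I) := by
    apply Subtype.ext
    rw [Submodule.coe_sum]
    simp only [SetLike.val_smul, smul_eq_mul, C_mul_monomial, mul_one]
    rw [Finset.sum_coe_sort p.1.support (fun β => monomial β (coeff β p.1))]
    exact as_sum p.1
  rw [hp, map_sum, map_sum]
  refine Finset.sum_congr rfl fun β _ => ?_
  rw [map_smul, map_smul]
  exact congrArg _ (h β.1 (hI p.1 p.2 β.1 β.2))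

theorem ofFun_comp {φ : Tgt I} (hφ : φ ∈ tPiece I α) : ofFun hI α ⟨comp hI α φ, comp_mem hI α φ⟩ = φ := by
  refine ext_monomial hI fun β hβ => eq_of_qz hI fun γ => ?_
  rw [qz_piece hI α hφ hβ]
  exact qz_preMap hI α (comp_mem hI α φ) hβ γ

/-- The piece of degree `α` is the space of functions on its region. -/
noncomputable def pieceEquiv : tPiece I α ≃ₗ[k] RegFun I α where
  toFun φ := ⟨comp hI α φ.1, comp_mem hI α φ.1⟩
  map_add' φ ψ := Subtype.ext (map_add (comp hI α) φ.1 ψ.1)
  map_smul' c φ := Subtype.ext (map_smul (comp hI α) c φ.1)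
  invFun f := ⟨ofFun hI α f, ofFun_mem hI α f⟩
  left_inv φ := Subtype.ext (ofFun_comp hI α φ.2)
  right_inv f := Subtype.ext (comp_ofFun hI α f)

include hI in
theorem finrank_tPiece : Module.finrank k (tPiece I α) = Module.finrank k (RegFun I α) :=
  (pieceEquiv hI α).finrank_eq

include hI in
theorem tPiece_eq_bot (h : ∀ f ∈ RegFun I α, f = 0) : tPiece I α = ⊥ := by
  rw [Submodule.eq_bot_iff]
  intro φ hφ
  rw [← ofFun_comp hI α hφ]
  have : (⟨comp hI α φ, comp_mem hI α φ⟩ : RegFun I α) = 0 := Subtype.ext (h _ (comp_mem hI α φ))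
  rw [this]
  refine ext_monomial hI fun β hβ => ?_
  rw [ofFun_apply]
  simp

include hI in
theorem tPiece_ne_bot {f : (σ → ℤ) → k} (hf : f ∈ RegFun I α) (hne : f ≠ 0) : tPiece I α ≠ ⊥ := by
  intro h
  have h1 : ofFun hI α ⟨f, hf⟩ = 0 := (Submodule.eq_bot_iff _).mp h _ (ofFun_mem hI α _)
  refine hne ?_
  have := comp_ofFun hI α ⟨f, hf⟩
  rw [h1, map_zero] at this
  exact this.symm

end Groth.Agent.Hilb37
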