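import Groth.Agent.Hilb37.TwoBlockCount

/-! The ideals `x0 (x0, …, x_{n-1}) + (x1^q)`. -/

set_option autoImplicit false

namespace Groth.Agent.Hilb37

open MvPolynomial W4c1hilbpn

variable {k : Type*} [Field k] {n q : ℕ}

variable (k) in
/-- The ideal. -/
noncomputable def blockPow (n q : ℕ) : Ideal (MvPolynomial (Fin (n + 1)) k) :=
  Ideal.span ({f : MvPolynomial (Fin (n + 1)) k | ∃ i : Fin (n + 1), i.val + 1 ≤ n ∧ f = MvPolynomial.X 0 * MvPolynomial.X i} ∪
    {MvPolynomial.X 1 ^ q})

/-- Exponents of its generators. -/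
def powGens (n q : ℕ) : Set (Fin (n + 1) →₀ ℕ) :=
  {g | (∃ i : Fin (n + 1), i.val + 1 ≤ n ∧ g = Finsupp.single 0 1 + Finsupp.single i 1) ∨ g = Finsupp.single 1 q}

theorem blockPow_eq (n q : ℕ) :
    blockPow k n q = Ideal.span ((fun β => monomial β (1 : k)) '' powGens n q) := by
  rw [blockPow]
  congr 1
  have e : ∀ (i : Fin (n + 1)), (X 0 : MvPolynomial (Fin (n + 1)) k) * X i =
      monomial (Finsupp.single 0 1 + Finsupp.single i 1) 1 := fun i => by
    rw [show (X i : MvPolynomial (Fin (n + 1)) k) = monomial (Finsupp.single i 1) 1 from rfl,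
      show (X 0 : MvPolynomial (Fin (n + 1)) k) = monomial (Finsupp.single 0 1) 1 from rfl, monomial_mul, one_mul]
  ext f
  constructor
  · rintro (⟨i, hi, rfl⟩ | rfl)
    · exact ⟨_, Or.inl ⟨i, hi, rfl⟩, (e i).symm⟩
    · exact ⟨_, Or.inr rfl, (X_pow_eq_monomial).symm⟩
  · rintro ⟨_, ⟨i, hi, rfl⟩ | rfl, rfl⟩
    · exact Or.inl ⟨i, hi, (e i).symm⟩
    · exact Or.inr (X_pow_eq_monomial).symm

theorem isMonomial_blockPow (n q : ℕ) : IsMonomial (blockPow k n q) := by
  rw [blockPow_eq]; exact isMonomial_span _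

theorem mem_expZ_pow (hn : 2 ≤ n) {x : Fin (n + 1) → ℤ} : x ∈ expZ (blockPow k n q) ↔ NN x ∧
    ((∃ i : Fin (n + 1), i.val + 1 ≤ n ∧ 1 ≤ x 0 ∧ (i.val = 0 → 2 ≤ x 0) ∧ 1 ≤ x i) ∨ (q : ℤ) ≤ x 1) := by
  rw [blockPow_eq, mem_expZ_span]
  refine and_congr_right fun hx => ⟨?_, ?_⟩
  · rintro ⟨g, (⟨i, hi, rfl⟩ | rfl), hle⟩
    · obtain ⟨ha, hb⟩ := (single_le_iff' hx _ _ _).mp hle
      refine Or.inl ⟨i, hi, ?_, fun e => ?_, by omega⟩
      · split_ifs at ha <;> omega
      · rw [if_pos (Fin.ext (by simp [e]))] at ha; omega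
    · have h := hle 1
      simp only [toZ_apply, Finsupp.single_eq_same] at h
      exact Or.inr h
  · rintro (⟨i, hi, h0, h00, hi1⟩ | h)
    · refine ⟨_, Or.inl ⟨i, hi, rfl⟩, (single_le_iff' hx _ _ _).mpr ⟨?_, by omega⟩⟩
      split_ifs with e
      · have := h00 (by rw [← e]; rfl); omega
      · omega
    · refine ⟨_, Or.inr rfl, fun y => ?_⟩
      by_cases hy : y = 1
      · subst hy; simp only [toZ_apply, Finsupp.single_eq_same]; exact h
      · simp only [toZ_apply, Finsupp.single_eq_of_ne hy]; exact hx y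

theorem mem_stand_pow (hn : 2 ≤ n) {x : Fin (n + 1) → ℤ} : x ∈ stand (blockPow k n q) ↔ NN x ∧
    (∀ i : Fin (n + 1), i.val + 1 ≤ n → ¬ (1 ≤ x 0 ∧ (i.val = 0 → 2 ≤ x 0) ∧ 1 ≤ x i)) ∧ x 1 < (q : ℤ) := by
  constructor
  · intro h
    have h' := not_expZ_of_stand h
    rw [mem_expZ_pow hn] at h'
    exact ⟨h.1, fun i hi hc => h' ⟨h.1, Or.inl ⟨i, hi, hc⟩⟩, lt_of_not_ge fun hc => h' ⟨h.1, Or.inr hc⟩⟩
  · rintro ⟨hn', hA, hB⟩
    refine (stand_or_expZ hn').resolve_right fun h => ?_
    rw [mem_expZ_pow hn] at h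
    rcases h.2 with ⟨i, hi, hc⟩ | hc
    · exact hA i hi hc
    · omega

theorem pow_head (hn : 2 ≤ n) {x : Fin (n + 1) → ℤ} (h : x ∈ stand (blockPow k n q)) (h0 : 1 ≤ x 0) :
    x 0 = 1 ∧ ∀ i : Fin (n + 1), 1 ≤ i.val → i.val < n → x i = 0 := by
  obtain ⟨hx, hA, -⟩ := (mem_stand_pow hn).mp h
  refine ⟨?_, fun i h1 h2 => ?_⟩
  · by_contra hc
    exact hA 0 (by simp; omega) ⟨h0, fun _ => by omega, h0⟩
  · by_contra hc
    exact hA i (by omega) ⟨h0, fun e => by omega, by have := hx i; omega⟩

theorem genA_mem_pow (hn : 2 ≤ n) {i : ℕ} (hi : i + 1 ≤ n) : genA n i ∈ expZ (blockPow k n q) := by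
  rw [mem_expZ_pow hn]
  refine ⟨fun x => by simp only [genA, eN]; split_ifs <;> omega, Or.inl ⟨⟨i, by omega⟩, hi, ?_, fun e => ?_, ?_⟩⟩ <;>
    simp [genA, eN] at * <;> split_ifs <;> omega

/-- The generator `x1^q`. -/
def genP (n q : ℕ) : Fin (n + 1) → ℤ := fun x => (q : ℤ) * eN n 1 x

theorem genP_mem (hn : 2 ≤ n) : genP n q ∈ expZ (blockPow k n q) := by
  rw [mem_expZ_pow hn]
  refine ⟨fun x => by simp only [genP, eN]; split_ifs <;> omega, Or.inr ?_⟩
  simp only [genP, eN, val_one_fin (show 1 ≤ n by omega)]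
  norm_num

theorem pow_gen_cases (hn : 2 ≤ n) {x : Fin (n + 1) → ℤ} (h : x ∈ expZ (blockPow k n q)) :
    ∃ g, ((∃ i, i + 1 ≤ n ∧ g = genA n i) ∨ g = genP n q) ∧ g ≤ x := by
  have hone := val_one_fin (show 1 ≤ n by omega)
  obtain ⟨hx, ⟨i, hi, c0, c00, ci⟩ | hc⟩ := (mem_expZ_pow hn).mp h
  · refine ⟨genA n i.val, Or.inl ⟨_, hi, rfl⟩, fun y => ?_⟩
    show eN n 0 y + eN n i.val y ≤ x y
    have := hx y
    by_cases hy : y.val = i.val
    · obtain rfl : y = i := Fin.ext hy
      by_cases hy0 : y.val = 0
      · obtain rfl : y = 0 := Fin.ext hy0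
        have := c00 rfl
        simp only [eN]; split_ifs <;> first | omega | contradiction
      · simp only [eN]; split_ifs <;> first | omega | contradiction
    · by_cases hy0 : y.val = 0
      · obtain rfl : y = 0 := Fin.ext hy0
        simp only [eN]; split_ifs <;> first | omega | contradiction
      · simp only [eN]; split_ifs <;> first | omega | contradiction
  · refine ⟨genP n q, Or.inr rfl, fun y => ?_⟩
    show (q : ℤ) * eN n 1 y ≤ x y
    have := hx y
    simp only [eN, mul_ite, mul_one, mul_zero]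
    by_cases hy1 : y.val = 1
    · obtain rfl : y = 1 := Fin.ext (by omega)
      split_ifs <;> first | omega | contradiction
    · split_ifs <;> first | omega | contradiction

/-- The exponents of degree `q` in `x_1, …, x_n` other than `x_1^q` and `x_n^q`. -/
noncomputable def qSet (n q : ℕ) : Finset (Fin (n + 1) →₀ ℕ) := (fSet n q).erase (Finsupp.single (Fin.last n) q)

theorem mem_qSet {f : Fin (n + 1) →₀ ℕ} : f ∈ qSet n q ↔ f ≠ Finsupp.single (Fin.last n) q ∧ f ∈ fSet n q :=
  Finset.mem_erase

theorem card_qSet (hn : 2 ≤ n) (hq : 1 ≤ q) : (qSet n q).card = (n + q - 1).choose q - 2 := by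
  classical
  have hone := val_one_fin (show 1 ≤ n by omega)
  rw [qSet, Finset.card_erase_of_mem, card_fSet (by omega)]
  · omega
  · refine mem_fSet.mpr ⟨fun e => ?_, ?_, ?_⟩
    · have := congrArg (fun f => f (Fin.last n)) e
      simp only [Finsupp.single_eq_same] at this
      rw [Finsupp.single_eq_of_ne fun e' => by have := congrArg Fin.val e'; rw [hone, Fin.val_last] at this; omega] at this
      omega
    · rw [Finsupp.single_eq_of_ne fun e' => by have := congrArg Fin.val e'; simp at this; omega]
    · rw [Finset.sum_eq_single (Fin.last n) (fun i _ hi => Finsupp.single_eq_of_ne hi) (fun h => absurd (Finset.mem_univ _) h),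
        Finsupp.single_eq_same]

/-- The indices. -/
abbrev PIdx (n q : ℕ) := Fin n ⊕ Unit ⊕ Fin n ⊕ ↥(qSet n q)

/-- Degrees. -/
noncomputable def pAl (n q : ℕ) : PIdx n q → Fin (n + 1) → ℤ
  | .inl i => fun x => eN n n x - eN n i x
  | .inr (.inl _) => fun x => eN n 0 x + ((q : ℤ) - 1) * eN n n x - genP n q x
  | .inr (.inr (.inl l)) => fun x => eN n (l + 1) x - eN n 0 x
  | .inr (.inr (.inr f)) => fun x => (f.1 x : ℤ) - genP n q x

/-- Points. -/
noncomputable def pS (n q : ℕ) : PIdx n q → Fin (n + 1) → ℤ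
  | .inl _ => fun x => eN n 0 x + eN n n x
  | .inr (.inl _) => fun x => eN n 0 x + ((q : ℤ) - 1) * eN n n x
  | .inr (.inr (.inl l)) => fun x => eN n (n - 1) x + eN n (l + 1) x
  | .inr (.inr (.inr f)) => fun x => (f.1 x : ℤ)

/-- Regions. -/
def pU (n q : ℕ) : PIdx n q → (Fin (n + 1) → ℤ) → Prop
  | .inl _ => fun γ => 1 ≤ γ 0
  | .inr (.inl _) => fun _ => True
  | .inr (.inr _) => fun γ => γ 0 = 0

theorem sum_pAl (hn : 2 ≤ n) (t : PIdx n q) : ∑ x, pAl n q t x = 0 := by
  rcases t with i | j | l | f
  all_goals simp only [pAl, genP, Finset.sum_sub_distrib, Finset.sum_add_distrib, ← Finset.mul_sum]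
  · rw [sum_eN le_rfl, sum_eN (by omega)]; ring
  · rw [sum_eN (Nat.zero_le _), sum_eN le_rfl, sum_eN (by omega)]; ring
  · rw [sum_eN (by omega), sum_eN (Nat.zero_le _)]; ring
  · rw [sum_eN (by omega), mul_one, sub_eq_zero]
    exact_mod_cast (mem_fSet.mp (mem_qSet.mp f.2).2).2.2

theorem qSet_ne_last {f : Fin (n + 1) →₀ ℕ} (hf : f ∈ qSet n q) (h : ∀ x : Fin (n + 1), x.val < n → f x = 0) : False := by
  obtain ⟨hne, hmem⟩ := mem_qSet.mp hf
  refine hne (Finsupp.ext fun x => ?_)
  by_cases hx : x = Fin.last n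
  · subst hx
    rw [Finsupp.single_eq_same, ← (mem_fSet.mp hmem).2.2,
      Finset.sum_eq_single (Fin.last n) (fun i _ hi => h i ?_) (fun h => absurd (Finset.mem_univ _) h)]
    exact lt_of_le_of_ne (Nat.lt_succ_iff.mp i.isLt) fun e => hi (Fin.ext e)
  · rw [Finsupp.single_eq_of_ne hx]
    exact h x (lt_of_le_of_ne (Nat.lt_succ_iff.mp x.isLt) fun e => hx (Fin.ext e))

set_option maxHeartbeats 1000000 in
theorem pU_valid1 (hn : 3 ≤ n) (hq : 2 ≤ q) (t : PIdx n q) :
    ∀ γ γ', γ - pAl n q t ∈ expZ (blockPow k n q) → γ ≤ γ' → γ' ∈ stand (blockPow k n q) →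
      pU n q t γ' → NN γ ∧ pU n q t γ := by
  intro γ γ' he hle' hs hU
  have hle : ∀ x, γ x ≤ γ' x := hle'
  have hone := val_one_fin (show 1 ≤ n by omega)
  have hz : ((0 : Fin (n + 1)) : ℕ) = 0 := rfl
  obtain ⟨hge', hI⟩ := (mem_expZ_pow (by omega : 2 ≤ n)).mp he
  simp only [Pi.sub_apply] at hI
  have hge : ∀ x, pAl n q t x ≤ γ x := fun x => sub_nonneg.mp (hge' x)
  obtain ⟨hx', hA, hB⟩ := (mem_stand_pow (by omega : 2 ≤ n)).mp hs
  have hhead := pow_head (by omega : 2 ≤ n) hs
  have l0 := hle 0
  have l1 := hle 1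
  have g0 := hge 0
  have g1 := hge 1
  rcases t with i | j | l | f <;> simp only [pU] at hU ⊢ <;>
    simp only [pAl, genP, eN, hone, hz, mul_ite, mul_one, mul_zero] at g0 g1 hge hI
  · obtain ⟨e0, emid⟩ := hhead hU
    have := emid 1 (by omega) (by omega)
    have hi := i.isLt
    have hlow : 1 ≤ γ 0 ∧ (1 ≤ i.val → 0 ≤ γ ⟨i.val, by omega⟩) := by
      rcases hI with ⟨a, ha, c0, c00, ca⟩ | cq
      · have := hle a
        by_cases ha0 : a.val = 0
        · obtain rfl : a = 0 := Fin.ext ha0
          have := c00 rfl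
          refine ⟨by split_ifs at * <;> first | omega | contradiction, fun h => ?_⟩
          split_ifs at * <;> first | omega | contradiction
        · have := emid a (by omega) (by omega)
          have hai : a.val = i.val := by split_ifs at * <;> first | omega | contradiction
          refine ⟨by split_ifs at * <;> first | omega | contradiction, fun _ => ?_⟩
          rw [show (⟨i.val, by omega⟩ : Fin (n + 1)) = a from Fin.ext hai.symm]
          split_ifs at * <;> first | omega | contradiction
      · split_ifs at * <;> first | omega | contradiction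
    refine ⟨fun x => ?_, hlow.1⟩
    have := hge x
    by_cases hx : x.val = i.val
    · by_cases h : 1 ≤ i.val
      · rw [show x = ⟨i.val, by omega⟩ from Fin.ext hx]; exact hlow.2 h
      · rw [show x = 0 from Fin.ext (by simp; omega)]; omega
    · split_ifs at * <;> first | omega | contradiction
  · have h0 : 1 ≤ γ' 0 := by split_ifs at * <;> first | omega | contradiction
    obtain ⟨e0, emid⟩ := hhead h0
    have := emid 1 (by omega) (by omega)
    have h1 : 0 ≤ γ 1 := by
      rcases hI with ⟨a, ha, c0, c00, ca⟩ | cq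
      · exfalso; split_ifs at * <;> first | omega | contradiction
      · split_ifs at * <;> first | omega | contradiction
    refine ⟨fun x => ?_, trivial⟩
    have := hge x
    by_cases hx : x.val = 1
    · rw [show x = 1 from Fin.ext (by omega)]; exact h1
    · split_ifs at * <;> first | omega | contradiction
  · have hl := l.isLt
    have h0 : 0 ≤ γ 0 := by
      rcases hI with ⟨a, ha, c0, c00, ca⟩ | cq
      · split_ifs at * <;> first | omega | contradiction
      · split_ifs at * <;> first | omega | contradiction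
    refine ⟨fun x => ?_, by omega⟩
    have := hge x
    by_cases hx : x.val = 0
    · rw [show x = 0 from Fin.ext hx]; exact h0
    · split_ifs at * <;> first | omega | contradiction
  · obtain ⟨-, hf0, -⟩ := mem_fSet.mp (mem_qSet.mp f.2).2
    have h1 : 0 ≤ γ 1 := by
      by_contra hc
      rcases hI with ⟨a, ha, c0, c00, ca⟩ | cq
      · split_ifs at * <;> first | omega | contradiction
      · split_ifs at * <;> first | omega | contradiction
    refine ⟨fun x => ?_, ?_⟩
    · have := hge x
      by_cases hx : x.val = 1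
      · rw [show x = 1 from Fin.ext (by omega)]; exact h1
      · split_ifs at * <;> first | omega | contradiction
    · split_ifs at * <;> first | omega | contradiction

set_option maxHeartbeats 1000000 in
theorem pU_valid2 (hn : 3 ≤ n) (hq : 2 ≤ q) (t : PIdx n q) :
    ∀ γ γ', γ - pAl n q t ∈ expZ (blockPow k n q) → γ ≤ γ' → γ' ∈ stand (blockPow k n q) →
      NN γ → pU n q t γ → pU n q t γ' := by
  intro γ γ' he hle' hs hn0 hU
  have hle : ∀ x, γ x ≤ γ' x := hle'
  have hone := val_one_fin (show 1 ≤ n by omega)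
  have hz : ((0 : Fin (n + 1)) : ℕ) = 0 := rfl
  obtain ⟨hge', hI⟩ := (mem_expZ_pow (by omega : 2 ≤ n)).mp he
  simp only [Pi.sub_apply] at hI
  have hge : ∀ x, pAl n q t x ≤ γ x := fun x => sub_nonneg.mp (hge' x)
  have hhead := pow_head (by omega : 2 ≤ n) hs
  have l0 := hle 0
  have l1 := hle 1
  have n1 := hn0 1
  have n0' := hs.1 0
  rcases t with i | j | l | f <;> simp only [pU] at hU ⊢ <;>
    simp only [pAl, genP, eN, hone, hz, mul_ite, mul_one, mul_zero] at hge hI
  · omega
  · by_contra hc
    obtain ⟨e0, emid⟩ := hhead (by omega)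
    have := emid 1 (by omega) (by omega)
    rcases hI with ⟨a, ha, c0, c00, ca⟩ | cq
    · by_cases ha0 : a.val = 0
      · have := c00 ha0; split_ifs at * <;> first | omega | contradiction
      · have := emid a (by omega) (by omega)
        have := hle a; have := hn0 a
        split_ifs at * <;> first | omega | contradiction
    · split_ifs at * <;> first | omega | contradiction
  · by_contra hc
    obtain ⟨e0, emid⟩ := hhead (by omega)
    have := emid 1 (by omega) (by omega)
    obtain ⟨-, hf0, -⟩ := mem_fSet.mp (mem_qSet.mp f.2).2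
    rcases hI with ⟨a, ha, c0, c00, ca⟩ | cq
    · split_ifs at * <;> first | omega | contradiction
    · refine qSet_ne_last f.2 fun x hx => ?_
      by_cases h0 : x.val = 0
      · rw [show x = 0 from Fin.ext h0]; exact hf0
      by_cases h1 : x.val = 1
      · rw [show x = 1 from Fin.ext (by omega)]
        split_ifs at * <;> first | omega | contradiction
      · have := hge x; have := hle x; have := emid x (by omega) hx
        split_ifs at * <;> first | omega | contradiction

theorem pS_facts (hn : 3 ≤ n) (hq : 2 ≤ q) (t : PIdx n q) :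
    pS n q t ∈ stand (blockPow k n q) ∧ pS n q t - pAl n q t ∈ expZ (blockPow k n q) ∧ pU n q t (pS n q t) := by
  have hone := val_one_fin (show 1 ≤ n by omega)
  have hz : ((0 : Fin (n + 1)) : ℕ) = 0 := rfl
  rw [mem_stand_pow (by omega : 2 ≤ n)]
  rcases t with i | j | l | f
  · have hi := i.isLt
    have e : pS n q (.inl i) - pAl n q (.inl i) = genA n i.val := funext fun x => by simp only [Pi.sub_apply, pS, pAl, genA]; ring
    refine ⟨⟨fun x => by simp only [pS, eN]; split_ifs <;> omega, fun a ha => ?_, ?_⟩,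
      e ▸ genA_mem_pow (by omega) (by omega), ?_⟩
    all_goals simp only [pS, pU, eN, hone, hz, mul_ite, mul_one, mul_zero]
    · rintro ⟨c1, c2, c3⟩; split_ifs at * <;> first | omega | contradiction
    · split_ifs <;> first | omega | contradiction
    · split_ifs <;> first | omega | contradiction
  · have e : pS n q (.inr (.inl j)) - pAl n q (.inr (.inl j)) = genP n q := funext fun x => by
      simp only [Pi.sub_apply, pS, pAl]; ring
    refine ⟨⟨fun x => by simp only [pS, eN, mul_ite, mul_one, mul_zero]; split_ifs <;> omega, fun a ha => ?_, ?_⟩,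
      e ▸ genP_mem (by omega), ?_⟩
    all_goals simp only [pS, pU, eN, hone, hz, mul_ite, mul_one, mul_zero]
    · rintro ⟨c1, c2, c3⟩; split_ifs at * <;> first | omega | contradiction
    · split_ifs <;> first | omega | contradiction
  · have hl := l.isLt
    have e : pS n q (.inr (.inr (.inl l))) - pAl n q (.inr (.inr (.inl l))) = genA n (n - 1) := funext fun x => by
      simp only [Pi.sub_apply, pS, pAl, genA]; ring
    refine ⟨⟨fun x => by simp only [pS, eN]; split_ifs <;> omega, fun a ha => ?_, ?_⟩,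
      e ▸ genA_mem_pow (by omega) (by omega), ?_⟩
    all_goals simp only [pS, pU, eN, hone, hz, mul_ite, mul_one, mul_zero]
    · rintro ⟨c1, c2, c3⟩; split_ifs at * <;> first | omega | contradiction
    · split_ifs <;> first | omega | contradiction
    · split_ifs <;> first | omega | contradiction
  · obtain ⟨-, hf0, -⟩ := mem_fSet.mp (mem_qSet.mp f.2).2
    have hlt := fSet_lt (mem_qSet.mp f.2).2
    have e : pS n q (.inr (.inr (.inr f))) - pAl n q (.inr (.inr (.inr f))) = genP n q := funext fun x => by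
      simp only [Pi.sub_apply, pS, pAl]; ring
    refine ⟨⟨fun x => by simp only [pS]; omega, fun a ha => ?_, ?_⟩, e ▸ genP_mem (by omega), ?_⟩
    all_goals simp only [pS, pU, hf0, Nat.cast_zero]
    · rintro ⟨c1, c2, c3⟩; omega
    · omega

set_option maxHeartbeats 1000000 in
theorem pS_separate (hn : 3 ≤ n) (hq : 2 ≤ q) (t t' : PIdx n q) (e : pAl n q t' = pAl n q t) (hne : t' ≠ t) :
    ¬ pU n q t (pS n q t') := by
  intro hU
  refine hne ?_
  have hone := val_one_fin (show 1 ≤ n by omega)
  have hz : ((0 : Fin (n + 1)) : ℕ) = 0 := rfl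
  have e0 := congrFun e 0
  have e1 := congrFun e 1
  rcases t with i | j | l | f <;> rcases t' with i' | j' | l' | f' <;>
    simp only [pU, pS, pAl, genP, eN, hone, hz, mul_ite, mul_one, mul_zero] at e0 e1 hU
  all_goals try (have hf := (mem_fSet.mp (mem_qSet.mp f.2).2).2.1)
  all_goals try (have hf' := (mem_fSet.mp (mem_qSet.mp f'.2).2).2.1)
  all_goals try (exfalso; split_ifs at * <;> first | omega | contradiction)
  · have h := congrFun e ⟨i'.val, by omega⟩
    simp only [pAl, eN] at h
    refine congrArg _ (Fin.ext ?_)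
    split_ifs at * <;> first | omega | contradiction
  · rfl
  · have h := congrFun e ⟨l'.val + 1, by omega⟩
    simp only [pAl, eN] at h
    refine congrArg _ (congrArg _ (congrArg _ (Fin.ext ?_)))
    split_ifs at * <;> first | omega | contradiction
  · refine congrArg _ (congrArg _ (congrArg _ (Subtype.ext (Finsupp.ext fun x => ?_))))
    have h := congrFun e x
    simp only [pAl] at h
    exact_mod_cast sub_left_inj.mp h

theorem pow_link (hn : 2 ≤ n) {α : Fin (n + 1) → ℤ} {f : (Fin (n + 1) → ℤ) → k}
    (hf : f ∈ RegFun (blockPow k n q) α) {i j : ℕ} (hi : i + 1 ≤ n) (hj : j + 1 ≤ n)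
    (hst : (fun x => (genA n i + α) x + eN n j x) ∈ stand (blockPow k n q)) :
    f (genA n i + α) = f (genA n j + α) := by
  refine RegFun.link hf (g := genA n i) (h := genA n j) (l := fun x => genA n i x + eN n j x)
      (genA_mem_pow hn hi) (genA_mem_pow hn hj) (fun x => ?_) (fun x => ?_) ?_
  · show genA n i x ≤ genA n i x + eN n j x
    simp only [eN]; split_ifs <;> omega
  · show genA n j x ≤ genA n i x + eN n j x
    simp only [genA, eN]; split_ifs <;> omega
  · rwa [add_eN_sub _ _ α rfl]

theorem pow_stand_add {γ : Fin (n + 1) → ℤ} (hn : 2 ≤ n) (h : γ ∈ stand (blockPow k n q)) (h0 : γ 0 = 0) {v : ℕ}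
    (hv1 : 1 ≤ v) (hv : v = 1 → γ 1 + 1 < q) : (fun x => γ x + eN n v x) ∈ stand (blockPow k n q) := by
  have hone := val_one_fin (show 1 ≤ n by omega)
  obtain ⟨hx, -, hB⟩ := (mem_stand_pow hn).mp h
  refine (mem_stand_pow hn).mpr ⟨fun x => by have := hx x; simp only [eN]; split_ifs <;> omega, fun i hi => ?_, ?_⟩
  · rintro ⟨c, -, -⟩
    simp only [eN, Fin.val_zero] at c
    split_ifs at c <;> omega
  · simp only [eN, hone]
    by_cases e : v = 1
    · have := hv e; rw [if_pos e.symm]; omega
    · rw [if_neg (Ne.symm e)]; omega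

theorem pow_injective (hcase : (n = 3 ∧ 4 ≤ q) ∨ (4 ≤ n ∧ 2 ≤ q)) (α : Fin (n + 1) → ℤ) (hα : ∑ x, α x = 0)
    (f : (Fin (n + 1) → ℤ) → k) (hf : f ∈ RegFun (blockPow k n q) α)
    (hrep : ∀ t, pAl n q t = α → f (pS n q t) = 0) : f = 0 := by
  classical
  have hn : 2 ≤ n := by omega
  have hone := val_one_fin (show 1 ≤ n by omega)
  have hz : ((0 : Fin (n + 1)) : ℕ) = 0 := rfl
  refine RegFun.eq_zero_of_gen (I := blockPow k n q) (fun g => (∃ i, i + 1 ≤ n ∧ g = genA n i) ∨ g = genP n q)
    (fun x hx => pow_gen_cases hn hx) (fun g hg => ?_) hf fun g hg hs => ?_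
  · rcases hg with ⟨i, hi, rfl⟩ | rfl
    · exact genA_mem_pow hn hi
    · exact genP_mem hn
  have hlast : ∀ (hs : genA n (n - 1) + α ∈ stand (blockPow k n q)), (genA n (n - 1) + α) 0 = 0 →
      f (genA n (n - 1) + α) = 0 := fun hs h0 => by
    set μ := genA n (n - 1) + α with hμ
    have hsum : ∑ x, μ x = 2 := by
      simp only [hμ, Pi.add_apply, Finset.sum_add_distrib, sum_genA (show n - 1 ≤ n by omega), hα, add_zero]
    by_cases hμn : 1 ≤ μ ⟨n - 1, by omega⟩
    · obtain ⟨l, hl, hl'⟩ := eq_eN_of_sum (γ := fun x => μ x - eN n (n - 1) x) (fun x => by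
        have := hs.1 x
        by_cases hx : x.val = n - 1
        · rw [show x = ⟨n - 1, by omega⟩ from Fin.ext hx]; simp [eN]; omega
        · simp [eN, hx]; omega) (by rw [Finset.sum_sub_distrib, hsum, sum_eN (by omega)]; norm_num)
      have h00 := congrFun hl' 0
      have hl0 : l ≠ 0 := fun e => by
        subst e
        simp only [eN, hz, h0] at h00
        split_ifs at h00 <;> omega
      have e : pS n q (.inr (.inr (.inl ⟨l - 1, by omega⟩))) = μ := funext fun x => by
        have := congrFun hl' x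
        simp only [pS, show l - 1 + 1 = l by omega] at this ⊢
        omega
      rw [← e]
      refine hrep _ (funext fun x => ?_)
      have h1 := congrFun hl' x
      simp only [hμ, Pi.add_apply, genA] at h1
      simp only [pAl, show l - 1 + 1 = l by omega]
      omega
    · have hμ1 : μ 1 ≤ 2 := hsum ▸ Finset.single_le_sum (fun i _ => hs.1 i) (Finset.mem_univ _)
      obtain ⟨v, hv1, hv2, hv⟩ : ∃ v, 1 ≤ v ∧ v + 2 ≤ n ∧ (v = 1 → μ 1 + 1 < q) := by
        rcases hcase with ⟨e, h4⟩ | ⟨h4, -⟩
        · exact ⟨1, le_rfl, by omega, fun _ => by omega⟩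
        · exact ⟨2, by omega, by omega, fun e => by omega⟩
      rw [pow_link hn hf (i := n - 1) (j := v) (by omega) (by omega) (pow_stand_add hn hs h0 hv1 hv)]
      refine hf.1 _ fun h => ?_
      have h' := h.1.1 ⟨n - 1, by omega⟩
      simp only [hμ, Pi.add_apply, genA, eN] at h' hμn
      split_ifs at * <;> first | omega | contradiction
  rcases hg with ⟨i, hi, rfl⟩ | rfl
  · set μ := genA n i + α with hμ
    have hsum : ∑ x, μ x = ((1 : ℕ) : ℤ) + 1 := by
      simp only [hμ, Pi.add_apply, Finset.sum_add_distrib, sum_genA (show i ≤ n by omega), hα]; norm_num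
    by_cases h0 : 1 ≤ μ 0
    · have e := eq_eN_of_mid_zero (pow_head hn hs h0).1 (pow_head hn hs h0).2 hsum (by omega)
      have e' : pS n q (.inl ⟨i, by omega⟩) = μ := funext fun x => by rw [e]; simp [pS]
      rw [← e']
      refine hrep _ (funext fun x => ?_)
      have h1 := congrFun e x
      simp only [hμ, Pi.add_apply, genA, Nat.cast_one, one_mul] at h1
      simp only [pAl]
      omega
    · have h0' : μ 0 = 0 := by have := hs.1 0; omega
      by_cases hin : i = n - 1
      · subst hin; exact hlast hs h0'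
      · rw [pow_link hn hf hi (j := n - 1) (by omega) (pow_stand_add hn hs h0' (v := n - 1) (by omega) (fun e => by omega))]
        by_cases hs' : genA n (n - 1) + α ∈ stand (blockPow k n q)
        · by_cases hi0 : i = 0
          · exfalso
            subst hi0
            have := hs'.1 0
            simp only [hμ, Pi.add_apply, genA, eN, hz] at h0' this
            split_ifs at * <;> first | omega | contradiction
          · refine hlast hs' ?_
            simp only [hμ, Pi.add_apply, genA, eN, hz] at h0' ⊢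
            split_ifs at * <;> first | omega | contradiction
        · exact hf.1 _ fun h => hs' h.1
  · set ν := genP n q + α with hν
    obtain ⟨hnn, hA, hB⟩ := (mem_stand_pow hn).mp hs
    have hsum : ∑ x, ν x = ((q - 1 : ℕ) : ℤ) + 1 := by
      simp only [hν, Pi.add_apply, genP, Finset.sum_add_distrib, ← Finset.mul_sum, sum_eN (show 1 ≤ n by omega), hα]
      omega
    by_cases h0 : 1 ≤ ν 0
    · have e := eq_eN_of_mid_zero (pow_head hn hs h0).1 (pow_head hn hs h0).2 hsum (by omega)
      have hc : (((q - 1 : ℕ) : ℤ)) = (q : ℤ) - 1 := by omega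
      have e' : pS n q (.inr (.inl ())) = ν := funext fun x => by rw [e]; simp only [pS, hc]
      rw [← e']
      refine hrep _ (funext fun x => ?_)
      have h1 := congrFun e x
      simp only [hν, Pi.add_apply, hc] at h1
      simp only [pAl]
      linarith
    · have h0' : ν 0 = 0 := by have := hnn 0; omega
      by_cases hlast' : ∀ x : Fin (n + 1), x.val < n → ν x = 0
      · -- `x1^q ↦ xn^q`
        rw [RegFun.link hf (g := genP n q) (h := genA n 1) (l := fun x => genP n q x + eN n 0 x) (genP_mem hn)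
          (genA_mem_pow hn (by omega)) (fun x => ?_) (fun x => ?_) ?_]
        · refine hf.1 _ fun h => ?_
          have h' := h.1.1 1
          have h1 := hlast' 1 (by omega)
          simp only [hν, Pi.add_apply, genA, genP, eN, hone, mul_ite, mul_one, mul_zero] at h' h1
          split_ifs at * <;> first | omega | contradiction
        · rw [add_eN_sub _ _ α (hν.symm)]
          refine (mem_stand_pow hn).mpr ⟨fun x => by have := hnn x; simp only [eN]; split_ifs <;> omega, fun x hx => ?_, ?_⟩
          · rintro ⟨c1, c2, c3⟩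
            by_cases hx0 : x.val = 0
            · have := c2 hx0
              simp only [eN, hz, h0'] at this
              split_ifs at this <;> omega
            · simp only [eN, if_neg hx0, hlast' x (by omega)] at c3; omega
          · have := hlast' 1 (by omega)
            simp only [eN, hone]; split_ifs <;> omega
        · show genP n q x ≤ genP n q x + eN n 0 x
          simp only [eN]; split_ifs <;> omega
        · show genA n 1 x ≤ genP n q x + eN n 0 x
          simp only [genA, genP, eN, mul_ite, mul_one, mul_zero]; split_ifs <;> omega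
      · push Not at hlast'
        obtain ⟨z, hz1, hz2⟩ := hlast'
        let F : Fin (n + 1) →₀ ℕ := Finsupp.equivFunOnFinite.symm fun x => (ν x).toNat
        have hF : ∀ x, ((F x : ℕ) : ℤ) = ν x := fun x => Int.toNat_of_nonneg (hnn x)
        have hFmem : F ∈ qSet n q := by
          refine mem_qSet.mpr ⟨fun e => hz2 ?_, mem_fSet.mpr ⟨fun e => ?_, ?_, ?_⟩⟩
          · rw [← hF, e, Finsupp.single_eq_of_ne fun h => by rw [h] at hz1; simp at hz1]; rfl
          · have h1 := hF 1
            rw [e, Finsupp.single_eq_same] at h1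
            omega
          · have h1 := hF 0
            rw [h0'] at h1
            exact_mod_cast h1
          · have : ((∑ x, F x : ℕ) : ℤ) = q := by
              rw [Nat.cast_sum, Finset.sum_congr rfl fun x _ => hF x, hsum]; omega
            exact_mod_cast this
        have e : pS n q (.inr (.inr (.inr ⟨F, hFmem⟩))) = ν := funext fun x => hF x
        rw [← e]
        refine hrep _ (funext fun x => ?_)
        simp only [pAl, hF, hν, Pi.add_apply]
        ring

theorem finrank_blockPow (hcase : (n = 3 ∧ 4 ≤ q) ∨ (4 ≤ n ∧ 2 ≤ q)) :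
    Module.finrank k ↥(⨆ α : {α : Fin (n + 1) → ℤ // ∑ i, α i = 0}, tPiece (blockPow k n q) α.1) =
      2 * n - 1 + (n + q - 1).choose (n - 1) := by
  classical
  have hn : 3 ≤ n := by omega
  have hq : 2 ≤ q := by omega
  rw [finrank_iSup_eq_card (isMonomial_blockPow n q) (pAl n q) (pS n q) (fun α => ∑ i, α i = 0) (sum_pAl (by omega))
    (fun t => ⟨_, indFun_mem (pU_valid1 hn hq t) (pU_valid2 hn hq t), if_pos (pS_facts hn hq t),
      fun t' e hne => if_neg fun h => pS_separate hn hq t t' e hne h.2.2⟩)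
    (fun α hα f hf hrep => pow_injective hcase α hα f hf hrep)]
  simp only [PIdx, Fintype.card_sum, Fintype.card_fin, Fintype.card_unit, Fintype.card_coe, card_qSet (by omega : 2 ≤ n) (by omega : 1 ≤ q)]
  rw [Nat.choose_symm_of_eq_add (show n + q - 1 = q + (n - 1) by omega)]
  have h2 : 2 ≤ (n + q - 1).choose (n - 1) := by
    have h := Nat.choose_le_choose (n - 1) (show n ≤ n + q - 1 by omega)
    have e : n.choose (n - 1) = n := by
      rw [Nat.choose_symm_of_eq_add (show n = (n - 1) + 1 by omega), Nat.choose_one_right]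
    omega
  omega

end Groth.Agent.Hilb37
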