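import Groth.Agent.Hilb37.Misc
import Mathlib.Algebra.Order.BigOperators.Group.Finset

/-! A bound on the pieces negative in one direction by the corners of the staircase. -/

set_option autoImplicit false

namespace Groth.Agent.Hilb37

open MvPolynomial W4c1hilbpn

variable {k : Type*} [Field k] {I : Ideal (MvPolynomial (Fin 3) k)}
  [Module.Finite k (MvPolynomial (Fin 3) k ⧸ I)] (hI : IsMonomial I)

include hI in
theorem lt_stairs_iff (l : Fin 3) (a b c : ℕ) : c < stairs I l a b ↔ pt l a b c ∈ stand I := by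
  classical
  have hex : ∃ c : ℕ, pt l a b c ∉ stand I := by
    by_contra hc
    simp only [not_exists, not_not] at hc
    refine (stand_finite hI).not_infinite (Set.infinite_of_injective_forall_mem (f := fun c : ℕ => pt l (a : ℤ) b c)
      (fun x y h => ?_) hc)
    have := congrFun h l
    simpa [pt_self] using this
  have hiff : ∀ c : ℕ, pt l a b c ∈ stand I ↔ c < Nat.find hex := fun c => by
    refine ⟨fun h => ?_, fun h => not_not.mp (Nat.find_min hex h)⟩
    by_contra hle
    refine Nat.find_spec hex (stand_mono h (fun i => ?_) fun i => ?_) <;>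
      rcases fin3_cases l i with rfl | rfl | rfl <;> simp only [pt_self, pt_one, pt_two] <;> omega
  rw [stairs, Nat.card_congr (Equiv.subtypeEquivRight hiff),
    Nat.card_congr (Fin.equivSubtype (n := Nat.find hex)).symm, Nat.card_fin]
  exact (hiff c).symm

include hI in
theorem stairs_eq_zero {N : ℕ} (hN : Bounded I N) (l : Fin 3) {a b : ℕ} (h : N ≤ a ∨ N ≤ b) : stairs I l a b = 0 := by
  by_contra hne
  have hs := (lt_stairs_iff hI l a b 0).mp (Nat.pos_of_ne_zero hne)
  have h1 := hN.1 _ hs (l + 1)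
  have h2 := hN.1 _ hs (l + 2)
  rw [pt_one] at h1
  rw [pt_two] at h2
  omega

variable (I) in
/-- The larger neighbour in the staircase. -/
noncomputable def nbr (l : Fin 3) (i j : ℕ) : ℕ := max (stairs I l (i + 1) j) (stairs I l i (j + 1))

variable (I) in
/-- The corners seen in degree `(a, b, c)`. -/
def Valid (l : Fin 3) (a b : ℕ) (c : ℤ) (p : ℕ × ℕ) : Prop :=
  a ≤ p.1 ∧ b ≤ p.2 ∧ (nbr I l p.1 p.2 : ℤ) ≤ (stairs I l (p.1 - a) (p.2 - b) : ℤ) + c ∧
    (stairs I l (p.1 - a) (p.2 - b) : ℤ) + c < (stairs I l p.1 p.2 : ℤ)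

include hI in
theorem regFun_eq_zero_of_corners {N : ℕ} (hN : Bounded I N) (l : Fin 3) (a b : ℕ) (c : ℤ) {f : (Fin 3 → ℤ) → k}
    (hf : f ∈ RegFun I (pt l a b c))
    (h : ∀ i j : ℕ, i < N → j < N → Valid I l a b c (i, j) → f (pt l i j ((stairs I l i j : ℤ) - 1)) = 0) : f = 0 := by
  suffices H : ∀ (M i j : ℕ), 2 * N ≤ i + j + M → ∀ c0 : ℕ, f (pt l i j c0) = 0 by
    funext γ
    by_cases hs : γ ∈ stand I
    · rw [← pt_eta l γ, ← Int.toNat_of_nonneg (hs.1 (l + 1)), ← Int.toNat_of_nonneg (hs.1 (l + 2)),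
        ← Int.toNat_of_nonneg (hs.1 l)]
      exact H (2 * N) _ _ (by omega) _
    · exact hf.1 γ fun h' => hs h'.1
  intro M
  induction M with
  | zero =>
    intro i j hij c0
    refine hf.1 _ fun h' => ?_
    have h1 := hN.1 _ h'.1 (l + 1)
    have h2 := hN.1 _ h'.1 (l + 2)
    rw [pt_one] at h1
    rw [pt_two] at h2
    omega
  | succ M ih =>
    intro i j hij c0
    by_contra hne
    have h0 : pt l (i : ℤ) j c0 ∈ stand I ∧ pt l (i : ℤ) j c0 - pt l a b c ∈ expZ I := by
      by_contra h'; exact hne (hf.1 _ h')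
    have hc0 : c0 < stairs I l i j := (lt_stairs_iff hI l i j c0).mpr h0.1
    have ha : a ≤ i := by have := h0.2.1 (l + 1); simp only [Pi.sub_apply, pt_one] at this; omega
    have hb : b ≤ j := by have := h0.2.1 (l + 2); simp only [Pi.sub_apply, pt_two] at this; omega
    have hl : 0 ≤ (c0 : ℤ) - c := by have := h0.2.1 l; simpa only [Pi.sub_apply, pt_self] using this
    have hsub : ∀ z : ℤ, pt l (i : ℤ) j z - pt l a b c = pt l ((i - a : ℕ) : ℤ) ((j - b : ℕ) : ℤ) (z - c) := fun z => by
      funext x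
      simp only [Pi.sub_apply, pt]
      split_ifs <;> omega
    set s' := stairs I l (i - a) (j - b) with hs'
    have hlow : (s' : ℤ) + c ≤ c0 := by
      by_contra hc
      refine not_expZ_of_stand ?_ h0.2
      rw [hsub, ← Int.toNat_of_nonneg hl]
      exact (lt_stairs_iff hI l (i - a) (j - b) _).mp (by omega)
    have hmem : pt l (i : ℤ) j ((s' : ℤ) + c) - pt l a b c ∈ expZ I := by
      rw [hsub, add_sub_cancel_right]
      exact (stand_or_expZ ((forall_fin3 l).mpr (by simp [pt_self, pt_one, pt_two]))).resolve_left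
        fun h' => lt_irrefl _ ((lt_stairs_iff hI l _ _ _).mpr h')
    have hle0 : pt l (i : ℤ) j ((s' : ℤ) + c) ≤ pt l (i : ℤ) j c0 := fun x => by
      rcases fin3_cases l x with rfl | rfl | rfl <;> simp only [pt_self, pt_one, pt_two] <;> omega
    by_cases hneg : (s' : ℤ) + c < 0
    · exact hne (RegFun.eq_zero hf hmem hle0 ⟨l, by rw [pt_self]; exact hneg⟩)
    obtain ⟨l0, hl0⟩ : ∃ l0 : ℕ, (s' : ℤ) + c = l0 := ⟨_, (Int.toNat_of_nonneg (not_lt.mp hneg)).symm⟩
    rw [hl0] at hmem hle0 hlow
    have hflow : f (pt l (i : ℤ) j (l0 : ℤ)) = f (pt l (i : ℤ) j c0) := hf.2 _ _ hmem hle0 h0.1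
    by_cases hm : nbr I l i j ≤ l0
    · refine hne ?_
      have htop : pt l (i : ℤ) j ((stairs I l i j - 1 : ℕ) : ℤ) ∈ stand I := (lt_stairs_iff hI l i j _).mp (by omega)
      rw [← hflow, hf.2 _ (pt l (i : ℤ) j ((stairs I l i j - 1 : ℕ) : ℤ)) hmem (fun x => by
          rcases fin3_cases l x with rfl | rfl | rfl <;> simp only [pt_self, pt_one, pt_two] <;> omega) htop,
        show ((stairs I l i j - 1 : ℕ) : ℤ) = (stairs I l i j : ℤ) - 1 by omega]
      have h1 := hN.1 _ h0.1 (l + 1)
      have h2 := hN.1 _ h0.1 (l + 2)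
      rw [pt_one] at h1
      rw [pt_two] at h2
      exact h i j (by omega) (by omega) ⟨ha, hb, by simp only [← hs']; omega, by simp only [← hs']; omega⟩
    · rw [nbr] at hm
      simp only [max_le_iff, not_and_or, not_le] at hm
      rcases hm with hm | hm
      · have hup : pt l ((i + 1 : ℕ) : ℤ) j (l0 : ℤ) ∈ stand I := (lt_stairs_iff hI l (i + 1) j l0).mp hm
        refine hne ?_
        rw [← hflow, hf.2 _ _ hmem (fun x => by
          rcases fin3_cases l x with rfl | rfl | rfl <;> simp only [pt_self, pt_one, pt_two] <;> omega) hup]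
        exact ih (i + 1) j (by omega) l0
      · have hup : pt l (i : ℤ) ((j + 1 : ℕ) : ℤ) (l0 : ℤ) ∈ stand I := (lt_stairs_iff hI l i (j + 1) l0).mp hm
        refine hne ?_
        rw [← hflow, hf.2 _ _ hmem (fun x => by
          rcases fin3_cases l x with rfl | rfl | rfl <;> simp only [pt_self, pt_one, pt_two] <;> omega) hup]
        exact ih i (j + 1) (by omega) l0

include hI in
theorem tDim_le_valid {N : ℕ} (hN : Bounded I N) (l : Fin 3) (a b : ℕ) (c : ℤ) :
    tDim I (pt l a b c) ≤ ∑ i ∈ Finset.range (N + 1), ∑ j ∈ Finset.range (N + 1),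
      (open Classical in if Valid I l a b c (i, j) then 1 else 0) := by
  classical
  let S := (Finset.range (N + 1) ×ˢ Finset.range (N + 1)).filter (Valid I l a b c)
  let L : RegFun I (pt l (a : ℤ) b c) →ₗ[k] (S → k) :=
    { toFun := fun f p => f.1 (pt l p.1.1 p.1.2 ((stairs I l p.1.1 p.1.2 : ℤ) - 1))
      map_add' := fun _ _ => rfl
      map_smul' := fun _ _ => rfl }
  have hinj : Function.Injective L := fun f g hfg => by
    have hd : f.1 - g.1 ∈ RegFun I (pt l (a : ℤ) b c) := Submodule.sub_mem _ f.2 g.2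
    refine Subtype.ext (sub_eq_zero.mp (regFun_eq_zero_of_corners hI hN l a b c hd fun i j hi hj hv => sub_eq_zero.mpr ?_))
    exact congrFun hfg ⟨(i, j), Finset.mem_filter.mpr
      ⟨Finset.mem_product.mpr ⟨Finset.mem_range.mpr (by omega), Finset.mem_range.mpr (by omega)⟩, hv⟩⟩
  have h := LinearMap.finrank_le_finrank_of_injective hinj
  rw [Module.finrank_pi, Fintype.card_coe] at h
  refine h.trans (le_of_eq ?_)
  rw [Finset.card_filter, Finset.sum_product]

include hI in
/-- The corner bound on a column. -/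
theorem colSum_neg_le {N : ℕ} (hN : Bounded I N) (l : Fin 3) (a b : ℕ) (s : Finset ℤ) :
    ∑ c ∈ s, tDim I (pt l a b c) ≤ ∑ i ∈ Finset.range (N + 1), ∑ j ∈ Finset.range (N + 1),
      if a ≤ i ∧ b ≤ j then stairs I l i j - nbr I l i j else 0 := by
  classical
  refine (Finset.sum_le_sum fun c _ => tDim_le_valid hI hN l a b c).trans ?_
  rw [Finset.sum_comm]
  refine Finset.sum_le_sum fun i _ => ?_
  rw [Finset.sum_comm]
  refine Finset.sum_le_sum fun j _ => ?_
  rw [← Finset.card_filter]
  split_ifs with hij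
  · refine le_of_le_of_eq (Finset.card_le_card_of_injOn (fun c => (((stairs I l (i - a) (j - b) : ℤ) + c).toNat))
      (t := Finset.Ico (nbr I l i j) (stairs I l i j)) (fun c hc => ?_) fun c hc c' hc' e => ?_) (Nat.card_Ico _ _)
    · simp only [Finset.coe_filter, Set.mem_setOf_eq] at hc
      obtain ⟨-, -, -, h3, h4⟩ := hc
      simp only at h3 h4
      simp only [Finset.coe_Ico, Set.mem_Ico]
      omega
    · simp only [Finset.coe_filter, Set.mem_setOf_eq] at hc hc'
      obtain ⟨-, -, -, h3, h4⟩ := hc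
      obtain ⟨-, -, -, h5, h6⟩ := hc'
      simp only at h3 h4 h5 h6 e
      omega
  · refine le_of_eq (Finset.card_eq_zero.mpr (Finset.filter_eq_empty_iff.mpr fun c _ hv => hij ⟨hv.1, hv.2.1⟩))

theorem sum_ite_le_nested (N : ℕ) (g : ℕ → ℕ) :
    ∑ a ∈ Finset.range N, ∑ i ∈ Finset.range N, (if a ≤ i then g i else 0) = ∑ i ∈ Finset.range N, (i + 1) * g i := by
  rw [Finset.sum_comm]
  refine Finset.sum_congr rfl fun i hi => ?_
  rw [← Finset.sum_filter, Finset.sum_const, smul_eq_mul]
  congr 1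
  rw [show (Finset.range N).filter (· ≤ i) = Finset.range (i + 1) from ?_, Finset.card_range]
  ext x
  simp only [Finset.mem_filter, Finset.mem_range] at hi ⊢
  omega

include hI in
theorem finrank_sig_single_le {N : ℕ} (hN : Bounded I N) (l : Fin 3) :
    Module.finrank k ↥(sigPiece I {l}) ≤ ∑ i ∈ Finset.range (N + 1), ∑ j ∈ Finset.range (N + 1),
      (i + 1) * ((j + 1) * (stairs I l i j - nbr I l i j)) := by
  classical
  rw [finrank_sig_single hI hN]
  refine (Finset.sum_le_sum fun a _ => Finset.sum_le_sum fun b _ => colSum_neg_le hI hN l a b _).trans (le_of_eq ?_)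
  set G := fun i j => stairs I l i j - nbr I l i j with hG
  show ∑ a ∈ Finset.range (N + 1), ∑ b ∈ Finset.range (N + 1), ∑ i ∈ Finset.range (N + 1), ∑ j ∈ Finset.range (N + 1),
      (if a ≤ i ∧ b ≤ j then G i j else 0) = ∑ i ∈ Finset.range (N + 1), ∑ j ∈ Finset.range (N + 1), (i + 1) * ((j + 1) * G i j)
  calc _ = ∑ a ∈ Finset.range (N + 1), ∑ i ∈ Finset.range (N + 1),
        (if a ≤ i then ∑ b ∈ Finset.range (N + 1), ∑ j ∈ Finset.range (N + 1), (if b ≤ j then G i j else 0) else 0) := by
          refine Finset.sum_congr rfl fun a _ => ?_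
          rw [Finset.sum_comm]
          refine Finset.sum_congr rfl fun i _ => ?_
          by_cases h : a ≤ i <;> simp [h]
    _ = _ := by
          simp only [sum_ite_le_nested]
          refine Finset.sum_congr rfl fun i _ => ?_
          rw [Finset.mul_sum]

theorem telescope_mul (g : ℕ → ℕ) (hg : ∀ j, g (j + 1) ≤ g j) : ∀ M,
    ∑ j ∈ Finset.range M, (j + 1) * (g j - g (j + 1)) + M * g M = ∑ j ∈ Finset.range M, g j
  | 0 => by simp
  | M + 1 => by
    have h := telescope_mul g hg M
    rw [Finset.sum_range_succ, Finset.sum_range_succ]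
    obtain ⟨d, hd⟩ := Nat.exists_eq_add_of_le (hg M)
    rw [hd] at h ⊢
    rw [Nat.add_sub_cancel_left]
    linarith [h]

include hI in
theorem stairs_anti (l : Fin 3) (a b : ℕ) :
    stairs I l (a + 1) b ≤ stairs I l a b ∧ stairs I l a (b + 1) ≤ stairs I l a b := by
  constructor <;>
  · by_contra hc
    have h := (lt_stairs_iff hI l _ _ (stairs I l a b)).mp (not_le.mp hc)
    refine lt_irrefl _ ((lt_stairs_iff hI l a b (stairs I l a b)).mpr (stand_mono h (fun i => ?_) fun i => ?_)) <;>
      rcases fin3_cases l i with rfl | rfl | rfl <;> simp only [pt_self, pt_one, pt_two] <;> omega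

end Groth.Agent.Hilb37
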