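import Groth.Agent.Hilb37.RegTwo
import Groth.Agent.SGA3a.RegKernel
import Mathlib.RingTheory.Ideal.Colon
import Mathlib.LinearAlgebra.Dimension.RankNullity
import Mathlib.LinearAlgebra.Dimension.Localization
import Mathlib.LinearAlgebra.Isomorphisms
import Mathlib.LinearAlgebra.Pi
import Mathlib.RingTheory.Noetherian.Basic
import Mathlib.Algebra.Module.Torsion.Basic

/-! `len Hom(I, R/J) = len R/J + len (I : J)/I` over a two-dimensional regular local ring. -/

set_option autoImplicit false
universe u

namespace Groth.Agent.Hilb37.RegTwo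

open IsLocalRing

variable {R : Type u} [CommRing R]

theorem exists_pow_le [IsLocalRing R] [IsNoetherianRing R] {I : Ideal R} (h : IsFiniteLength R (R ⧸ I)) :
    ∃ N : ℕ, maximalIdeal R ^ N ≤ I := by
  have := (isFiniteLength_iff_isNoetherian_isArtinian.mp h).2
  let F : ℕ →o (Submodule R (R ⧸ I))ᵒᵈ :=
    ⟨fun i => OrderDual.toDual ((maximalIdeal R ^ i) • (⊤ : Submodule R (R ⧸ I))), fun i j hij =>
      Submodule.smul_mono (Ideal.pow_le_pow_right hij) le_rfl⟩
  obtain ⟨N, hN⟩ := IsArtinian.monotone_stabilizes F
  refine ⟨N, ?_⟩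
  have h1 : (maximalIdeal R ^ N) • (⊤ : Submodule R (R ⧸ I)) = ⊥ := by
    refine Submodule.eq_bot_of_le_smul_of_le_jacobson_bot (maximalIdeal R) _
      (IsNoetherian.noetherian _) ?_ (maximalIdeal_le_jacobson ⊥)
    rw [← Submodule.mul_smul, ← pow_succ']
    exact (congrArg OrderDual.ofDual (hN (N + 1) (Nat.le_succ N))).le
  intro x hx
  have : x • (Submodule.Quotient.mk 1 : R ⧸ I) = 0 := by
    rw [← Submodule.mem_bot R, ← h1]
    exact Submodule.smul_mem_smul hx trivial
  rw [← Submodule.Quotient.mk_smul, smul_eq_mul, mul_one, Submodule.Quotient.mk_eq_zero] at this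
  exact this

theorem length_split {M : Type u} [AddCommGroup M] [Module R M] {N : Type u} [AddCommGroup N] [Module R N]
    (f : M →ₗ[R] N) :
    Module.length R M = Module.length R (LinearMap.ker f) + Module.length R (LinearMap.range f) :=
  Module.length_eq_add_of_exact (LinearMap.ker f).subtype f.rangeRestrict (Submodule.subtype_injective _)
    f.surjective_rangeRestrict (LinearMap.exact_iff.mpr (by rw [LinearMap.ker_rangeRestrict, Submodule.range_subtype]))

theorem length_quot {M : Type u} [AddCommGroup M] [Module R M] (P : Submodule R M) :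
    Module.length R M = Module.length R P + Module.length R (M ⧸ P) :=
  Module.length_eq_add_of_exact P.subtype P.mkQ (Submodule.subtype_injective _) P.mkQ_surjective
    (LinearMap.exact_subtype_mkQ P)

/-- The pairing of a tuple with tuples. -/
def pair {S : Type u} [CommRing S] [Algebra R S] {r : ℕ} (v : Fin r → S) : (Fin r → S) →ₗ[R] S where
  toFun w := ∑ i, v i * w i
  map_add' w w' := by simp only [Pi.add_apply, mul_add, Finset.sum_add_distrib]
  map_smul' c w := by simp only [Pi.smul_apply, mul_smul_comm, Finset.smul_sum, RingHom.id_apply]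

variable [IsRegularLocalRing R]

theorem length_perp (hdim : ringKrullDim R = 2) {a b : R} (hm : maximalIdeal R = Ideal.span {a, b}) (ha : a ≠ 0)
    (hab : ∀ w : R, a ∣ b * w → a ∣ w) (M : ℕ) (hS : IsFiniteLength R (R ⧸ Ideal.span {a ^ (M + 1), b ^ (M + 1)}))
    {r : ℕ} (P : Submodule R (Fin r → R ⧸ Ideal.span {a ^ (M + 1), b ^ (M + 1)}))
    (W : Submodule R (Fin r → R ⧸ Ideal.span {a ^ (M + 1), b ^ (M + 1)}))
    (hW : ∀ v, v ∈ W ↔ ∀ w ∈ P, ∑ i, v i * w i = 0) :
    Module.length R W = Module.length R ((Fin r → R ⧸ Ideal.span {a ^ (M + 1), b ^ (M + 1)}) ⧸ P) := by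
  have := Ega11.RegLocal.isDomain R
  revert P W
  set q := Ideal.span {a ^ (M + 1), b ^ (M + 1)}
  intro P W hW
  set S := R ⧸ q
  have hfS : Module.length R (Fin r → S) ≠ ⊤ := by
    obtain ⟨h1, h2⟩ := isFiniteLength_iff_isNoetherian_isArtinian.mp hS
    exact Module.length_ne_top
  have hfP : IsFiniteLength R P := Module.length_ne_top_iff.mp
    (ne_top_of_le_ne_top hfS (Module.length_le_of_injective P.subtype P.injective_subtype))
  have hfQ : IsFiniteLength R ((Fin r → S) ⧸ P) := Module.length_ne_top_iff.mp
    (ne_top_of_le_ne_top hfS (Module.length_le_of_surjective P.mkQ P.mkQ_surjective))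
  let Φ : (Fin r → S) →ₗ[R] ((Fin r → S) →ₗ[R] S) :=
    { toFun := pair
      map_add' := fun v v' => LinearMap.ext fun w => by
        show ∑ i, (v + v') i * w i = ∑ i, v i * w i + ∑ i, v' i * w i
        simp only [Pi.add_apply, add_mul, Finset.sum_add_distrib]
      map_smul' := fun c v => LinearMap.ext fun w => by
        show ∑ i, (c • v) i * w i = c • ∑ i, v i * w i
        simp only [Pi.smul_apply, smul_mul_assoc, Finset.smul_sum] }
  have hinj : Function.Injective Φ := fun v v' e => funext fun j => by
    classical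
    have h := LinearMap.congr_fun e (Pi.single j 1)
    simpa [Φ, pair, Pi.single_apply] using h
  let ι : W →ₗ[R] (((Fin r → S) ⧸ P) →ₗ[R] S) :=
    { toFun := fun v => P.liftQ (Φ v.1) fun w hw => (hW v.1).mp v.2 w hw
      map_add' := fun v v' => LinearMap.ext fun z => by
        obtain ⟨w, rfl⟩ := Submodule.Quotient.mk_surjective P z
        show Φ (v.1 + v'.1) w = Φ v.1 w + Φ v'.1 w
        rw [map_add]; rfl
      map_smul' := fun c v => LinearMap.ext fun z => by
        obtain ⟨w, rfl⟩ := Submodule.Quotient.mk_surjective P z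
        show Φ (c • v.1) w = c • Φ v.1 w
        rw [map_smul]; rfl }
  have hι : Function.Injective ι := fun v v' e => Subtype.ext (hinj (LinearMap.ext fun w =>
    LinearMap.congr_fun e (Submodule.Quotient.mk w)))
  refine le_antisymm ((Module.length_le_of_injective ι hι).trans (length_hom_le hm ha hab M hfQ)) ?_
  let res : (Fin r → S) →ₗ[R] (P →ₗ[R] S) := (LinearMap.lcomp R S P.subtype).comp Φ
  have hker : LinearMap.ker res = W := by
    ext v
    rw [LinearMap.mem_ker, hW]
    exact ⟨fun h w hw => LinearMap.congr_fun h ⟨w, hw⟩, fun h => LinearMap.ext fun w => h w.1 w.2⟩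
  have h1 := length_split res
  rw [hker] at h1
  have h2 : Module.length R (LinearMap.range res) ≤ Module.length R P :=
    (Module.length_le_of_injective (LinearMap.range res).subtype (Submodule.subtype_injective _)).trans
      (length_hom_le hm ha hab M hfP)
  have h3 := length_quot P
  have hlP : Module.length R P ≠ ⊤ := Module.length_ne_top_iff.mpr hfP
  refine (ENat.add_le_add_iff_left hlP).mp ?_
  rw [← h3, h1, add_comm]
  exact add_le_add h2 le_rfl

theorem length_hom_eq (hdim : ringKrullDim R = 2) (I J : Ideal R) (hI : Module.length R (R ⧸ I) < ⊤)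
    (hJ : Module.length R (R ⧸ J) < ⊤) :
    Module.length R (↥I →ₗ[R] (R ⧸ J)) + Module.length R (R ⧸ I.colon J) =
      Module.length R (R ⧸ J) + Module.length R (R ⧸ I) := by
  classical
  have := Ega11.RegLocal.isDomain R
  obtain ⟨a, b, hm, ha, hb, hab⟩ := exists_params hdim
  have hfI : IsFiniteLength R (R ⧸ I) := Module.length_ne_top_iff.mp hI.ne
  have hfJ : IsFiniteLength R (R ⧸ J) := Module.length_ne_top_iff.mp hJ.ne
  obtain ⟨N1, hN1⟩ := exists_pow_le hfI
  obtain ⟨N2, hN2⟩ := exists_pow_le hfJ
  set M := max N1 N2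
  set q := Ideal.span {a ^ (M + 1), b ^ (M + 1)} with hqdef
  have hqm : q ≤ maximalIdeal R ^ (M + 1) := by
    rw [hqdef, hm, Ideal.span_le]
    rintro _ (rfl | rfl) <;> exact Ideal.pow_mem_pow (Ideal.subset_span (by simp)) _
  have hqI : q ≤ I := hqm.trans ((Ideal.pow_le_pow_right (by omega)).trans hN1)
  have hqJ : q ≤ J := hqm.trans ((Ideal.pow_le_pow_right (by omega)).trans hN2)
  set x := a ^ (M + 1)
  set y := b ^ (M + 1)
  have hxI : x ∈ I := hqI (Ideal.mem_span_pair.mpr ⟨1, 0, by ring⟩)
  have hyI : y ∈ I := hqI (Ideal.mem_span_pair.mpr ⟨0, 1, by ring⟩)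
  have hx0 : x ≠ 0 := pow_ne_zero _ ha
  have hreg : ∀ w : R, x ∣ y * w → x ∣ w := dvd_pow_cancel' ha hab (M + 1) (M + 1)
  -- a presentation of `I`
  obtain ⟨m, π0, hπ0⟩ := Module.Finite.exists_fin' R I
  have hd2 : (maximalIdeal R).spanFinrank ≤ 2 := by
    have := IsRegularLocalRing.spanFinrank_maximalIdeal (R := R)
    rw [hdim] at this
    exact le_of_eq (by exact_mod_cast this)
  have hfree : Module.Free R (LinearMap.ker π0) := by
    let g : (Fin m → R) →ₗ[R] (Fin 1 → R) := LinearMap.pi fun _ => I.subtype.comp π0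
    have e : LinearMap.ker g = LinearMap.ker π0 := by
      ext v
      simp only [LinearMap.mem_ker]
      exact ⟨fun h => Subtype.ext (congrFun h 0), fun h => funext fun _ => by simp [g, h]⟩
    rw [← e]
    exact SGA3a.free_ker_of_spanFinrank_le_two hd2 g
  obtain ⟨r, ⟨bas⟩⟩ : ∃ r : ℕ, Nonempty (Module.Basis (Fin r) R (LinearMap.ker π0)) :=
    ⟨_, ⟨Module.finBasis R (LinearMap.ker π0)⟩⟩
  have hrank : m = r + 1 := by
    have h1 := (LinearMap.ker π0).finrank_quotient_add_finrank (R := R)
    rw [(π0.quotKerEquivOfSurjective hπ0).finrank_eq, Module.finrank_fin_fun, Module.finrank_eq_card_basis bas,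
      Fintype.card_fin] at h1
    have hI0 : Module.finrank R I = 1 := by
      refine le_antisymm ((Submodule.finrank_le I).trans (Module.finrank_self R).le) ?_
      let ψ : R →ₗ[R] I := LinearMap.toSpanSingleton R I ⟨x, hxI⟩
      have hψ : Function.Injective ψ := fun s t e => mul_right_cancel₀ hx0 (congrArg Subtype.val e)
      have := LinearMap.finrank_le_finrank_of_injective hψ
      rwa [Module.finrank_self] at this
    omega
  set A : (Fin r → R) →ₗ[R] (Fin m → R) := (LinearMap.ker π0).subtype.comp bas.equivFun.symm.toLinearMap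
  have hAinj : Function.Injective A := (LinearMap.ker π0).injective_subtype.comp bas.equivFun.symm.injective
  have hAπ : ∀ v, π0 (A v) = 0 := fun v => (bas.equivFun.symm v).2
  have hAsurj : ∀ u, π0 u = 0 → ∃ v, A v = u := fun u hu => ⟨bas.equivFun ⟨u, hu⟩, by
    show ((bas.equivFun.symm (bas.equivFun ⟨u, hu⟩)) : Fin m → R) = u
    rw [LinearEquiv.symm_apply_apply]⟩
  let c : Fin m → Fin r → R := fun i j => A (Pi.single j 1) i
  have hAc : ∀ v i, A v i = ∑ j, c i j * v j := fun v i => by
    conv_lhs => rw [pi_eq_sum_univ v]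
    simp only [map_sum, map_smul, Finset.sum_apply, Pi.smul_apply, smul_eq_mul]
    refine Finset.sum_congr rfl fun j _ => ?_
    rw [mul_comm]
    refine congrArg (· * v j) (congrFun (congrArg A (funext fun l => ?_)) i)
    rw [Pi.single_apply]
    by_cases e : j = l <;> simp [e, Ne.symm]
  -- `Hom(I, R/J)` inside tuples
  set L := R ⧸ J
  let T : (Fin m → L) →ₗ[R] (Fin r → L) :=
    LinearMap.pi fun j => ∑ i, c i j • LinearMap.proj i
  have hT : ∀ u j, T u j = ∑ i, c i j • u i := fun u j => by simp [T]
  let ev : (↥I →ₗ[R] L) →ₗ[R] (Fin m → L) :=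
    { toFun := fun f i => f (π0 (Pi.single i 1))
      map_add' := fun _ _ => rfl
      map_smul' := fun _ _ => rfl }
  have hev : ∀ (f : ↥I →ₗ[R] L) (u : Fin m → R), f (π0 u) = ∑ i, u i • ev f i := fun f u => by
    conv_lhs => rw [pi_eq_sum_univ u]
    simp only [map_sum, map_smul]
    refine Finset.sum_congr rfl fun i _ => congrArg (u i • ·) (congrArg (fun w => f (π0 w)) (funext fun l => ?_))
    rw [Pi.single_apply]
    by_cases e : i = l <;> simp [e, Ne.symm]
  have hevinj : Function.Injective ev := fun f g e => LinearMap.ext fun z => by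
    obtain ⟨u, rfl⟩ := hπ0 z
    rw [hev, hev, e]
  have hevrange : LinearMap.range ev = LinearMap.ker T := by
    refine le_antisymm ?_ fun u hu => ?_
    · rintro _ ⟨f, rfl⟩
      refine LinearMap.mem_ker.mpr (funext fun j => ?_)
      rw [hT, Pi.zero_apply]
      exact ((hev f (A (Pi.single j 1))).symm.trans (by rw [hAπ, map_zero]))
    · let Λ : (Fin m → R) →ₗ[R] L := Fintype.linearCombination R u
      have hΛ : ∀ w, π0 w = 0 → Λ w = 0 := fun w hw => by
        obtain ⟨v, rfl⟩ := hAsurj w hw
        rw [Fintype.linearCombination_apply]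
        simp only [hAc, Finset.sum_smul]
        rw [Finset.sum_comm]
        refine Finset.sum_eq_zero fun j _ => ?_
        have hj : T u j = 0 := congrFun hu j
        rw [hT] at hj
        simp only [mul_comm (c _ j), mul_smul, ← Finset.smul_sum, hj, smul_zero]
      refine ⟨((LinearMap.ker π0).liftQ Λ fun w hw => hΛ w hw).comp (π0.quotKerEquivOfSurjective hπ0).symm.toLinearMap,
        funext fun i => ?_⟩
      show (LinearMap.ker π0).liftQ Λ (fun w hw => hΛ w hw) ((π0.quotKerEquivOfSurjective hπ0).symm (π0 (Pi.single i 1))) = u i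
      rw [show (π0.quotKerEquivOfSurjective hπ0).symm (π0 (Pi.single i 1)) = Submodule.Quotient.mk (Pi.single i 1) from
        (LinearEquiv.symm_apply_eq _).mpr rfl]
      show Λ (Pi.single i 1) = u i
      rw [Fintype.linearCombination_apply]
      simp [Pi.single_apply]
  have hlen1 : Module.length R (↥I →ₗ[R] L) = Module.length R (LinearMap.ker T) := by
    rw [← hevrange]
    exact (LinearEquiv.ofInjective ev hevinj).length_eq
  -- over the Gorenstein quotient
  set S := R ⧸ q
  have hfS : IsFiniteLength R S := by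
    refine Module.length_ne_top_iff.mp ?_
    obtain ⟨h1, h2⟩ := isFiniteLength_iff_isNoetherian_isArtinian.mp hfI
    have hSm : ∀ N : ℕ, Module.length R (R ⧸ maximalIdeal R ^ N) ≠ ⊤ := by
      intro N
      induction N with
      | zero =>
        have : Subsingleton (R ⧸ maximalIdeal R ^ 0) := by
          rw [pow_zero, Ideal.one_eq_top]; exact Submodule.Quotient.subsingleton_iff.mpr rfl
        rw [Module.length_eq_zero]; exact ENat.zero_ne_top
      | succ N ih =>
        let f : (R ⧸ maximalIdeal R ^ (N + 1)) →ₗ[R] (R ⧸ maximalIdeal R ^ N) :=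
          Submodule.factor (Ideal.pow_le_pow_right (Nat.le_succ N))
        rw [length_split f]
        refine WithTop.add_ne_top.mpr ⟨?_, ne_top_of_le_ne_top ih (Module.length_le_of_injective _ (Submodule.subtype_injective _))⟩
        set V := LinearMap.ker f
        have hfin : Module.Finite R V := Module.Finite.of_fg (IsNoetherian.noetherian V)
        obtain ⟨s, hs⟩ := hfin.fg_top
        have hmV : ∀ z ∈ maximalIdeal R, ∀ v : V, z • v = 0 := fun z hz v => by
          obtain ⟨w, hw⟩ := Submodule.Quotient.mk_surjective _ v.1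
          have hv : f v.1 = 0 := v.2
          rw [← hw] at hv
          refine Subtype.ext ?_
          show z • v.1 = 0
          rw [← hw, ← Submodule.Quotient.mk_smul, Submodule.Quotient.mk_eq_zero, pow_succ']
          exact Ideal.mul_mem_mul hz ((Submodule.Quotient.mk_eq_zero _).mp hv)
        let g : (s → R ⧸ maximalIdeal R) →ₗ[R] V :=
          ∑ e : s, (Submodule.liftQ _ (LinearMap.toSpanSingleton R V e.1) (fun z hz => LinearMap.mem_ker.mpr (hmV z hz e.1))).comp
            (LinearMap.proj e)
        have hg : Function.Surjective g := by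
          rw [← LinearMap.range_eq_top, eq_top_iff, ← hs, Submodule.span_le]
          intro e he
          refine ⟨Pi.single ⟨e, he⟩ (Submodule.Quotient.mk 1), ?_⟩
          simp only [g, LinearMap.coe_sum, Finset.sum_apply, LinearMap.coe_comp, Function.comp_apply, LinearMap.coe_proj,
            Function.eval]
          rw [Finset.sum_eq_single ⟨e, he⟩ (fun x _ hx => by rw [Pi.single_eq_of_ne hx, map_zero])
            (fun h => absurd (Finset.mem_univ _) h), Pi.single_eq_same, Submodule.liftQ_apply,
            LinearMap.toSpanSingleton_apply, one_smul]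
        refine ne_top_of_le_ne_top ?_ (Module.length_le_of_surjective g hg)
        have : IsSimpleModule R (R ⧸ maximalIdeal R) :=
          isSimpleModule_iff_isCoatom.mpr (Ideal.isMaximal_def.mp (maximalIdeal.isMaximal R))
        rw [Module.length_pi_of_fintype, Finset.sum_congr rfl fun _ _ => Module.length_eq_one R _]
        simp only [Finset.sum_const, nsmul_eq_mul, mul_one]; exact ENat.natCast_ne_top _
    refine ne_top_of_le_ne_top (hSm ((M + 1) + (M + 1))) ?_
    refine Module.length_le_of_surjective (Submodule.factor ?_) (Submodule.factor_surjective _)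
    -- `m ^ (2M+1) ≤ q`
    rw [hm, Ideal.span_insert, hqdef, Ideal.span_insert, ← Ideal.span_singleton_pow, ← Ideal.span_singleton_pow]
    exact Ideal.sup_pow_add_le_pow_sup_pow
  let mkS : (Fin r → R) →ₗ[R] (Fin r → S) := LinearMap.pi fun j => (Submodule.mkQ q).comp (LinearMap.proj j)
  have hmkS : Function.Surjective mkS := fun w => by
    choose z hz using fun j => Submodule.Quotient.mk_surjective q (w j)
    exact ⟨z, funext hz⟩
  let mkL : (Fin r → R) →ₗ[R] (Fin r → L) := LinearMap.pi fun j => (Submodule.mkQ J).comp (LinearMap.proj j)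
  let P0 : Submodule R (Fin r → R) := (LinearMap.range T).comap mkL
  have hmkSker : LinearMap.ker mkS ≤ P0 := fun w hw => by
    show mkL w ∈ LinearMap.range T
    rw [show mkL w = 0 from funext fun j => (Submodule.Quotient.mk_eq_zero J).mpr
      (hqJ ((Submodule.Quotient.mk_eq_zero q).mp (congrFun (LinearMap.mem_ker.mp hw) j)))]
    exact zero_mem _
  set P := P0.map mkS
  have hmemP : ∀ w, mkS w ∈ P ↔ mkL w ∈ LinearMap.range T := fun w => by
    constructor
    · rintro ⟨w', hw', e⟩
      have : w' - w ∈ P0 := hmkSker (LinearMap.mem_ker.mpr (by rw [map_sub, e, sub_self]))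
      have h := sub_mem hw' this
      rwa [sub_sub_cancel] at h
    · exact fun h => ⟨w, h, rfl⟩
  have hcoker : Module.length R ((Fin r → S) ⧸ P) = Module.length R ((Fin r → L) ⧸ LinearMap.range T) := by
    let F : (Fin r → R) →ₗ[R] (Fin r → S) ⧸ P := P.mkQ.comp mkS
    let G : (Fin r → R) →ₗ[R] (Fin r → L) ⧸ LinearMap.range T := (LinearMap.range T).mkQ.comp mkL
    have hF : Function.Surjective F := P.mkQ_surjective.comp hmkS
    have hG : Function.Surjective G := (LinearMap.range T).mkQ_surjective.comp fun w => by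
      choose z hz using fun j => Submodule.Quotient.mk_surjective J (w j)
      exact ⟨z, funext hz⟩
    have e : LinearMap.ker F = LinearMap.ker G := by
      ext w
      simp only [LinearMap.mem_ker, F, G, LinearMap.coe_comp, Function.comp_apply, Submodule.mkQ_apply,
        Submodule.Quotient.mk_eq_zero]
      exact hmemP w
    exact ((F.quotKerEquivOfSurjective hF).symm.trans ((Submodule.quotEquivOfEq _ _ e).trans
      (G.quotKerEquivOfSurjective hG))).length_eq
  -- the vector attached to `y e_x - x e_y`
  obtain ⟨u0, hu0⟩ := hπ0 ⟨y, hyI⟩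
  obtain ⟨w0, hw0⟩ := hπ0 ⟨-x, neg_mem hxI⟩
  obtain ⟨v0, hv0⟩ := hAsurj (x • u0 + y • w0) (by
    rw [map_add, map_smul, map_smul, hu0, hw0]
    exact Subtype.ext (show x * y + y * -x = 0 by ring))
  let W : Submodule R (Fin r → S) :=
    { carrier := {v | ∀ w ∈ P, ∑ i, v i * w i = 0}
      add_mem' := fun {v v'} h h' w hw => by
        simp only [Pi.add_apply, add_mul, Finset.sum_add_distrib, h w hw, h' w hw, add_zero]
      zero_mem' := fun w _ => by simp
      smul_mem' := fun s v h w hw => by
        simp only [Pi.smul_apply, smul_mul_assoc, ← Finset.smul_sum, h w hw, smul_zero] }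
  have hperp := length_perp hdim hm ha hab M hfS P W fun v => Iff.rfl
  have hWiff : ∀ v : Fin r → R, mkS v ∈ W ↔ (∀ i, A v i ∈ q) ∧ ∀ j, ∀ s ∈ J, s * v j ∈ q := by
    intro v
    have hsum : ∀ w : Fin r → R, ∑ j, mkS v j * mkS w j = Ideal.Quotient.mk q (∑ j, v j * w j) := fun w => by
      rw [map_sum]
      refine Finset.sum_congr rfl fun j _ => ?_
      show Ideal.Quotient.mk q (v j) * Ideal.Quotient.mk q (w j) = _
      exact (map_mul _ _ _).symm
    constructor
    · intro h
      refine ⟨fun i => ?_, fun j s hs => ?_⟩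
      · have h1 := h (mkS (c i)) ((hmemP _).mpr ⟨Pi.single i (Submodule.Quotient.mk 1), funext fun j => by
          rw [hT, Finset.sum_eq_single i (fun l _ hl => by rw [Pi.single_eq_of_ne hl, smul_zero])
            (fun h => absurd (Finset.mem_univ _) h), Pi.single_eq_same, ← Submodule.Quotient.mk_smul, smul_eq_mul, mul_one]
          rfl⟩)
        rw [hsum, Ideal.Quotient.eq_zero_iff_mem] at h1
        rw [hAc]
        simpa only [mul_comm] using h1
      · have h1 := h (mkS (Pi.single j s)) ((hmemP _).mpr (by
          rw [show mkL (Pi.single j s) = 0 from funext fun l => (Submodule.Quotient.mk_eq_zero J).mpr (by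
            show (Pi.single j s : Fin r → R) l ∈ J
            by_cases e : l = j
            · subst e; rwa [Pi.single_eq_same]
            · rw [Pi.single_eq_of_ne e]; exact zero_mem _)]
          exact zero_mem _))
        rw [hsum, Ideal.Quotient.eq_zero_iff_mem, Finset.sum_eq_single j (fun l _ hl => by rw [Pi.single_eq_of_ne hl, mul_zero])
          (fun h => absurd (Finset.mem_univ _) h), Pi.single_eq_same, mul_comm] at h1
        exact h1
    · rintro ⟨h1, h2⟩ _ ⟨w, hw, rfl⟩
      obtain ⟨u, hu⟩ := hw
      choose z hz using fun i => Submodule.Quotient.mk_surjective J (u i)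
      rw [hsum, Ideal.Quotient.eq_zero_iff_mem]
      have hj : ∀ j, w j - ∑ i, c i j * z i ∈ J := fun j => by
        refine (Submodule.Quotient.eq J).mp ?_
        have := congrFun hu j
        rw [hT] at this
        refine this.symm.trans ?_
        show _ = J.mkQ (∑ i, c i j * z i)
        rw [map_sum]
        exact Finset.sum_congr rfl fun i _ => by rw [← hz i]; rfl
      have e : ∑ j, v j * w j = ∑ j, (w j - ∑ i, c i j * z i) * v j + ∑ i, z i * A v i := by
        simp only [hAc, sub_mul, Finset.sum_sub_distrib, Finset.mul_sum, Finset.sum_mul]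
        rw [Finset.sum_comm (f := fun i j => z i * (c i j * v j))]
        have : ∀ j i, c i j * z i * v j = z i * (c i j * v j) := fun j i => by ring
        simp only [this, sub_add_cancel, mul_comm (v _)]
      rw [e]
      exact add_mem (sum_mem fun j _ => h2 j _ (hj j)) (sum_mem fun i _ => Ideal.mul_mem_left _ _ (h1 i))
  have hIiff : ∀ t : R, (∀ j, t * v0 j ∈ q) ↔ t ∈ I := by
    intro t
    constructor
    · intro h
      choose p' q' hpq using fun j => Ideal.mem_span_pair.mp (h j)
      have hv : t • v0 = x • p' + y • q' := funext fun j => by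
        show t * v0 j = x * p' j + y * q' j
        rw [← hpq j]; ring
      have hA := congrArg A hv
      rw [map_smul, hv0, map_add, map_smul, map_smul] at hA
      have hdiv : ∀ i, ∃ z, t * u0 i - A p' i = y * z := fun i => by
        have := congrFun hA i
        simp only [Pi.add_apply, Pi.smul_apply, smul_eq_mul] at this
        obtain ⟨z, hz⟩ := hreg (A q' i - t * w0 i) ⟨t * u0 i - A p' i, by linear_combination -this⟩
        refine ⟨z, mul_left_cancel₀ hx0 ?_⟩
        linear_combination this + y * hz
      choose z hz using hdiv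
      have h1 : t • u0 - A p' = y • z := funext hz
      have h2 := congrArg π0 h1
      rw [map_sub, map_smul, hAπ, sub_zero, hu0, map_smul] at h2
      have h3 : t * y = y * (π0 z).1 := congrArg Subtype.val h2
      rw [mul_comm] at h3
      rw [mul_left_cancel₀ (pow_ne_zero _ hb) h3]
      exact (π0 z).2
    · intro ht
      obtain ⟨z, hz⟩ := hπ0 ⟨t, ht⟩
      obtain ⟨pa, hpa⟩ := hAsurj (t • u0 - y • z) (by
        rw [map_sub, map_smul, map_smul, hu0, hz]
        exact Subtype.ext (show t * y - y * t = 0 by ring))
      obtain ⟨pb, hpb⟩ := hAsurj (t • w0 + x • z) (by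
        rw [map_add, map_smul, map_smul, hw0, hz]
        exact Subtype.ext (show t * -x + x * t = 0 by ring))
      have : A (t • v0) = A (x • pa + y • pb) := by
        rw [map_smul, hv0, map_add, map_smul, map_smul, hpa, hpb]
        funext i
        simp only [Pi.add_apply, Pi.sub_apply, Pi.smul_apply, smul_eq_mul]
        ring
      intro j
      rw [show t * v0 j = x * pa j + y * pb j from congrFun (hAinj this) j]
      exact Ideal.mem_span_pair.mpr ⟨pa j, pb j, by ring⟩
  have hA0 : ∀ i, A v0 i ∈ q := fun i => by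
    rw [hv0]
    exact Ideal.mem_span_pair.mpr ⟨u0 i, w0 i, by simp only [Pi.add_apply, Pi.smul_apply, smul_eq_mul]; ring⟩
  let ψ : (I.colon J : Ideal R) →ₗ[R] (Fin r → S) :=
    (mkS.comp (LinearMap.toSpanSingleton R (Fin r → R) v0)).comp (Submodule.subtype _)
  have hψ : LinearMap.range ψ = W := by
    refine le_antisymm ?_ fun v hv => ?_
    · rintro _ ⟨⟨t, ht⟩, rfl⟩
      refine (hWiff (t • v0)).mpr ⟨fun i => ?_, fun j s hs => ?_⟩
      · rw [map_smul]; exact Ideal.mul_mem_left _ _ (hA0 i)
      · show s * (t * v0 j) ∈ q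
        rw [← mul_assoc, mul_comm s t]
        exact (hIiff (t * s)).mpr (Submodule.mem_colon.mp ht s hs) j
    · obtain ⟨v, rfl⟩ := hmkS v
      obtain ⟨h1, h2⟩ := (hWiff v).mp hv
      choose u w huw using fun i => Ideal.mem_span_pair.mp (h1 i)
      have hA : A v = x • u + y • w := funext fun i => by
        show A v i = x * u i + y * w i
        rw [← huw i]; ring
      have h0 := congrArg π0 hA
      rw [hAπ, map_add, map_smul, map_smul] at h0
      have h0' : x * (π0 u).1 + y * (π0 w).1 = 0 := (congrArg Subtype.val h0).symm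
      obtain ⟨t', ht'⟩ := hreg (π0 w).1 ⟨-(π0 u).1, by linear_combination h0'⟩
      have hpu : (π0 u).1 = -y * t' := mul_left_cancel₀ hx0 (by rw [ht'] at h0'; linear_combination h0')
      set t := -t'
      obtain ⟨pa, hpa⟩ := hAsurj (u - t • u0) (by
        rw [map_sub, map_smul, hu0]
        exact Subtype.ext (show (π0 u).1 - t * y = 0 by rw [hpu]; ring))
      obtain ⟨pb, hpb⟩ := hAsurj (w - t • w0) (by
        rw [map_sub, map_smul, hw0]
        exact Subtype.ext (show (π0 w).1 - t * -x = 0 by rw [ht']; ring))
      have hveq : v = t • v0 + (x • pa + y • pb) := hAinj (by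
        rw [hA, map_add, map_add, map_smul, map_smul, map_smul, hv0, hpa, hpb]
        funext i
        simp only [Pi.add_apply, Pi.sub_apply, Pi.smul_apply, smul_eq_mul]
        ring)
      have hq' : ∀ j, (x • pa + y • pb) j ∈ q := fun j => Ideal.mem_span_pair.mpr ⟨pa j, pb j, by simp only [Pi.add_apply, Pi.smul_apply, smul_eq_mul]; ring⟩
      have ht : t ∈ I.colon J := Submodule.mem_colon.mpr fun s hs => (hIiff (t * s)).mp fun j => by
        have := h2 j s hs
        rw [hveq, Pi.add_apply, mul_add, Pi.smul_apply, smul_eq_mul] at this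
        have h' := (Ideal.add_mem_iff_left q (Ideal.mul_mem_left _ s (hq' j))).mp this
        rwa [← mul_assoc, mul_comm s t] at h'
      refine ⟨⟨t, ht⟩, ?_⟩
      show mkS (t • v0) = mkS v
      rw [hveq, map_add mkS (t • v0), show mkS (x • pa + y • pb) = 0 from funext fun j =>
        (Submodule.Quotient.mk_eq_zero q).mpr (hq' j), add_zero]
  have hker : LinearMap.ker ψ = Submodule.comap (Submodule.subtype _) I := by
    ext ⟨t, ht⟩
    rw [LinearMap.mem_ker, Submodule.mem_comap]
    refine Iff.trans ?_ (hIiff t)
    constructor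
    · exact fun h j => (Submodule.Quotient.mk_eq_zero q).mp (congrFun h j)
    · exact fun h => funext fun j => (Submodule.Quotient.mk_eq_zero q).mpr (h j)
  have hle : I ≤ I.colon J := fun t ht => Submodule.mem_colon.mpr fun s _ => Ideal.mul_mem_right _ _ ht
  let ρ : (I.colon J : Ideal R) →ₗ[R] R ⧸ I := (Submodule.mkQ I).comp (Submodule.subtype _)
  have hρ : LinearMap.ker ρ = Submodule.comap (Submodule.subtype _) I := by
    rw [LinearMap.ker_comp, Submodule.ker_mkQ]
  have hWlen : Module.length R W = Module.length R (LinearMap.range ρ) := by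
    rw [← hψ]
    exact (ψ.quotKerEquivRange.symm.trans ((Submodule.quotEquivOfEq _ _ (hker.trans hρ.symm)).trans
      ρ.quotKerEquivRange)).length_eq
  have hIlen : Module.length R (R ⧸ I) = Module.length R (LinearMap.range ρ) + Module.length R (R ⧸ I.colon J) := by
    rw [length_split (Submodule.factor hle)]
    congr 1
    · refine LinearEquiv.length_eq (LinearEquiv.ofEq _ _ ?_)
      ext z
      obtain ⟨z, rfl⟩ := Submodule.Quotient.mk_surjective I z
      rw [LinearMap.mem_ker]
      refine Iff.trans (show _ ↔ z ∈ I.colon J from Submodule.Quotient.mk_eq_zero _) ?_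
      constructor
      · exact fun h => ⟨⟨z, h⟩, rfl⟩
      · rintro ⟨⟨z', hz'⟩, e⟩
        have := hle ((Submodule.Quotient.eq I).mp e)
        simpa using sub_mem hz' this
    · rw [LinearMap.range_eq_top.mpr (Submodule.factor_surjective hle), Module.length_top]
  -- counting
  have hmL := length_split T
  have hrL := length_quot (LinearMap.range T)
  rw [Module.length_pi_of_fintype, Finset.sum_const, Finset.card_univ, Fintype.card_fin] at hmL hrL
  rw [← hcoker, ← hperp, hWlen] at hrL
  rw [← hlen1] at hmL
  replace hmL : (r + 1) • Module.length R L = _ := (congrArg (· • Module.length R L) hrank).symm.trans hmL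
  rw [succ_nsmul, hrL] at hmL
  have hfin : Module.length R (LinearMap.range T) ≠ ⊤ := by
    refine ne_top_of_le_ne_top ?_ (le_self_add.trans hrL.symm.le)
    rw [nsmul_eq_mul]
    exact WithTop.mul_ne_top (ENat.natCast_ne_top r) hJ.ne
  have key : Module.length R (↥I →ₗ[R] L) = Module.length R L + Module.length R (LinearMap.range ρ) := by
    refine WithTop.add_right_cancel hfin ?_
    exact hmL.symm.trans (by abel)
  rw [key, hIlen]
  abel

end Groth.Agent.Hilb37.RegTwo
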