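import Groth.Agent.Hilb37.Duality
import Mathlib.Algebra.Order.BigOperators.Group.Finset
import Mathlib.Order.Interval.Finset.Basic
import Mathlib.Data.Int.Interval
import Mathlib.Data.Fin.VecNotation

/-! Columns of the tangent space in three variables. -/

set_option autoImplicit false

namespace Groth.Agent.Hilb37

open MvPolynomial W4c1hilbpn

variable {k : Type*} [Field k] {I : Ideal (MvPolynomial (Fin 3) k)}

/-- The point with coordinates `a, b, c` in the directions `l + 1, l + 2, l`. -/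
def pt (l : Fin 3) (a b c : ℤ) : Fin 3 → ℤ := fun i => if i = l then c else if i = l + 1 then a else b

theorem pt_self (l : Fin 3) (a b c : ℤ) : pt l a b c l = c := if_pos rfl

theorem pt_one (l : Fin 3) (a b c : ℤ) : pt l a b c (l + 1) = a := by
  rw [pt, if_neg (by revert l; decide), if_pos rfl]

theorem pt_two (l : Fin 3) (a b c : ℤ) : pt l a b c (l + 2) = b := by
  rw [pt, if_neg (by revert l; decide), if_neg (by revert l; decide)]

theorem fin3_cases (l i : Fin 3) : i = l ∨ i = l + 1 ∨ i = l + 2 := by revert l i; decide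

theorem forall_fin3 (l : Fin 3) {P : Fin 3 → Prop} : (∀ i, P i) ↔ P l ∧ P (l + 1) ∧ P (l + 2) :=
  ⟨fun h => ⟨h _, h _, h _⟩, fun ⟨h0, h1, h2⟩ i => by rcases fin3_cases l i with rfl | rfl | rfl <;> assumption⟩

theorem pt_eta (l : Fin 3) (α : Fin 3 → ℤ) : pt l (α (l + 1)) (α (l + 2)) (α l) = α := by
  funext i
  rcases fin3_cases l i with rfl | rfl | rfl
  · exact pt_self ..
  · exact pt_one ..
  · exact pt_two ..

theorem opp_pt (l : Fin 3) (a b c : ℤ) : opp (pt l a b c) = pt l (-a - 1) (-b - 1) (-c - 1) := by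
  funext i
  simp only [opp, Pi.sub_apply, Pi.neg_apply, one3, pt]
  split_ifs <;> rfl

theorem pt_add (l : Fin 3) (a b c a' b' c' : ℤ) : pt l a b c + pt l a' b' c' = pt l (a + a') (b + b') (c + c') := by
  funext i
  simp only [Pi.add_apply, pt]
  split_ifs <;> rfl

theorem ev_eq_pt (l : Fin 3) : ev l = pt l 0 0 1 ∧ ev (l + 1) = pt l 1 0 0 ∧ ev (l + 2) = pt l 0 1 0 := by
  refine ⟨?_, ?_, ?_⟩ <;> funext i <;> simp only [ev, pt, Pi.single_apply] <;>
    fin_cases l <;> fin_cases i <;> simp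

/-- The points with all coordinates of absolute value at most `N`. -/
noncomputable def box (N : ℕ) : Finset (Fin 3 → ℤ) := Fintype.piFinset fun _ => Finset.Icc (-(N : ℤ)) N

theorem mem_box {N : ℕ} {γ : Fin 3 → ℤ} : γ ∈ box N ↔ ∀ i, -(N : ℤ) ≤ γ i ∧ γ i ≤ N := by
  simp [box, Fintype.mem_piFinset]

variable (I) in
/-- `N` bounds the standard monomials and the degrees of the pieces. -/
def Bounded (N : ℕ) : Prop :=
  (∀ γ ∈ stand I, ∀ i, γ i < N) ∧ ∀ α, α ∉ box N → ∀ f ∈ RegFun I α, f = 0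

theorem pairs_eq_zero {N : ℕ} (hN : Bounded I N) {δ : Fin 3 → ℤ} {i : Fin 3} (h : δ i ≤ -(N : ℤ) ∨ (N : ℤ) ≤ δ i) :
    pairs I δ = 0 := by
  haveI : IsEmpty {γ : stand I // γ.1 + δ ∈ stand I} := ⟨fun γ => by
    have h1 := γ.1.2.1 i
    have h2 := hN.1 _ γ.1.2 i
    have h3 := γ.2.1 i
    have h4 := hN.1 _ γ.2 i
    simp only [Pi.add_apply] at h3 h4
    omega⟩
  exact Nat.card_of_isEmpty

theorem sum_telescope (g : ℤ → ℤ) : ∀ M : ℕ,
    ∑ c ∈ Finset.Icc (-(M : ℤ)) M, (g (c + 1) - g c) = g ((M : ℤ) + 1) - g (-(M : ℤ))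
  | 0 => by simp
  | M + 1 => by
    have e : Finset.Icc (-((M + 1 : ℕ) : ℤ)) ((M + 1 : ℕ) : ℤ) =
        insert (-((M + 1 : ℕ) : ℤ)) (insert ((M + 1 : ℕ) : ℤ) (Finset.Icc (-(M : ℤ)) M)) := by
      ext x; simp only [Finset.mem_Icc, Finset.mem_insert]; omega
    rw [e, Finset.sum_insert (by simp; omega), Finset.sum_insert (by simp), sum_telescope g M]
    push_cast
    rw [show -((M : ℤ) + 1) + 1 = -(M : ℤ) by ring]
    ring

variable (I) in
/-- The number of standard monomials over `(a, b)` in the direction `l`. -/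
noncomputable def stairs (l : Fin 3) (a b : ℕ) : ℕ := Nat.card {c : ℕ // pt l a b c ∈ stand I}

variable [Module.Finite k (MvPolynomial (Fin 3) k ⧸ I)] (hI : IsMonomial I)

include hI in
theorem exists_bound : ∃ N, Bounded I N := by
  classical
  obtain ⟨F, hF⟩ := exists_support hI
  refine ⟨((F ∪ (stand_finite hI).toFinset).sup fun γ => (γ 0).natAbs + (γ 1).natAbs + (γ 2).natAbs) + 1,
    fun γ hγ i => ?_, fun α hα => hF α fun h => hα (mem_box.mpr fun i => ?_)⟩
  · have := Finset.le_sup (f := fun γ : Fin 3 → ℤ => (γ 0).natAbs + (γ 1).natAbs + (γ 2).natAbs)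
      (Finset.mem_union_right F ((stand_finite hI).mem_toFinset.mpr hγ))
    fin_cases i <;> simp only [Fin.zero_eta, Fin.mk_one, Fin.reduceFinMk] <;> omega
  · have := Finset.le_sup (f := fun γ : Fin 3 → ℤ => (γ 0).natAbs + (γ 1).natAbs + (γ 2).natAbs)
      (Finset.mem_union_left (stand_finite hI).toFinset h)
    fin_cases i <;> simp only [Fin.zero_eta, Fin.mk_one, Fin.reduceFinMk] <;> omega

variable (I) in
/-- The dimension of the piece of degree `α`. -/
noncomputable def tDim (α : Fin 3 → ℤ) : ℕ := Module.finrank k (RegFun I α)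

omit [Module.Finite k (MvPolynomial (Fin 3) k ⧸ I)] in
theorem tDim_eq_zero {α : Fin 3 → ℤ} (h : ∀ f ∈ RegFun I α, f = 0) : tDim I α = 0 := by
  rw [tDim, (Submodule.eq_bot_iff _).mpr h, finrank_bot]

include hI in
theorem tDim_eq_zero_of_nonneg_or_neg {α : Fin 3 → ℤ} (h : (∀ i, 0 ≤ α i) ∨ ∀ i, α i < 0) : tDim I α = 0 := by
  refine tDim_eq_zero fun f hf => ?_
  rcases h with h | h
  · exact RegFun.eq_zero_of_nonneg h hf
  · exact RegFun.eq_zero_of_nonpos hI (i := 0) (j := 1) (by decide) (h 0) (h 1) (fun l => (h l).le) hf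

/-- The sum of the pieces on a line. -/
noncomputable def colSum (I : Ideal (MvPolynomial (Fin 3) k)) (N : ℕ) (l : Fin 3) (a b : ℤ) : ℕ :=
  ∑ c ∈ Finset.Icc (-((N + 1 : ℕ) : ℤ)) ((N + 1 : ℕ) : ℤ), tDim I (pt l a b c)

omit [Module.Finite k (MvPolynomial (Fin 3) k ⧸ I)] in
theorem colSum_opp {N : ℕ} (hN : Bounded I N) (l : Fin 3) (a b : ℤ) :
    ∑ c ∈ Finset.Icc (-((N + 1 : ℕ) : ℤ)) ((N + 1 : ℕ) : ℤ), tDim I (opp (pt l a b c)) =
      colSum I N l (-a - 1) (-b - 1) := by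
  have hz : ∀ (c : ℤ), ((N : ℤ) < c ∨ c < -(N : ℤ)) → tDim I (pt l (-a - 1) (-b - 1) c) = 0 := fun c hc =>
    tDim_eq_zero (hN.2 _ fun h => by
      have := mem_box.mp h l
      rw [pt_self] at this
      omega)
  simp only [opp_pt, colSum]
  have h : ∀ (s : Finset ℤ), Finset.Icc (-(N : ℤ)) N ⊆ s →
      ∑ c ∈ s, tDim I (pt l (-a - 1) (-b - 1) c) =
        ∑ c ∈ Finset.Icc (-(N : ℤ)) N, tDim I (pt l (-a - 1) (-b - 1) c) := fun s hs =>
    (Finset.sum_subset hs fun x _ hx => hz x (by simp only [Finset.mem_Icc] at hx; omega)).symm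
  rw [h (Finset.Icc (-((N + 1 : ℕ) : ℤ)) ((N + 1 : ℕ) : ℤ)) (fun x hx => by
    simp only [Finset.mem_Icc] at hx ⊢; omega)]
  have hinj : Set.InjOn (fun c : ℤ => -c - 1) (Finset.Icc (-((N + 1 : ℕ) : ℤ)) ((N + 1 : ℕ) : ℤ) : Finset ℤ) := by
    intro x _ y _ e
    simp only at e
    omega
  rw [← h ((Finset.Icc (-((N + 1 : ℕ) : ℤ)) ((N + 1 : ℕ) : ℤ)).image fun c => -c - 1) (fun x hx =>
      Finset.mem_image.mpr ⟨-x - 1, by simp only [Finset.mem_Icc] at hx ⊢; omega, by ring⟩),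
    Finset.sum_image hinj]

include hI in
theorem sum_stand {N : ℕ} (hN : Bounded I N) (l : Fin 3) (a b : ℕ) :
    ∑ c ∈ Finset.Icc (-((N + 1 : ℕ) : ℤ)) ((N + 1 : ℕ) : ℤ),
      (open Classical in if pt l a b c ∈ stand I then (1 : ℤ) else 0) = stairs I l a b := by
  classical
  rw [Finset.sum_boole, Nat.cast_inj, stairs, ← Nat.card_eq_finsetCard]
  exact Nat.card_congr
    { toFun := fun c => ⟨c.1.toNat, by
        obtain ⟨c, hc⟩ := c
        simp only [Finset.mem_filter] at hc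
        have h0 := hc.2.1 l
        rw [pt_self] at h0
        rw [Int.toNat_of_nonneg h0]
        exact hc.2⟩
      invFun := fun c => ⟨c.1, by
        have h1 := hN.1 _ c.2 l
        rw [pt_self] at h1
        simp only [Finset.mem_filter, Finset.mem_Icc]
        exact ⟨by omega, c.2⟩⟩
      left_inv := fun c => by
        obtain ⟨c, hc⟩ := c
        simp only [Finset.mem_filter] at hc
        have h0 := hc.2.1 l
        rw [pt_self] at h0
        exact Subtype.ext (Int.toNat_of_nonneg h0)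
      right_inv := fun c => Subtype.ext (Int.toNat_natCast _) }

include hI in
/-- The column identity. -/
theorem colSum_eq {N : ℕ} (hN : Bounded I N) (l : Fin 3) (i j : ℕ) :
    colSum I N l i j = stairs I l i j + colSum I N l (-(i : ℤ) - 1) (-(j : ℤ) - 1) := by
  classical
  have hopp : ∀ c : ℤ, opp (pt l i j c) ∉ stand I := fun c h => by
    have := h.1 (l + 1)
    rw [opp_pt, pt_one] at this
    omega
  let g1 : ℤ → ℤ := fun c => (pairs I (pt l i j c) : ℤ)
  let g2 : ℤ → ℤ := fun c => (pairs I (pt l ((i : ℤ) + 1) j c) : ℤ)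
  let g3 : ℤ → ℤ := fun c => (pairs I (pt l i ((j : ℤ) + 1) c) : ℤ)
  let g4 : ℤ → ℤ := fun c => (pairs I (pt l ((i : ℤ) + 1) ((j : ℤ) + 1) c) : ℤ)
  have hc : ∀ c : ℤ, (tDim I (pt l i j c) : ℤ) - tDim I (opp (pt l i j c)) =
      (if pt l i j c ∈ stand I then 1 else 0) +
        (((g1 (c + 1) - g1 c) - (g2 (c + 1) - g2 c)) + ((g4 (c + 1) - g4 c) - (g3 (c + 1) - g3 c))) := fun c => by
    have h := euler hI (pt l i j c)
    rw [if_neg (hopp c)] at h
    have perm : ∀ f : Fin 3 → ℤ, ∑ x : Fin 3, f x = f l + f (l + 1) + f (l + 2) := fun f => by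
      rw [Fin.sum_univ_three]
      fin_cases l <;> simp <;> ring
    have a1 : ∀ x : Fin 3, x + 1 + 1 = x + 2 ∧ x + 1 + 2 = x ∧ x + 2 + 1 = x ∧ x + 2 + 2 = x + 1 := by decide
    obtain ⟨e0, e1, e2⟩ := ev_eq_pt l
    rw [perm, perm, (a1 l).1, (a1 l).2.1, (a1 l).2.2.1, (a1 l).2.2.2, ← ev_sum l, e0, e1, e2] at h
    simp only [pt_add, add_zero, zero_add] at h
    simp only [tDim, g1, g2, g3, g4]
    rw [h]
    ring
  have hsum := Finset.sum_congr (s₁ := Finset.Icc (-((N + 1 : ℕ) : ℤ)) ((N + 1 : ℕ) : ℤ)) rfl fun c _ => hc c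
  have hz : ∀ a b : ℤ, (pairs I (pt l a b (((N + 1 : ℕ) : ℤ) + 1)) : ℤ) = 0 ∧
      (pairs I (pt l a b (-((N + 1 : ℕ) : ℤ))) : ℤ) = 0 := fun a b =>
    ⟨by exact_mod_cast pairs_eq_zero hN (i := l) (by rw [pt_self]; omega),
      by exact_mod_cast pairs_eq_zero hN (i := l) (by rw [pt_self]; omega)⟩
  simp only [Finset.sum_add_distrib, Finset.sum_sub_distrib] at hsum
  rw [← Nat.cast_sum, ← Nat.cast_sum, colSum_opp hN, sum_stand hI hN] at hsum
  simp only [← Finset.sum_sub_distrib, sum_telescope] at hsum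
  simp only [g1, g2, g3, g4, fun a b => (hz a b).1, fun a b => (hz a b).2, sub_self, add_zero] at hsum
  simp only [colSum] at *
  omega

include hI in
theorem finrank_line {N : ℕ} (hN : Bounded I N) (l : Fin 3) (a b : ℤ) (P : (Fin 3 → ℤ) → Prop)
    (hP : ∀ α, P α ↔ α (l + 1) = a ∧ α (l + 2) = b) :
    Module.finrank k ↥(⨆ α : {α // P α}, tPiece I α.1) = colSum I N l a b := by
  classical
  have hbot : ∀ α, P α → α ∉ (Finset.Icc (-((N + 1 : ℕ) : ℤ)) ((N + 1 : ℕ) : ℤ)).image (fun c => pt l a b c) →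
      tPiece I α = ⊥ := fun α hα hn => by
    refine tPiece_eq_bot hI α (hN.2 α fun h => hn (Finset.mem_image.mpr ⟨α l, ?_, ?_⟩))
    · have := mem_box.mp h l
      simp only [Finset.mem_Icc]; omega
    · obtain ⟨h1, h2⟩ := (hP α).mp hα
      conv_rhs => rw [← pt_eta l α]
      rw [h1, h2]
  rw [finrank_iSup hI hbot, Finset.filter_true_of_mem (fun α hα => ?_), Finset.sum_image fun x _ y _ e => ?_]
  · rfl
  · have := congrFun e l
    rwa [pt_self, pt_self] at this
  · obtain ⟨c, -, rfl⟩ := Finset.mem_image.mp hα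
    exact (hP _).mpr ⟨pt_one .., pt_two ..⟩

end Groth.Agent.Hilb37
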