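import Groth.Agent.Hilb37.Finite

/-! Pieces as functions on bounded components of the region. -/

set_option autoImplicit false

namespace Groth.Agent.Hilb37

open MvPolynomial W4c1hilbpn

variable {n : ℕ} {k : Type*} [Field k] {I : Ideal (MvPolynomial (Fin n) k)}

theorem mem_region {α γ : Fin n → ℤ} : γ ∈ region I α ↔ γ - α ∈ expZ I ∧ γ ∉ expZ I := by
  constructor
  · rintro ⟨⟨β, hβ, rfl⟩, h2⟩
    refine ⟨?_, h2⟩
    convert toZ_mem_expZ.mpr hβ using 1
    funext i
    simp
  · rintro ⟨h1, h2⟩
    refine ⟨⟨toN (γ - α), h1.2, funext fun i => ?_⟩, h2⟩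
    have h := congrFun (toZ_toN h1.1) i
    simp only [toZ_apply, Pi.sub_apply] at h
    omega

theorem step_le {a b : Fin n → ℤ} (h : (stepGraph (Fin n)).Adj a b) : a ≤ b ∨ b ≤ a := by
  simp only [stepGraph, SimpleGraph.fromRel_adj] at h
  obtain ⟨-, h⟩ := h
  have key : ∀ c : Fin n → ℤ, ∑ i, |c i| = 1 → (∀ i, 0 ≤ c i) ∨ ∀ i, c i ≤ 0 := by
    intro c hc
    by_contra hn
    simp only [not_or, not_forall, not_le] at hn
    obtain ⟨⟨i, hi⟩, ⟨j, hj⟩⟩ := hn
    have hij : i ≠ j := fun e => by subst e; omega
    have h2 := Finset.sum_le_sum_of_subset_of_nonneg (s := ({i, j} : Finset (Fin n))) (t := Finset.univ)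
      (f := fun x => |c x|) (Finset.subset_univ _) (fun x _ _ => abs_nonneg _)
    rw [Finset.sum_pair hij, hc, abs_of_neg hi, abs_of_pos hj] at h2
    omega
  rcases h with h | h
  · rcases key (fun i => a i - b i) h with h' | h'
    · exact Or.inr fun i => sub_nonneg.mp (h' i)
    · exact Or.inl fun i => sub_nonpos.mp (h' i)
  · rcases key (fun i => b i - a i) h with h' | h'
    · exact Or.inl fun i => sub_nonneg.mp (h' i)
    · exact Or.inr fun i => sub_nonpos.mp (h' i)

theorem step_adj (x : Fin n → ℤ) (i : Fin n) : (stepGraph (Fin n)).Adj x (x + ev i) := by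
  rw [stepGraph, SimpleGraph.fromRel_adj]
  refine ⟨fun h => by have := congrFun h i; simp [ev_self] at this, Or.inl ?_⟩
  rw [Finset.sum_eq_single i]
  · simp [ev_self]
  · intro j _ hj; simp [ev_ne hj]
  · simp

variable (I)

/-- The region as a graph. -/
noncomputable abbrev regGraph (α : Fin n → ℤ) : SimpleGraph (region I α) := (stepGraph (Fin n)).induce (region I α)

variable {I}

theorem reachable_of_le {α : Fin n → ℤ} : ∀ (N : ℕ) (x y : region I α), x.1 ≤ y.1 →
    (∑ i, (y.1 i - x.1 i).toNat) ≤ N → (regGraph I α).Reachable x y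
  | 0, x, y, hle, hN => by
    have : x = y := Subtype.ext (funext fun i => by
      have h1 : x.1 i ≤ y.1 i := hle i
      have h2 : (y.1 i - x.1 i).toNat ≤ 0 := le_trans
        (Finset.single_le_sum (f := fun i => (y.1 i - x.1 i).toNat) (fun _ _ => Nat.zero_le _) (Finset.mem_univ i)) hN
      omega)
    rw [this]
  | N + 1, x, y, hle, hN => by
    by_cases he : x = y
    · rw [he]
    obtain ⟨i, hi⟩ : ∃ i, x.1 i < y.1 i := by
      by_contra hc
      simp only [not_exists, not_lt] at hc
      exact he (Subtype.ext (funext fun i => le_antisymm (hle i) (hc i)))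
    have h1 : x.1 ≤ y.1 - ev i := fun j => by
      have : x.1 j ≤ y.1 j := hle j
      by_cases hj : j = i
      · subst hj; simp only [Pi.sub_apply, ev_self]; omega
      · simp only [Pi.sub_apply, ev_ne hj]; omega
    have hmem : y.1 - ev i ∈ region I α := by
      refine mem_region.mpr ⟨expZ_mono (mem_region.mp x.2).1 fun j => ?_, fun h => (mem_region.mp y.2).2
        (expZ_mono h fun j => ?_)⟩
      · have : x.1 j ≤ (y.1 - ev i) j := h1 j
        simp only [Pi.sub_apply] at this ⊢; omega
      · have := ev_nonneg i j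
        simp only [Pi.sub_apply]; omega
    refine (reachable_of_le N x ⟨_, hmem⟩ h1 ?_).trans (SimpleGraph.Adj.reachable ?_)
    · have hlt : ∑ j, ((y.1 - ev i) j - x.1 j).toNat < ∑ j, (y.1 j - x.1 j).toNat := by
        refine Finset.sum_lt_sum (fun j _ => ?_) ⟨i, Finset.mem_univ _, ?_⟩
        · have := ev_nonneg i j; simp only [Pi.sub_apply]; omega
        · simp only [Pi.sub_apply, ev_self]; omega
      show ∑ j, ((y.1 - ev i) j - x.1 j).toNat ≤ N
      omega
    · show (stepGraph (Fin n)).Adj (y.1 - ev i) y.1
      simpa using step_adj (y.1 - ev i) i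

theorem f_eq_of_le {α : Fin n → ℤ} {f : (Fin n → ℤ) → k} (hf : f ∈ RegFun I α) {x y : Fin n → ℤ}
    (hx : x ∈ region I α) (hy : y ∈ region I α) (hle : x ≤ y) : f x = f y := by
  by_cases hn : NN y
  · exact hf.2 x y (mem_region.mp hx).1 hle ((stand_or_expZ hn).resolve_right (mem_region.mp hy).2)
  · rw [hf.1 y fun h => hn h.1.1, hf.1 x fun h => hn fun i => (h.1.1 i).trans (hle i)]

theorem f_eq_of_reachable {α : Fin n → ℤ} {f : (Fin n → ℤ) → k} (hf : f ∈ RegFun I α) {x y : region I α}
    (h : (regGraph I α).Reachable x y) : f x.1 = f y.1 := by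
  obtain ⟨w⟩ := h
  induction w with
  | nil => rfl
  | cons hadj _ ih =>
    refine Eq.trans ?_ ih
    rcases step_le hadj with h | h
    · exact f_eq_of_le hf (Subtype.mem _) (Subtype.mem _) h
    · exact (f_eq_of_le hf (Subtype.mem _) (Subtype.mem _) h).symm

variable [Module.Finite k (MvPolynomial (Fin n) k ⧸ I)] (hn2 : 2 ≤ n) (hI : IsMonomial I) (α : Fin n → ℤ)

include hn2 hI in
theorem finite_supp_iff (c : (regGraph I α).ConnectedComponent) : c.supp.Finite ↔ ∀ x ∈ c.supp, NN (x : region I α).1 := by
  constructor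
  · intro hfin x hx
    by_contra hneg
    simp only [NN, not_forall, not_le] at hneg
    obtain ⟨i, hi⟩ := hneg
    haveI : Nontrivial (Fin n) := Fin.nontrivial_iff_two_le.mpr hn2
    obtain ⟨j, hj⟩ := exists_ne i
    have hmem : ∀ t : ℕ, x.1 + (t : ℤ) • ev j ∈ region I α := fun t => by
      refine mem_region.mpr ⟨expZ_mono (mem_region.mp x.2).1 fun l => ?_, fun h => ?_⟩
      · have := mul_nonneg (Int.natCast_nonneg t) (ev_nonneg j l)
        simp only [Pi.sub_apply, Pi.add_apply, Pi.smul_apply, smul_eq_mul]; omega
      · have := h.1 i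
        simp only [Pi.add_apply, Pi.smul_apply, smul_eq_mul, ev_ne hj.symm] at this
        omega
    refine hfin.not_infinite (Set.infinite_of_injective_forall_mem (f := fun t : ℕ => (⟨_, hmem t⟩ : region I α))
      (fun a b h => ?_) fun t => ?_)
    · have := congrFun (congrArg Subtype.val h) j
      simpa [ev_self] using this
    · rw [SimpleGraph.ConnectedComponent.mem_supp_iff] at hx ⊢
      rw [← hx]
      refine SimpleGraph.ConnectedComponent.sound (reachable_of_le _ x _ (fun l => ?_) le_rfl).symm
      have := mul_nonneg (Int.natCast_nonneg t) (ev_nonneg j l)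
      simp only [Pi.add_apply, Pi.smul_apply, smul_eq_mul]; omega
  · intro h
    refine Set.Finite.of_finite_image ((stand_finite hI).subset ?_) Subtype.val_injective.injOn
    rintro _ ⟨x, hx, rfl⟩
    exact (stand_or_expZ (h x hx)).resolve_right (mem_region.mp x.2).2

include hn2 hI in
theorem finrank_regFun_comp : Module.finrank k (RegFun I α) = nBddComp I α := by
  classical
  let B := {c : (regGraph I α).ConnectedComponent // c.supp.Finite}
  have hrep : ∀ c : B, ∃ x : region I α, x ∈ c.1.supp := fun c => c.1.nonempty_supp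
  choose rep hrep using hrep
  have hrep' : ∀ c : B, (regGraph I α).connectedComponentMk (rep c) = c.1 := fun c => hrep c
  let e : RegFun I α ≃ₗ[k] (B → k) :=
    { toFun := fun f c => f.1 (rep c).1
      map_add' := fun f g => rfl
      map_smul' := fun r f => rfl
      invFun := fun g => ⟨fun γ =>
          if h : γ ∈ region I α then
            if hc : ((regGraph I α).connectedComponentMk ⟨γ, h⟩).supp.Finite then g ⟨_, hc⟩ else 0
          else 0,
        fun γ hγ => by
          show dite _ _ _ = (0 : k)
          split_ifs with h hc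
          · exfalso
            have := (finite_supp_iff hn2 hI α _).mp hc ⟨γ, h⟩ rfl
            exact hγ ⟨(stand_or_expZ this).resolve_right (mem_region.mp h).2, (mem_region.mp h).1⟩
          · rfl
          · rfl,
        fun γ γ' h hle hs => by
          have h1 : γ ∈ region I α := mem_region.mpr ⟨h, fun h' => not_expZ_of_stand hs (expZ_mono h' hle)⟩
          have h2 : γ' ∈ region I α := mem_region.mpr ⟨expZ_mono h fun i => by
            have : γ i ≤ γ' i := hle i
            simp only [Pi.sub_apply]; omega, not_expZ_of_stand hs⟩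
          have e := SimpleGraph.ConnectedComponent.sound (reachable_of_le (α := α) _ ⟨γ, h1⟩ ⟨γ', h2⟩ hle le_rfl)
          show dite _ _ _ = dite _ _ _
          rw [dif_pos h1, dif_pos h2]
          simp only [e]⟩
      left_inv := fun f => Subtype.ext (funext fun γ => by
        show dite _ _ _ = f.1 γ
        split_ifs with h hc
        · exact f_eq_of_reachable f.2 (SimpleGraph.ConnectedComponent.exact (hrep' ⟨_, hc⟩))
        · rw [finite_supp_iff hn2 hI] at hc
          simp only [not_forall] at hc
          obtain ⟨x, hx, hxn⟩ := hc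
          rw [← f_eq_of_reachable f.2 (SimpleGraph.ConnectedComponent.exact hx)]
          exact (f.2.1 x.1 fun h' => hxn h'.1.1).symm
        · exact (f.2.1 γ fun h' => h (mem_region.mpr ⟨h'.2, not_expZ_of_stand h'.1⟩)).symm)
      right_inv := fun g => funext fun c => by
        show dite _ _ _ = g c
        have hc : ((regGraph I α).connectedComponentMk ⟨(rep c).1, (rep c).2⟩).supp.Finite := by
          rw [show (regGraph I α).connectedComponentMk ⟨(rep c).1, (rep c).2⟩ = c.1 from hrep' c]; exact c.2
        rw [dif_pos (rep c).2, dif_pos hc]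
        congr 1
        exact Subtype.ext (hrep' c) }
  haveI : Finite B := by
    haveI := (stand_finite hI).to_subtype
    refine Finite.of_injective (β := stand I) (fun c => ⟨(rep c).1, (stand_or_expZ
      ((finite_supp_iff hn2 hI α c.1).mp c.2 _ (hrep c))).resolve_right (mem_region.mp (rep c).2).2⟩) fun c c' h => ?_
    refine Subtype.ext ?_
    have h' : (rep c).1 = (rep c').1 := congrArg (fun z : stand I => z.1) h
    rw [← hrep' c, ← hrep' c', show rep c = rep c' from Subtype.ext h']
  haveI := Fintype.ofFinite B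
  rw [e.finrank_eq, Module.finrank_pi, ← Nat.card_eq_fintype_card]
  rfl

end Groth.Agent.Hilb37
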