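import Groth.Agent.Hilb37.Signs

/-! Staircases, strongly stable ideals, socle indicators. -/

set_option autoImplicit false

namespace Groth.Agent.Hilb37

open MvPolynomial W4c1hilbpn

variable {k : Type*} [Field k] {I : Ideal (MvPolynomial (Fin 3) k)}

theorem e3_apply (a b c : ℕ) : e3 a b c 0 = a ∧ e3 a b c 1 = b ∧ e3 a b c 2 = c := ⟨rfl, rfl, rfl⟩

theorem toZ_e3 (a b c : ℕ) : toZ (e3 a b c) = ![(a : ℤ), b, c] := funext fun i => by fin_cases i <;> rfl

theorem pt_two_eq (a b c : ℤ) : pt 2 a b c = ![a, b, c] := funext fun i => by fin_cases i <;> simp [pt]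

theorem pt_one_eq (a b c : ℤ) : pt 1 a b c = ![b, c, a] := funext fun i => by fin_cases i <;> simp [pt]

theorem stairs_two (i j : ℕ) : stairs I 2 i j = stairZ I i j := by
  refine Nat.card_congr (Equiv.subtypeEquivRight fun c => ?_)
  rw [pt_two_eq, ← toZ_e3, toZ_mem_stand]

theorem stairs_one (a c : ℕ) : stairs I 1 c a = stairY I a c := by
  refine Nat.card_congr (Equiv.subtypeEquivRight fun b => ?_)
  rw [pt_one_eq, ← toZ_e3, toZ_mem_stand]

/-- Strong stability on integer points. -/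
theorem stable_expZ {σ : Type*} [Finite σ] [LinearOrder σ] {k : Type*} [Field k] {I : Ideal (MvPolynomial σ k)}
    (hI : IsStronglyStable I) {γ : σ → ℤ} (hγ : γ ∈ expZ I) {i j : σ} (hij : i < j)
    (hj : 0 < γ j) : γ - ev j + ev i ∈ expZ I := by
  classical
  have hne : j ≠ i := hij.ne'
  refine ⟨fun x => ?_, ?_⟩
  · have h := hγ.1 x
    have h1 := ev_nonneg i x
    simp only [Pi.add_apply, Pi.sub_apply]
    by_cases hx : x = j
    · subst hx; rw [ev_self, ev_ne hne]; omega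
    · rw [ev_ne hx]; omega
  · have h := hI.2 _ hγ.2 i j hij (by simp only [toN_apply]; omega)
    convert h using 1
    ext x
    have h0 := hγ.1 x
    simp only [toN_apply, Pi.add_apply, Pi.sub_apply, Finsupp.add_apply, Finsupp.tsub_apply, Finsupp.single_apply, ev,
      Pi.single_apply]
    by_cases h1 : x = i <;> by_cases h2 : x = j <;> simp [h1, h2, hne, hne.symm, Ne.symm] <;> subst_vars <;> omega

/-- The indicator of a socle point attached to a minimal exponent is a piece of `Hom(I, S/I)`. -/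
theorem socle_mem {σ : Type*} [Finite σ] {k : Type*} [Field k] {I : Ideal (MvPolynomial σ k)} {A γ : σ → ℤ}
    (hA : A ∈ expZ I) (hmin : ∀ x ∈ expZ I, x ≤ A → x = A) (hγ : γ ∈ stand I)
    (hsoc : ∀ x ∈ stand I, γ ≤ x → x = γ) :
    (open Classical in (fun x => if x = γ then (1 : k) else 0)) ∈ RegFun I (γ - A) := by
  classical
  refine ⟨fun x hx => if_neg fun e => hx ?_, fun x x' h hle hs => ?_⟩
  · subst e; exact ⟨hγ, by rwa [sub_sub_cancel]⟩
  · show (if x = γ then (1 : k) else 0) = if x' = γ then 1 else 0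
    by_cases hx : x = γ
    · subst hx
      rw [if_pos rfl, if_pos (hsoc x' hs hle)]
    · rw [if_neg hx, if_neg]
      intro hx'
      subst hx'
      refine hx ?_
      have := hmin _ h fun i => by
        have : x i ≤ x' i := hle i
        simp only [Pi.sub_apply]; omega
      rw [sub_eq_iff_eq_add] at this
      rw [this, add_sub_cancel]

theorem sigPiece_ne_bot {σ : Type*} [Finite σ] {k : Type*} [Field k] {I : Ideal (MvPolynomial σ k)}
    (hI : IsMonomial I) {S : Set σ} {α : σ → ℤ} (hS : ∀ i, α i < 0 ↔ i ∈ S) {f : (σ → ℤ) → k}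
    (hf : f ∈ RegFun I α) (hne : f ≠ 0) : sigPiece I S ≠ ⊥ := fun h =>
  tPiece_ne_bot hI α hf hne
    (eq_bot_iff.mpr (h ▸ le_iSup (fun a : {α : σ → ℤ // ∀ i, α i < 0 ↔ i ∈ S} => tPiece I a.1) ⟨α, hS⟩))

theorem socle_ne_bot {σ : Type*} [Finite σ] {k : Type*} [Field k] {I : Ideal (MvPolynomial σ k)}
    (hI : IsMonomial I) {S : Set σ} {A γ : σ → ℤ}
    (hA : A ∈ expZ I) (hmin : ∀ x ∈ expZ I, x ≤ A → x = A) (hγ : γ ∈ stand I)
    (hsoc : ∀ x ∈ stand I, γ ≤ x → x = γ) (hS : ∀ i, γ i < A i ↔ i ∈ S) : sigPiece I S ≠ ⊥ := by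
  classical
  refine sigPiece_ne_bot hI (α := γ - A) (fun i => by simp only [Pi.sub_apply, sub_neg]; exact hS i)
    (socle_mem hA hmin hγ hsoc) fun h => ?_
  simpa using congrFun h γ

/-- A minimal exponent is recognised by its predecessors. -/
theorem min_expZ {σ : Type*} [Finite σ] {k : Type*} [Field k] {I : Ideal (MvPolynomial σ k)} {A : σ → ℤ}
    (hpred : ∀ i, A - ev i ∉ expZ I) : ∀ x ∈ expZ I, x ≤ A → x = A := by
  intro x hx hle
  by_contra hne
  obtain ⟨i, hi⟩ : ∃ i, x i < A i := by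
    by_contra hc
    simp only [not_exists, not_lt] at hc
    exact hne (funext fun i => le_antisymm (hle i) (hc i))
  refine hpred i (expZ_mono hx fun y => ?_)
  by_cases hy : y = i
  · subst hy; simp only [Pi.sub_apply, ev_self]; omega
  · simp only [Pi.sub_apply, ev_ne hy, sub_zero]; exact hle y

/-- A socle point is recognised by its successors. -/
theorem max_stand {σ : Type*} [Finite σ] {k : Type*} [Field k] {I : Ideal (MvPolynomial σ k)} {γ : σ → ℤ}
    (hn : NN γ) (hsucc : ∀ i, γ + ev i ∈ expZ I) : ∀ x ∈ stand I, γ ≤ x → x = γ := by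
  intro x hx hle
  by_contra hne
  obtain ⟨i, hi⟩ : ∃ i, γ i < x i := by
    by_contra hc
    simp only [not_exists, not_lt] at hc
    exact hne (funext fun i => le_antisymm (hc i) (hle i))
  refine not_expZ_of_stand hx (expZ_mono (hsucc i) fun y => ?_)
  by_cases hy : y = i
  · subst hy; simp only [Pi.add_apply, ev_self]; omega
  · simp only [Pi.add_apply, ev_ne hy, add_zero]; exact hle y

theorem e3_mem_expZ {a b c : ℕ} : ![(a : ℤ), b, c] ∈ expZ I ↔ e3 a b c ∈ exps I := by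
  rw [← toZ_e3, toZ_mem_expZ]

theorem sub_ev_notMem {a b c : ℕ} (i : Fin 3)
    (h0 : i = 0 → a = 0 ∨ e3 (a - 1) b c ∉ exps I) (h1 : i = 1 → b = 0 ∨ e3 a (b - 1) c ∉ exps I)
    (h2 : i = 2 → c = 0 ∨ e3 a b (c - 1) ∉ exps I) : ![(a : ℤ), b, c] - ev i ∉ expZ I := by
  intro h
  have hn := h.1 i
  fin_cases i <;> simp [ev] at hn h0 h1 h2
  · refine h0.resolve_left (by omega) ?_
    rw [← e3_mem_expZ]
    convert h using 1
    funext x; fin_cases x <;> simp [ev, Pi.single_apply] <;> omega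
  · refine h1.resolve_left (by omega) ?_
    rw [← e3_mem_expZ]
    convert h using 1
    funext x; fin_cases x <;> simp [ev, Pi.single_apply] <;> omega
  · refine h2.resolve_left (by omega) ?_
    rw [← e3_mem_expZ]
    convert h using 1
    funext x; fin_cases x <;> simp [ev, Pi.single_apply] <;> omega

variable [Module.Finite k (MvPolynomial (Fin 3) k ⧸ I)]

theorem exists_socle (hI : IsMonomial I) {γ₀ : Fin 3 → ℤ} (h : γ₀ ∈ stand I) :
    ∃ γ ∈ stand I, γ₀ ≤ γ ∧ ∀ x ∈ stand I, γ ≤ x → x = γ := by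
  obtain ⟨γ, hle, hmax⟩ := (stand_finite hI).exists_le_maximal h
  exact ⟨γ, hmax.prop, hle, fun x hx hx' => le_antisymm (hmax.le_of_ge hx hx') hx'⟩

/-- Two variables of one generator, with the other generators' third coordinates below a socle point. -/
theorem three_gen (hI : IsMonomial I) {S : Set (Fin 3)} {A B C : Fin 3 → ℤ} (l : Fin 3) (hS : S = ({l}ᶜ : Set (Fin 3)))
    (hA : A ∈ expZ I) (hminA : ∀ i, A - ev i ∉ expZ I) (hB : B ∈ expZ I) (hminB : B - ev (l + 1) ∉ expZ I)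
    (hC : C ∈ expZ I) (hminC : C - ev (l + 2) ∉ expZ I)
    (hA0 : A l = 0) (hB0 : B (l + 2) = 0) (hC0 : C (l + 1) = 0)
    (hA1 : 0 < A (l + 1)) (hA2 : 0 < A (l + 2)) (hB1 : 0 < B (l + 1)) (hC2 : 0 < C (l + 2))
    (hle1 : B (l + 1) ≤ A (l + 1)) (hle2 : C (l + 2) ≤ A (l + 2)) :
    sigPiece I S ≠ ⊥ := by
  classical
  obtain ⟨γ₀, hγ₀, hb, hc, h1, h2⟩ : ∃ γ₀, γ₀ ∈ stand I ∧ B l ≤ γ₀ l ∧ C l ≤ γ₀ l ∧
      γ₀ (l + 1) < A (l + 1) ∧ γ₀ (l + 2) < A (l + 2) := by
    have n1 : ∀ x : Fin 3, x + 1 ≠ x ∧ x + 2 ≠ x ∧ x + 1 ≠ x + 2 := by decide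
    rcases le_total (C l) (B l) with h | h
    · refine ⟨B - ev (l + 1), (stand_or_expZ ((forall_fin3 l).mpr ?_)).resolve_right hminB, ?_, ?_, ?_, ?_⟩
      all_goals simp only [Pi.sub_apply, ev_self, ev_ne (n1 l).1.symm, ev_ne (n1 l).2.2.symm, hB0]
      all_goals first | omega | skip
      have := hB.1 l
      refine ⟨?_, ?_, ?_⟩ <;> omega
    · refine ⟨C - ev (l + 2), (stand_or_expZ ((forall_fin3 l).mpr ?_)).resolve_right hminC, ?_, ?_, ?_, ?_⟩
      all_goals simp only [Pi.sub_apply, ev_self, ev_ne (n1 l).2.1.symm, ev_ne (n1 l).2.2, hC0]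
      all_goals first | omega | skip
      have := hC.1 l
      refine ⟨?_, ?_, ?_⟩ <;> omega
  obtain ⟨γ, ⟨hγs, hγ1, hγ2⟩, hγle, hmax⟩ : ∃ γ, (γ ∈ stand I ∧ γ (l + 1) < A (l + 1) ∧ γ (l + 2) < A (l + 2)) ∧ γ₀ ≤ γ ∧
      ∀ x ∈ stand I, x (l + 1) < A (l + 1) → x (l + 2) < A (l + 2) → γ ≤ x → x = γ := by
    have hfin : {x | x ∈ stand I ∧ x (l + 1) < A (l + 1) ∧ x (l + 2) < A (l + 2)}.Finite :=
      (stand_finite hI).subset fun x hx => hx.1
    obtain ⟨γ, hle, hm⟩ := hfin.exists_le_maximal (a := γ₀) ⟨hγ₀, h1, h2⟩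
    exact ⟨γ, hm.prop, hle, fun x hx a b h => le_antisymm (hm.le_of_ge ⟨hx, a, b⟩ h) h⟩
  refine socle_ne_bot hI hA (min_expZ hminA) hγs (fun x hx hle => ?_) fun i => ?_
  · by_cases a : x (l + 1) < A (l + 1)
    · by_cases b : x (l + 2) < A (l + 2)
      · exact hmax x hx a b hle
      · refine absurd (expZ_mono hC ?_) (not_expZ_of_stand hx)
        intro i
        have h' : γ₀ l ≤ x l := (hγle l).trans (hle l)
        rcases fin3_cases l i with rfl | rfl | rfl
        · exact le_trans hc h'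
        · rw [hC0]; exact hx.1 _
        · exact le_trans hle2 (not_lt.mp b)
    · refine absurd (expZ_mono hB ?_) (not_expZ_of_stand hx)
      intro i
      have h' : γ₀ l ≤ x l := (hγle l).trans (hle l)
      rcases fin3_cases l i with rfl | rfl | rfl
      · exact le_trans hb h'
      · exact le_trans hle1 (not_lt.mp a)
      · rw [hB0]; exact hx.1 _
  · subst hS
    simp only [Set.mem_compl_iff, Set.mem_singleton_iff]
    rcases fin3_cases l i with rfl | rfl | rfl
    · simp only [not_true_eq_false, iff_false, not_lt, hA0]; exact hγs.1 _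
    · simp [hγ1, (compl_ne l).1]
    · simp [hγ2, (compl_ne l).2]

/-- No piece negative in two given directions and nonnegative in the third, given a reason. -/
theorem sig_bot {S : Set (Fin 3)} (hI : IsMonomial I) (h : ∀ α : Fin 3 → ℤ, (∀ i, α i < 0 ↔ i ∈ S) → ∀ f ∈ RegFun I α, f = 0) :
    sigPiece I S = ⊥ := by
  refine eq_bot_iff.mpr (iSup_le fun α => ?_)
  rw [tPiece_eq_bot hI α.1 (h α.1 α.2)]

end Groth.Agent.Hilb37
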