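import Groth.Agent.Hilb37.Powers
import Groth.Agent.Hilb37.Misc

/-! The powers of the maximal ideal in three variables. -/

set_option autoImplicit false

namespace Groth.Agent.Hilb37

open MvPolynomial W4c1hilbpn

variable {k : Type*} [Field k] {r : ℕ}

theorem hockey (j : ℕ) : ∀ (m M : ℕ), m ≤ M → ∑ b ∈ Finset.range M, (m - b).choose (j + 1) = (m + 1).choose (j + 2)
  | 0, M, _ => by simp [Nat.choose_eq_zero_of_lt]
  | m + 1, 0, h => absurd h (by omega)
  | m + 1, M + 1, h => by
    rw [Finset.sum_range_succ', show ∑ b ∈ Finset.range M, (m + 1 - (b + 1)).choose (j + 1) =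
      ∑ b ∈ Finset.range M, (m - b).choose (j + 1) from Finset.sum_congr rfl fun b _ => by rw [Nat.succ_sub_succ],
      hockey j m M (by omega), Nat.sub_zero, Nat.choose_succ_succ' (m + 1) (j + 1), add_comm]

theorem Bounded.mono {I : Ideal (MvPolynomial (Fin 3) k)} {N M : ℕ} (hN : Bounded I N) (h : N ≤ M) : Bounded I M :=
  ⟨fun γ hγ i => lt_of_lt_of_le (hN.1 γ hγ i) (by exact_mod_cast h), fun α hα => hN.2 α fun hb => hα (mem_box.mpr fun i => by
    have := mem_box.mp hb i
    omega)⟩

theorem colSum_mPow {N : ℕ} (l : Fin 3) (a b : ℕ) (hr : r ≤ N) :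
    colSum (mPow k 3 r) N l a b = (r + 1 - (a + b)).choose 2 := by
  have hsum : ∀ c : ℤ, ∑ i, pt l (a : ℤ) b c i = a + b + c := fun c => by
    rw [Fin.sum_univ_three]
    fin_cases l <;> simp [pt] <;> ring
  have hw : ∀ c : ℤ, c < 0 → ∑ i, (-pt l (a : ℤ) b c i).toNat = (-c).toNat := fun c hc => by
    rw [Fin.sum_univ_three]
    fin_cases l <;> simp [pt] <;> omega
  rw [colSum]
  by_cases h : a + b + 1 ≤ r
  · rw [Finset.sum_eq_single (-(1 : ℤ) - a - b)]
    · rw [tDim, finrank_mPow (by omega), if_pos (by rw [hsum]; ring), card_points (by omega) (by rw [hsum]; ring),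
        hw _ (by omega), if_pos (by omega)]
      congr 1
      omega
    · intro c _ hne
      rw [tDim, finrank_mPow (by omega), if_neg]
      rw [hsum]; omega
    · intro hn
      exfalso
      simp only [Finset.mem_Icc] at hn
      omega
  · rw [Nat.choose_eq_zero_of_lt (by omega)]
    refine Finset.sum_eq_zero fun c _ => ?_
    rw [tDim, finrank_mPow (by omega)]
    split_ifs with hc
    · rw [card_points (by omega) hc]
      rw [hsum] at hc
      rw [hw _ (by omega), if_neg]
      omega
    · rfl

theorem stairs_mPow (l : Fin 3) (a b : ℕ) : stairs (mPow k 3 r) l a b = r - (a + b) := by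
  have e : ∀ c : ℕ, pt l (a : ℤ) b c ∈ stand (mPow k 3 r) ↔ c < r - (a + b) := fun c => by
    have hs : ∑ i, pt l (a : ℤ) b c i = a + b + c := by
      rw [Fin.sum_univ_three]
      fin_cases l <;> simp [pt] <;> ring
    rw [mem_stand_mPow, hs]
    refine ⟨fun h => by omega, fun h => ⟨(forall_fin3 l).mpr ?_, by omega⟩⟩
    simp [pt_self, pt_one, pt_two]
  rw [stairs, Nat.card_congr (Equiv.subtypeEquivRight e)]
  exact (Nat.card_congr (Fin.equivSubtype (n := r - (a + b))).symm).trans (Nat.card_fin _)

theorem finrank_quot_mPow : Module.finrank k (MvPolynomial (Fin 3) k ⧸ mPow k 3 r) = (r + 2).choose 3 := by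
  haveI := finite_quot_mPow (k := k) (n := 3) (r := r)
  obtain ⟨N, hN⟩ := exists_bound (isMonomial_mPow (k := k) (n := 3) (r := r))
  rw [finrank_quot_stairs isMonomial_mPow (hN.mono (le_max_left N r)) 0]
  simp only [stairs_mPow]
  rw [Finset.sum_congr rfl fun a _ => ((Finset.sum_congr rfl fun b _ => by rw [Nat.choose_one_right, Nat.sub_sub]).trans
    (hockey 0 (r - a) (max N r + 1) (by omega)))]
  rw [show ∑ a ∈ Finset.range (max N r + 1), (r - a + 1).choose (0 + 2) = ∑ a ∈ Finset.range (max N r + 1), (r + 1 - a).choose 2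
    from Finset.sum_congr rfl fun a _ => by
      rcases le_or_gt a r with h | h
      · rw [show r - a + 1 = r + 1 - a by omega]
      · rw [Nat.choose_eq_zero_of_lt (show r - a + 1 < 0 + 2 by omega), Nat.choose_eq_zero_of_lt (show r + 1 - a < 2 by omega)]]
  exact hockey 1 (r + 1) (max N r + 1) (by omega)

theorem finrank_sig_mPow (l : Fin 3) :
    Module.finrank k ↥(sigPiece (mPow k 3 r) {l}) = (r + 3).choose 4 := by
  haveI := finite_quot_mPow (k := k) (n := 3) (r := r)
  obtain ⟨N, hN⟩ := exists_bound (isMonomial_mPow (k := k) (n := 3) (r := r))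
  rw [finrank_sig_single isMonomial_mPow (hN.mono (le_max_left N (r + 2))) l]
  rw [Finset.sum_congr rfl fun a _ => Finset.sum_congr rfl fun b _ => colSum_mPow l a b (by omega)]
  rw [Finset.sum_congr rfl fun a _ => ((Finset.sum_congr rfl fun b _ => by rw [Nat.sub_sub]).trans
    (hockey 1 (r + 1 - a) (max N (r + 2) + 1) (by omega)))]
  rw [show ∑ a ∈ Finset.range (max N (r + 2) + 1), (r + 1 - a + 1).choose (1 + 2) =
    ∑ a ∈ Finset.range (max N (r + 2) + 1), (r + 2 - a).choose 3
    from Finset.sum_congr rfl fun a _ => by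
      rcases le_or_gt a (r + 1) with h | h
      · rw [show r + 1 - a + 1 = r + 2 - a by omega]
      · rw [Nat.choose_eq_zero_of_lt (show r + 1 - a + 1 < 1 + 2 by omega), Nat.choose_eq_zero_of_lt (show r + 2 - a < 3 by omega)]]
  exact hockey 2 (r + 2) (max N (r + 2) + 1) (by omega)

theorem finrank_sigCompl_mPow (l : Fin 3) :
    Module.finrank k ↥(sigPiece (mPow k 3 r) ({l}ᶜ : Set (Fin 3))) = (r + 2).choose 4 := by
  haveI := finite_quot_mPow (k := k) (n := 3) (r := r)
  have h := finrank_sig_eq (isMonomial_mPow (k := k) (n := 3) (r := r)) l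
  rw [finrank_sig_mPow, finrank_quot_mPow, show (r + 3).choose 4 = (r + 2).choose 3 + (r + 2).choose 4 from Nat.choose_succ_succ' (r + 2) 3] at h
  omega

theorem finrank_tgt_mPow : Module.finrank k (Tgt (mPow k 3 r)) = (r + 2).choose 2 * (r + 1).choose 2 := by
  haveI := finite_quot_mPow (k := k) (n := 3) (r := r)
  rw [finrank_tgt_eq_sig (isMonomial_mPow (k := k) (n := 3) (r := r))]
  simp only [finrank_sig_mPow, finrank_sigCompl_mPow, Finset.sum_const, Finset.card_univ, Fintype.card_fin, smul_eq_mul]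
  have key : ∀ m : ℕ, 3 * ((m + 3).choose 4 + (m + 2).choose 4) = (m + 2).choose 2 * (m + 1).choose 2 := fun m => by
    have c4 : ∀ x : ℕ, 24 * (x + 3).choose 4 = (x + 3) * (x + 2) * (x + 1) * x := fun x => by
      have h := Nat.descFactorial_eq_factorial_mul_choose (x + 3) 4
      simp [Nat.descFactorial_succ, Nat.factorial] at h
      linarith [h]
    have c2 : ∀ x : ℕ, 2 * (x + 1).choose 2 = (x + 1) * x := fun x => by
      induction x with
      | zero => rfl
      | succ x ih => rw [Nat.choose_succ_succ' (x + 1) 1, Nat.choose_one_right, Nat.mul_add, ih]; ring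
    rcases m with _ | m
    · rfl
    have a := c4 (m + 1)
    have b := c4 m
    have c := c2 (m + 2)
    have d := c2 (m + 1)
    simp only [add_assoc] at a b c d ⊢
    norm_num at a b c d ⊢
    nlinarith [a, b, c, d]
  exact key r

end Groth.Agent.Hilb37
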