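import Groth.Agent.Hilb37.Init
import Groth.Agent.Hilb37.Powers3
import Mathlib.RingTheory.MvPolynomial.Homogeneous
import Mathlib.Algebra.MvPolynomial.Funext
import Mathlib.RingTheory.MvPolynomial.MonomialOrder.DegLex
import Mathlib.LinearAlgebra.FiniteDimensional.Lemmas

/-! Changes of coordinates: an element of degree `e` gets the leading monomial `x^e`. -/

set_option autoImplicit false

namespace Groth.Agent.Hilb37

open MvPolynomial W4c1hilbpn
open scoped MonomialOrder

variable {k : Type*} [Field k] {n : ℕ} (v : Fin (n + 1) → k) (hv : v 0 ≠ 0)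

/-- The substitution `x_0 ↦ v_0 x_0`, `x_i ↦ x_i + v_i x_0`. -/
noncomputable def sub0 : MvPolynomial (Fin (n + 1)) k →ₐ[k] MvPolynomial (Fin (n + 1)) k :=
  aeval fun i => if i = 0 then C (v 0) * X 0 else X i + C (v i) * X 0

/-- Its inverse. -/
noncomputable def sub0Inv : MvPolynomial (Fin (n + 1)) k →ₐ[k] MvPolynomial (Fin (n + 1)) k :=
  aeval fun i => if i = 0 then C (v 0)⁻¹ * X 0 else X i - C (v i * (v 0)⁻¹) * X 0

/-- The coordinate change. -/
noncomputable def sub0Equiv : MvPolynomial (Fin (n + 1)) k ≃ₐ[k] MvPolynomial (Fin (n + 1)) k :=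
  AlgEquiv.ofAlgHom (sub0 v) (sub0Inv v)
    (by
      refine algHom_ext fun i => ?_
      by_cases h : i = 0
      · subst h
        simp only [AlgHom.coe_comp, Function.comp_apply, AlgHom.coe_id, id_eq, sub0, sub0Inv, aeval_X, if_pos,
          map_mul, aeval_C, algebraMap_eq]
        rw [← mul_assoc, ← map_mul]
        simp [hv]
      · simp only [AlgHom.coe_comp, Function.comp_apply, AlgHom.coe_id, id_eq, sub0, sub0Inv, aeval_X, if_neg h, map_sub,
          map_mul, aeval_C, algebraMap_eq, if_pos]
        rw [← mul_assoc, ← map_mul, ← map_mul, mul_assoc, inv_mul_cancel₀ hv, mul_one, add_sub_cancel_right])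
    (by
      refine algHom_ext fun i => ?_
      by_cases h : i = 0
      · subst h
        simp only [AlgHom.coe_comp, Function.comp_apply, AlgHom.coe_id, id_eq, sub0, sub0Inv, aeval_X, if_pos,
          map_mul, aeval_C, algebraMap_eq]
        rw [← mul_assoc, ← map_mul]
        simp [hv]
      · simp only [AlgHom.coe_comp, Function.comp_apply, AlgHom.coe_id, id_eq, sub0, sub0Inv, aeval_X, if_neg h, map_add,
          map_mul, aeval_C, algebraMap_eq, if_pos]
        rw [← mul_assoc, sub_add_cancel])

theorem eval_unit_of_isHomogeneous {p : MvPolynomial (Fin (n + 1)) k} {e : ℕ} (hp : p.IsHomogeneous e) :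
    eval (fun i => if i = 0 then 1 else 0) p = coeff (Finsupp.single 0 e) p := by
  classical
  rw [eval_eq']
  rw [Finset.sum_eq_single (Finsupp.single (0 : Fin (n + 1)) e)]
  · rw [Finset.prod_eq_one, mul_one]
    intro i _
    by_cases h : i = 0
    · rw [if_pos h, one_pow]
    · rw [Finsupp.single_eq_of_ne h, pow_zero]
  · intro d hd hne
    have hdeg : d.degree = e := by
      rw [Finsupp.degree_eq_weight_one]
      exact hp (mem_support_iff.mp hd)
    obtain ⟨i, hi, hdi⟩ : ∃ i, i ≠ 0 ∧ d i ≠ 0 := by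
      by_contra hc
      push Not at hc
      refine hne (Finsupp.ext fun i => ?_)
      by_cases h : i = 0
      · subst h
        rw [Finsupp.single_eq_same, ← hdeg, Finsupp.degree_eq_sum, Finset.sum_eq_single 0 (fun j _ hj => hc j hj)
          (fun h => absurd (Finset.mem_univ _) h)]
      · rw [hc i h, Finsupp.single_eq_of_ne h]
    rw [Finset.prod_eq_zero (Finset.mem_univ i) (by rw [if_neg hi, zero_pow hdi]), mul_zero]
  · intro h
    rw [notMem_support_iff.mp h, zero_mul]

theorem isHomogeneous_sub0 {p : MvPolynomial (Fin (n + 1)) k} {e : ℕ} (hp : p.IsHomogeneous e) :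
    (sub0 v p).IsHomogeneous e := by
  have h := hp.aeval (n := 1) (fun i => if i = 0 then C (v 0) * X 0 else X i + C (v i) * X 0) fun i => by
    split_ifs
    · exact (isHomogeneous_X k 0).C_mul _
    · exact (isHomogeneous_X k i).add ((isHomogeneous_X k 0).C_mul _)
  rwa [one_mul] at h

theorem eval_sub0 (p : MvPolynomial (Fin (n + 1)) k) :
    eval (fun i => if i = 0 then 1 else 0) (sub0 v p) = eval v p := by
  induction p using MvPolynomial.induction_on with
  | C a => simp [sub0]
  | add p q hp hq => simp only [map_add, hp, hq]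
  | mul_X p i hp =>
    rw [map_mul, map_mul, map_mul, hp]
    congr 1
    by_cases h : i = 0
    · subst h; simp [sub0]
    · simp [sub0, h]

theorem coeff_sub0 (p : MvPolynomial (Fin (n + 1)) k) :
    coeff (Finsupp.single 0 p.totalDegree) (sub0 v p) = eval v (homogeneousComponent p.totalDegree p) := by
  classical
  conv_lhs => rw [← sum_homogeneousComponent p]
  rw [map_sum, coeff_sum, Finset.sum_eq_single p.totalDegree]
  · rw [sum_homogeneousComponent, ← eval_unit_of_isHomogeneous (isHomogeneous_sub0 v (homogeneousComponent_isHomogeneous _ _)),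
      eval_sub0]
  · intro i _ hi
    rw [sum_homogeneousComponent]
    refine (isHomogeneous_sub0 v (homogeneousComponent_isHomogeneous i p)).coeff_eq_zero ?_
    rw [Finsupp.degree_single]
    exact fun e => hi e.symm
  · simp

theorem degLex_sub0 {p : MvPolynomial (Fin (n + 1)) k}
    (hv' : eval v (homogeneousComponent p.totalDegree p) ≠ 0) :
    (MonomialOrder.degLex (σ := Fin (n + 1))).degree (sub0 v p) = Finsupp.single 0 p.totalDegree := by
  classical
  set m := MonomialOrder.degLex (σ := Fin (n + 1))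
  have hc : coeff (Finsupp.single 0 p.totalDegree) (sub0 v p) ≠ 0 := by rwa [coeff_sub0]
  refine m.toSyn.injective (le_antisymm (m.degree_le_iff.mpr fun c hc' => ?_) (m.le_degree (mem_support_iff.mpr hc)))
  have hdeg : c.degree ≤ p.totalDegree := by
    rw [← sum_homogeneousComponent p, map_sum] at hc'
    obtain ⟨i, hi, hi'⟩ := Finset.mem_biUnion.mp (support_sum hc')
    rw [Finsupp.degree_eq_weight_one]
    exact le_of_eq_of_le (isHomogeneous_sub0 v (homogeneousComponent_isHomogeneous i p) (mem_support_iff.mp hi'))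
      (Nat.lt_succ_iff.mp (Finset.mem_range.mp hi))
  show toDegLex c ≤ toDegLex _
  rw [Finsupp.DegLex.le_iff]
  simp only [ofDegLex_toDegLex, Finsupp.degree_single]
  rcases hdeg.lt_or_eq with h | h
  · exact Or.inl h
  · refine Or.inr ⟨h, ?_⟩
    by_cases e : c = Finsupp.single 0 p.totalDegree
    · rw [e]
    · refine le_of_lt (Finsupp.Lex.lt_iff.mpr ⟨0, fun j hj => absurd hj (Fin.not_lt_zero j), ?_⟩)
      simp only [ofLex_toLex, Finsupp.single_eq_same]
      rw [← h]
      refine lt_of_le_of_ne (Finsupp.le_degree 0 c) fun e0 => e (Finsupp.ext fun i => ?_)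
      by_cases hi : i = 0
      · subst hi; rw [Finsupp.single_eq_same, e0, h]
      · rw [Finsupp.single_eq_of_ne hi]
        have h2 : c 0 + c i ≤ c.degree := by
          rw [Finsupp.degree_eq_sum]
          calc c 0 + c i = ∑ x ∈ {0, i}, c x := (Finset.sum_pair (fun e => hi e.symm)).symm
            _ ≤ _ := Finset.sum_le_univ_sum_of_nonneg fun _ => Nat.zero_le _
        omega

omit [Field k] in
theorem exists_eval_ne {F : Type*} [Field F] [Infinite F] {q : MvPolynomial (Fin (n + 1)) F} (hq : q ≠ 0) :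
    ∃ v : Fin (n + 1) → F, v 0 ≠ 0 ∧ eval v q ≠ 0 := by
  by_contra hc
  push Not at hc
  refine mul_ne_zero hq (X_ne_zero 0) (MvPolynomial.funext fun v => ?_)
  rw [map_mul, eval_X, map_zero]
  by_cases h : v 0 = 0
  · rw [h, mul_zero]
  · rw [hc v h, zero_mul]

theorem finrank_tgt_le_map {σ : Type*} [Finite σ] (φ : MvPolynomial σ k ≃ₐ[k] MvPolynomial σ k)
    (I : Ideal (MvPolynomial σ k)) [Module.Finite k (MvPolynomial σ k ⧸ I)] :
    Module.Finite k (MvPolynomial σ k ⧸ I.map (φ : MvPolynomial σ k →+* MvPolynomial σ k)) ∧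
    Module.finrank k (MvPolynomial σ k ⧸ I.map (φ : MvPolynomial σ k →+* MvPolynomial σ k)) =
      Module.finrank k (MvPolynomial σ k ⧸ I) ∧
    Module.finrank k (Tgt I) ≤ Module.finrank k (Tgt (I.map (φ : MvPolynomial σ k →+* MvPolynomial σ k))) := by
  set I' := I.map (φ : MvPolynomial σ k →+* MvPolynomial σ k)
  let q : (MvPolynomial σ k ⧸ I) ≃ₐ[k] (MvPolynomial σ k ⧸ I') := Ideal.quotientEquivAlg I I' φ rfl
  have hfin : Module.Finite k (MvPolynomial σ k ⧸ I') := Module.Finite.equiv q.toLinearEquiv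
  refine ⟨hfin, q.toLinearEquiv.finrank_eq.symm, ?_⟩
  have := finite_tgt I'
  have hmem : ∀ x : I', φ.symm x.1 ∈ I := fun x => by
    obtain ⟨y, hy, e⟩ := (Ideal.mem_map_iff_of_surjective _ (by exact φ.surjective)).mp x.2
    rw [← e]
    show φ.symm (φ y) ∈ I
    rwa [φ.symm_apply_apply]
  let L : Tgt I →ₗ[k] Tgt I' :=
    { toFun := fun ψ =>
        { toFun := fun x => q (ψ ⟨φ.symm x.1, hmem x⟩)
          map_add' := fun x y => by
            rw [← map_add q, ← map_add ψ]
            exact congrArg (fun z => q (ψ z)) (Subtype.ext (map_add φ.symm x.1 y.1))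
          map_smul' := fun s x => by
            have e : (⟨φ.symm (s • x).1, hmem _⟩ : I) = φ.symm s • (⟨φ.symm x.1, hmem x⟩ : I) :=
              Subtype.ext (map_mul φ.symm s x.1)
            rw [e, map_smul]
            obtain ⟨y, hy⟩ := Ideal.Quotient.mk_surjective (ψ ⟨φ.symm x.1, hmem x⟩)
            rw [← hy]
            show q (Ideal.Quotient.mk I (φ.symm s * y)) = Ideal.Quotient.mk I' s * q (Ideal.Quotient.mk I y)
            show Ideal.Quotient.mk I' (φ (φ.symm s * y)) = Ideal.Quotient.mk I' s * Ideal.Quotient.mk I' (φ y)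
            rw [map_mul φ, φ.apply_symm_apply, map_mul] }
      map_add' := fun ψ ψ' => LinearMap.ext fun x => map_add q _ _
      map_smul' := fun c ψ => LinearMap.ext fun x => map_smul q.toLinearEquiv c _ }
  refine LinearMap.finrank_le_finrank_of_injective (f := L) fun ψ ψ' e => LinearMap.ext fun y => ?_
  have h := LinearMap.congr_fun e ⟨φ y.1, Ideal.mem_map_of_mem _ y.2⟩
  have h' := q.injective h
  rwa [show (⟨φ.symm (φ y.1), hmem ⟨φ y.1, Ideal.mem_map_of_mem _ y.2⟩⟩ : I) = y from
    Subtype.ext (φ.symm_apply_apply _)] at h'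

theorem exists_low_degree (r : ℕ) (I : Ideal (MvPolynomial (Fin 3) k)) [Module.Finite k (MvPolynomial (Fin 3) k ⧸ I)]
    (hd : Module.finrank k (MvPolynomial (Fin 3) k ⧸ I) < (r + 3).choose 3) :
    ∃ f ∈ I, f ≠ 0 ∧ f.totalDegree ≤ r := by
  classical
  have := finite_quot_mPow (k := k) (n := 3) (r := r + 1)
  have hfin := stand_finite (isMonomial_mPow (k := k) (n := 3) (r := r + 1))
  set S := hfin.toFinset
  have hcard : S.card = (r + 3).choose 3 := by
    have h1 := finrank_quot (isMonomial_mPow (k := k) (n := 3) (r := r + 1))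
    rw [finrank_quot_mPow, Nat.card_coe_set_eq, Set.ncard_eq_toFinset_card _ hfin] at h1
    exact h1.symm
  let g : (S → k) →ₗ[k] MvPolynomial (Fin 3) k :=
    ∑ γ : S, (monomial (toN γ.1)).comp (LinearMap.proj γ)
  obtain ⟨c, hc, hne⟩ := (LinearMap.ker ((Ideal.Quotient.mkₐ k I).toLinearMap.comp g)).ne_bot_iff.mp
    (LinearMap.ker_ne_bot_of_finrank_lt (by rw [Module.finrank_pi, Fintype.card_coe, hcard]; exact hd))
  have hco : ∀ γ : S, coeff (toN γ.1) (g c) = c γ := fun γ => by
    simp only [g, LinearMap.coe_sum, Finset.sum_apply, LinearMap.coe_comp, Function.comp_apply, LinearMap.coe_proj,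
      Function.eval, coeff_sum, coeff_monomial]
    rw [Finset.sum_eq_single γ, if_pos rfl]
    · intro δ _ hne'
      refine if_neg fun e => hne' (Subtype.ext ?_)
      rw [← toZ_toN (hfin.mem_toFinset.mp δ.2).1, e, toZ_toN (hfin.mem_toFinset.mp γ.2).1]
    · exact fun h => absurd (Finset.mem_univ _) h
  refine ⟨g c, Ideal.Quotient.eq_zero_iff_mem.mp (LinearMap.mem_ker.mp hc), fun h => hne (funext fun γ => ?_), ?_⟩
  · rw [← hco γ, h, coeff_zero, Pi.zero_apply]
  · refine Finset.sup_le fun d hd' => ?_
    simp only [g, LinearMap.coe_sum, Finset.sum_apply, LinearMap.coe_comp, Function.comp_apply, LinearMap.coe_proj,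
      Function.eval] at hd'
    obtain ⟨γ, -, hγ⟩ := Finset.mem_biUnion.mp (support_sum hd')
    obtain rfl := Finset.mem_singleton.mp (support_monomial_subset hγ)
    obtain ⟨h1, h2⟩ := mem_stand_mPow.mp (hfin.mem_toFinset.mp γ.2)
    rw [Fin.sum_univ_three] at h2
    rw [Finsupp.sum_fintype _ _ (fun _ => rfl), Fin.sum_univ_three, toN_apply, toN_apply, toN_apply]
    have := h1 0; have := h1 1; have := h1 2
    omega

end Groth.Agent.Hilb37
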