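import Groth.Agent.Hilb37.Basic
import Mathlib.LinearAlgebra.Dimension.Constructions
import Mathlib.LinearAlgebra.FiniteDimensional.Basic

/-! The decomposition of `Hom(I, S/I)` into graded pieces. -/

set_option autoImplicit false

namespace Groth.Agent.Hilb37

open MvPolynomial W4c1hilbpn

variable {σ : Type*} [Finite σ] {k : Type*} [Field k] {I : Ideal (MvPolynomial σ k)}

theorem RegFun.eq_at_generator {α : σ → ℤ} {f : (σ → ℤ) → k} (hf : f ∈ RegFun I α) {G : Finset (σ →₀ ℕ)}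
    (hG : ∀ g ∈ G, g ∈ exps I) (hG' : ∀ β ∈ exps I, ∃ g ∈ G, g ≤ β) {γ : σ → ℤ} (hne : f γ ≠ 0) :
    ∃ g ∈ G, toZ g + α ∈ stand I ∧ toZ g + α ≤ γ ∧ f (toZ g + α) = f γ := by
  have h : γ ∈ stand I ∧ γ - α ∈ expZ I := by by_contra h; exact hne (hf.1 γ h)
  obtain ⟨g, hg, hle⟩ := hG' _ h.2.2
  have hle' : toZ g + α ≤ γ := fun i => by
    have h1 : g i ≤ (γ i - α i).toNat := hle i
    have h2 : 0 ≤ γ i - α i := h.2.1 i
    simp only [Pi.add_apply, toZ_apply]
    omega
  have hm : toZ g + α - α ∈ expZ I := by rw [add_sub_cancel_right]; exact toZ_mem_expZ.mpr (hG g hg)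
  have heq := hf.2 _ γ hm hle' h.1
  refine ⟨g, hg, ?_, hle', heq⟩
  by_contra hs
  exact hne (heq ▸ hf.1 _ fun h' => hs h'.1)

instance finite_regFun (α : σ → ℤ) : Module.Finite k (RegFun I α) := by
  obtain ⟨G, hG, hG'⟩ := exists_finite_generators I
  let L : RegFun I α →ₗ[k] (G → k) :=
    { toFun := fun f g => f.1 (toZ g.1 + α)
      map_add' := fun f g => rfl
      map_smul' := fun c f => rfl }
  refine Module.Finite.of_injective L fun f g hfg => Subtype.ext (funext fun γ => ?_)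
  have hd : f.1 - g.1 ∈ RegFun I α := Submodule.sub_mem _ f.2 g.2
  by_contra hne
  obtain ⟨x, hx, -, -, he⟩ := RegFun.eq_at_generator hd hG hG' (γ := γ) (by simpa [sub_eq_zero] using hne)
  have h0 : f.1 (toZ x + α) = g.1 (toZ x + α) := congrFun hfg ⟨x, hx⟩
  rw [Pi.sub_apply, Pi.sub_apply, h0, sub_self, eq_comm, sub_eq_zero] at he
  exact hne he

variable (hI : IsMonomial I)

include hI in
theorem finite_tPiece (α : σ → ℤ) : Module.Finite k (tPiece I α) := Module.Finite.equiv (pieceEquiv hI α).symm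

theorem comp_eq_zero_of_ne {α α' : σ → ℤ} {φ : Tgt I} (hφ : φ ∈ tPiece I α') (h : α ≠ α') : comp hI α φ = 0 := by
  funext γ
  classical
  show dite _ _ _ = _
  split_ifs with h'
  · rw [qz_piece hI α' hφ h'.2, if_neg]
    · rfl
    rw [toZ_toN h'.1]
    intro e
    refine h (funext fun i => ?_)
    have := congrFun e i
    simp only [Pi.add_apply, Pi.sub_apply] at this
    omega
  · rfl

theorem comp_sum_ofFun (F : Finset (σ → ℤ)) (f : ∀ α : F, RegFun I α.1) (α : F) :
    comp hI α.1 (∑ a : F, ofFun hI a.1 (f a)) = (f α).1 := by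
  rw [map_sum, Finset.sum_eq_single α (fun a _ ha => comp_eq_zero_of_ne hI (ofFun_mem hI a.1 (f a))
    fun e => ha (Subtype.ext e.symm)) (fun h => absurd (Finset.mem_univ _) h), comp_ofFun]

/-- Maps with components supported in `F`. -/
noncomputable def sumMap (F : Finset (σ → ℤ)) : (∀ α : F, RegFun I α.1) →ₗ[k] Tgt I where
  toFun f := ∑ a : F, ofFun hI a.1 (f a)
  map_add' f g := by
    rw [← Finset.sum_add_distrib]
    refine Finset.sum_congr rfl fun a _ => ?_
    exact congrArg Subtype.val ((pieceEquiv hI a.1).symm.map_add (f a) (g a))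
  map_smul' c f := by
    rw [Finset.smul_sum]
    refine Finset.sum_congr rfl fun a _ => ?_
    exact congrArg Subtype.val ((pieceEquiv hI a.1).symm.map_smul c (f a))

theorem sumMap_injective (F : Finset (σ → ℤ)) : Function.Injective (sumMap hI F) := fun f g h =>
  funext fun a => Subtype.ext (by rw [← comp_sum_ofFun hI F f a, ← comp_sum_ofFun hI F g a]; exact congrArg _ h)

theorem range_sumMap (F : Finset (σ → ℤ)) : LinearMap.range (sumMap hI F) = ⨆ α : F, tPiece I α.1 := by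
  classical
  refine le_antisymm ?_ (iSup_le fun a φ hφ => ?_)
  · rintro _ ⟨f, rfl⟩
    exact Submodule.sum_mem _ fun a _ => Submodule.mem_iSup_of_mem a (ofFun_mem hI a.1 (f a))
  · refine ⟨Pi.single a (pieceEquiv hI a.1 ⟨φ, hφ⟩), ?_⟩
    show ∑ b : F, ofFun hI b.1 (Pi.single (M := fun b : F => RegFun I b.1) a (pieceEquiv hI a.1 ⟨φ, hφ⟩) b) = φ
    rw [Finset.sum_eq_single a (fun b _ hb => ?_) (fun h => absurd (Finset.mem_univ _) h), Pi.single_eq_same]
    · exact ofFun_comp hI a.1 hφ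
    · rw [Pi.single_eq_of_ne hb]
      exact congrArg Subtype.val (map_zero (pieceEquiv hI b.1).symm)

include hI in
theorem finrank_iSup_finset (F : Finset (σ → ℤ)) :
    Module.finrank k ↥(⨆ α : F, tPiece I α.1) = ∑ α ∈ F, Module.finrank k (RegFun I α) := by
  rw [← range_sumMap hI, LinearMap.finrank_range_of_inj (sumMap_injective hI F), Module.finrank_pi_fintype,
    Finset.sum_coe_sort F (fun α => Module.finrank k (RegFun I α))]

include hI in
theorem iSup_eq_finset {P : (σ → ℤ) → Prop} [DecidablePred P] {F : Finset (σ → ℤ)}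
    (hF : ∀ α, P α → α ∉ F → tPiece I α = ⊥) :
    (⨆ α : {α // P α}, tPiece I α.1) = ⨆ α : (F.filter P : Finset _), tPiece I α.1 := by
  refine le_antisymm (iSup_le fun a => ?_) (iSup_le fun a => ?_)
  · by_cases h : a.1 ∈ F
    · exact le_iSup_of_le ⟨a.1, Finset.mem_filter.mpr ⟨h, a.2⟩⟩ le_rfl
    · rw [hF _ a.2 h]; exact bot_le
  · exact le_iSup_of_le ⟨a.1, (Finset.mem_filter.mp a.2).2⟩ le_rfl

include hI in
theorem finrank_iSup {P : (σ → ℤ) → Prop} [DecidablePred P] {F : Finset (σ → ℤ)}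
    (hF : ∀ α, P α → α ∉ F → tPiece I α = ⊥) :
    Module.finrank k ↥(⨆ α : {α // P α}, tPiece I α.1) =
      ∑ α ∈ F.filter P, Module.finrank k (RegFun I α) := by
  rw [iSup_eq_finset hI hF, finrank_iSup_finset hI]

include hI in
theorem finrank_iSup_finsum {P : (σ → ℤ) → Prop} [DecidablePred P] {F : Finset (σ → ℤ)}
    (hF : ∀ α, P α → α ∉ F → tPiece I α = ⊥) :
    Module.finrank k ↥(⨆ α : {α // P α}, tPiece I α.1) =
      ∑ᶠ α : σ → ℤ, if P α then Module.finrank k (RegFun I α) else 0 := by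
  rw [finrank_iSup hI hF, Finset.sum_filter, finsum_eq_sum_of_support_subset]
  intro α hα
  by_contra hne
  refine hα ?_
  show (if P α then Module.finrank k (RegFun I α) else 0) = 0
  split_ifs with h
  · rw [← finrank_tPiece hI, hF α h hne]
    exact finrank_bot k _
  · rfl

theorem exists_finset_comp (φ : Tgt I) : ∃ F : Finset (σ → ℤ), ∀ α, α ∉ F → comp hI α φ = 0 := by
  classical
  obtain ⟨G, hG, hG'⟩ := exists_finite_generators I
  have hp : ∀ g : G, ∃ p, Ideal.Quotient.mk I p = φ ⟨monomial g.1 1, hG g.1 g.2⟩ := fun g =>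
    Ideal.Quotient.mk_surjective _
  choose p hp using hp
  refine ⟨Finset.univ.biUnion fun g : G => (p g).support.image fun δ => toZ δ - toZ g.1, fun α hα => ?_⟩
  funext γ
  by_contra hne
  obtain ⟨g, hg, hs, -, he⟩ := RegFun.eq_at_generator (comp_mem hI α φ) hG hG' hne
  rw [← he, comp_apply_eq hI α (hG g hg), ← hp ⟨g, hg⟩, qz_mk, if_pos hs] at hne
  refine hα (Finset.mem_biUnion.mpr ⟨⟨g, hg⟩, Finset.mem_univ _, Finset.mem_image.mpr
    ⟨_, mem_support_iff.mpr hne, ?_⟩⟩)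
  rw [toZ_toN hs.1, add_sub_cancel_left]

theorem qz_ofFun (a : σ → ℤ) (f : RegFun I a) {β : σ →₀ ℕ} (hβ : β ∈ exps I) (γ : σ → ℤ) :
    qz hI γ (ofFun hI a f ⟨monomial β 1, hβ⟩) = open Classical in if a = γ - toZ β then f.1 γ else 0 := by
  classical
  refine (qz_preMap hI a f.2 hβ γ).trans ?_
  by_cases h : γ = toZ β + a
  · rw [if_pos h, if_pos (by rw [h, add_sub_cancel_left])]
  · rw [if_neg h, if_neg (fun e => h (by rw [e, add_sub_cancel]))]

theorem sumMap_comp (φ : Tgt I) (F : Finset (σ → ℤ)) (hF : ∀ α, α ∉ F → comp hI α φ = 0) :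
    sumMap hI F (fun α => ⟨comp hI α.1 φ, comp_mem hI α.1 φ⟩) = φ := by
  classical
  refine ext_monomial hI fun β hβ => eq_of_qz hI fun γ => ?_
  show qz hI γ ((∑ a : F, ofFun hI a.1 ⟨comp hI a.1 φ, comp_mem hI a.1 φ⟩) ⟨monomial β 1, hβ⟩) = _
  rw [LinearMap.sum_apply, map_sum]
  have hval : comp hI (γ - toZ β) φ γ = qz hI γ (φ ⟨monomial β 1, hβ⟩) := by
    have := comp_apply_eq hI (γ - toZ β) (φ := φ) hβ
    rwa [show toZ β + (γ - toZ β) = γ from add_sub_cancel _ _] at this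
  simp only [qz_ofFun]
  by_cases h : γ - toZ β ∈ F
  · rw [Finset.sum_eq_single ⟨γ - toZ β, h⟩ (fun a _ ha => if_neg fun e => ha (Subtype.ext e))
      (fun h' => absurd (Finset.mem_univ _) h'), if_pos rfl, hval]
  · rw [Finset.sum_eq_zero fun a _ => if_neg fun e => h (by rw [← e]; exact a.2), ← hval, hF _ h]
    rfl

include hI in
theorem iSup_all : (⨆ α : σ → ℤ, tPiece I α) = ⊤ := by
  refine (Submodule.eq_top_iff' (p := ⨆ α : σ → ℤ, tPiece I α)).mpr fun φ => ?_
  obtain ⟨F, hF⟩ := exists_finset_comp hI φ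
  rw [← sumMap_comp hI φ F hF]
  show (∑ a : F, ofFun hI a.1 ⟨comp hI a.1 φ, comp_mem hI a.1 φ⟩) ∈ _
  exact Submodule.sum_mem _ fun a _ => Submodule.mem_iSup_of_mem a.1 (ofFun_mem hI a.1 _)

end Groth.Agent.Hilb37
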