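import Groth.Agent.Hilb37.Decomp
import Mathlib.Data.Set.Card

/-! Monomial ideals of finite colength: standard monomials, vanishing of pieces. -/

set_option autoImplicit false

namespace Groth.Agent.Hilb37

open MvPolynomial W4c1hilbpn

variable {σ : Type*} [Finite σ] {k : Type*} [Field k] {I : Ideal (MvPolynomial σ k)} (hI : IsMonomial I)

/-- The unit vector. -/
noncomputable def ev (j : σ) : σ → ℤ := open Classical in Pi.single j 1

theorem ev_self (j : σ) : ev j j = 1 := by classical exact Pi.single_eq_same _ _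

theorem ev_ne {i j : σ} (h : i ≠ j) : ev j i = 0 := by classical exact Pi.single_eq_of_ne h _

theorem ev_nonneg (j i : σ) : 0 ≤ ev j i := by
  by_cases h : i = j
  · rw [h, ev_self]; exact zero_le_one
  · rw [ev_ne h]

include hI in
theorem linearIndependent_mz : LinearIndependent k fun γ : stand I => mz (I := I) γ.1 := by
  classical
  rw [linearIndependent_iff']
  intro s g h γ hγ
  have := congrArg (qz hI γ.1) h
  rw [map_sum, map_zero, Finset.sum_eq_single γ] at this
  · rw [map_smul, qz_mz hI _ _ γ.2.1, if_pos ⟨rfl, γ.2⟩, smul_eq_mul, mul_one] at this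
    exact this
  · intro δ _ hne
    rw [map_smul, qz_mz hI _ _ δ.2.1, if_neg (fun e => hne (Subtype.ext e.1)), smul_zero]
  · exact fun h' => absurd hγ h'

include hI in
theorem span_mz : ⊤ ≤ Submodule.span k (Set.range fun γ : stand I => mz (I := I) γ.1) := by
  classical
  intro x _
  obtain ⟨p, rfl⟩ := Ideal.Quotient.mk_surjective x
  rw [as_sum p, map_sum]
  refine Submodule.sum_mem _ fun β _ => ?_
  rw [show monomial β (coeff β p) = coeff β p • monomial β (1 : k) by rw [smul_monomial, smul_eq_mul, mul_one]]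
  show (Ideal.Quotient.mkₐ k I) _ ∈ _
  rw [map_smul]
  refine Submodule.smul_mem _ _ ?_
  by_cases hb : β ∈ exps I
  · rw [Ideal.Quotient.mkₐ_eq_mk, Ideal.Quotient.eq_zero_iff_mem.mpr (mono_mem hb)]
    exact zero_mem _
  · exact Submodule.subset_span ⟨⟨toZ β, toZ_mem_stand.mpr hb⟩, by simp [mz]⟩

/-- The basis of standard monomials. -/
noncomputable def standBasis : Module.Basis (stand I) k (MvPolynomial σ k ⧸ I) :=
  Module.Basis.mk (linearIndependent_mz hI) (span_mz hI)

include hI in
theorem finrank_quot : Module.finrank k (MvPolynomial σ k ⧸ I) = Nat.card (stand I) :=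
  Module.finrank_eq_nat_card_basis (standBasis hI)

variable [Module.Finite k (MvPolynomial σ k ⧸ I)]

include hI in
theorem stand_finite : (stand I).Finite :=
  Set.finite_coe_iff.mp (Module.Finite.finite_basis (standBasis hI))

include hI in
theorem exists_exit (j : σ) {γ : σ → ℤ} (hγ : γ ∈ stand I) :
    ∃ t : ℕ, γ + (t : ℤ) • ev j ∈ stand I ∧ γ + ((t + 1 : ℕ) : ℤ) • ev j ∈ expZ I := by
  classical
  have hn : ∀ t : ℕ, NN (γ + (t : ℤ) • ev j) := fun t i => by
    have := mul_nonneg (Int.natCast_nonneg t) (ev_nonneg j i)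
    have := hγ.1 i
    simp only [Pi.add_apply, Pi.smul_apply, smul_eq_mul]
    omega
  have hex : ∃ t : ℕ, γ + (t : ℤ) • ev j ∈ expZ I := by
    by_contra hc
    simp only [not_exists] at hc
    refine (stand_finite hI).not_infinite (Set.infinite_of_injective_forall_mem (f := fun t : ℕ => γ + (t : ℤ) • ev j)
      (fun a b h => ?_) fun t => (stand_or_expZ (hn t)).resolve_right (hc t))
    have := congrFun h j
    simpa [ev_self] using this
  have h0 : Nat.find hex ≠ 0 := fun h => not_expZ_of_stand hγ (by simpa [h] using Nat.find_spec hex)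
  refine ⟨Nat.find hex - 1, (stand_or_expZ (hn _)).resolve_right (Nat.find_min hex (by omega)), ?_⟩
  rw [show Nat.find hex - 1 + 1 = Nat.find hex by omega]
  exact Nat.find_spec hex

omit [Module.Finite k (MvPolynomial σ k ⧸ I)] in
theorem RegFun.eq_zero_of_nonneg {α : σ → ℤ} (hα : ∀ i, 0 ≤ α i) {f : (σ → ℤ) → k} (hf : f ∈ RegFun I α) : f = 0 :=
  funext fun γ => hf.1 γ fun h => not_expZ_of_stand h.1 (expZ_mono h.2 fun i => by
    have := hα i; simp only [Pi.sub_apply]; omega)

include hI in
/-- A degree with no positive entry and two negative ones has no nonzero piece. -/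
theorem RegFun.eq_zero_of_nonpos {α : σ → ℤ} {i j : σ} (hij : i ≠ j) (hi : α i < 0) (hj : α j < 0)
    (hle : ∀ l, α l ≤ 0) {f : (σ → ℤ) → k} (hf : f ∈ RegFun I α) : f = 0 := by
  suffices H : ∀ (N : ℕ) (γ : σ → ℤ), (γ i).toNat ≤ N → f γ = 0 from funext fun γ => H _ γ le_rfl
  intro N
  induction N using Nat.strong_induction_on with
  | _ N ih =>
    intro γ hN
    by_contra hne
    have hγ : γ ∈ stand I ∧ γ - α ∈ expZ I := by by_contra h; exact hne (hf.1 γ h)
    obtain ⟨t, ht, ht'⟩ := exists_exit hI j hγ.1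
    set δ := γ + (t : ℤ) • ev j with hδdef
    have hle' : γ ≤ δ := fun l => by
      have := mul_nonneg (Int.natCast_nonneg t) (ev_nonneg j l)
      simp only [hδdef, Pi.add_apply, Pi.smul_apply, smul_eq_mul]
      omega
    have hfδ : f δ = f γ := (hf.2 γ δ hγ.2 hle' ht).symm
    set δ' := δ + ev j + α with hδ'
    have hm : δ' - α ∈ expZ I := by
      rw [hδ', add_sub_cancel_right]
      rw [show δ + ev j = γ + ((t + 1 : ℕ) : ℤ) • ev j by rw [hδdef, add_assoc]; push_cast; rw [add_smul, one_smul]]
      exact ht'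
    have hδ'le : δ' ≤ δ := fun l => by
      simp only [hδ', Pi.add_apply]
      by_cases hl : l = j
      · subst hl; rw [ev_self]; omega
      · rw [ev_ne hl]; have := hle l; omega
    have hi' : δ' i = γ i + α i := by
      simp only [hδ', hδdef, Pi.add_apply, Pi.smul_apply, smul_eq_mul, ev_ne hij]
      ring
    by_cases hn : ∃ l, δ' l < 0
    · exact hne (hfδ ▸ RegFun.eq_zero hf hm hδ'le hn)
    · simp only [not_exists, not_lt] at hn
      have h1 := hn i
      have h2 := hγ.1.1 i
      have := ih (δ' i).toNat (by omega) δ' le_rfl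
      rw [hf.2 δ' δ hm hδ'le ht, hfδ] at this
      exact hne this

include hI in
theorem exists_support : ∃ F : Finset (σ → ℤ), ∀ α, α ∉ F → ∀ f ∈ RegFun I α, f = 0 := by
  classical
  obtain ⟨G, hG, hG'⟩ := exists_finite_generators I
  refine ⟨G.biUnion fun g => (stand_finite hI).toFinset.image fun γ => γ - toZ g, fun α hα f hf => ?_⟩
  funext γ
  by_contra hne
  obtain ⟨g, hg, hs, -, -⟩ := RegFun.eq_at_generator hf hG hG' hne
  exact hα (Finset.mem_biUnion.mpr ⟨g, hg, Finset.mem_image.mpr
    ⟨_, (stand_finite hI).mem_toFinset.mpr hs, add_sub_cancel_left _ _⟩⟩)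

include hI in
theorem finrank_iSup_finite (P : (σ → ℤ) → Prop) [DecidablePred P] :
    Module.finrank k ↥(⨆ α : {α // P α}, tPiece I α.1) =
      ∑ᶠ α : σ → ℤ, if P α then Module.finrank k (RegFun I α) else 0 := by
  obtain ⟨F, hF⟩ := exists_support hI
  exact finrank_iSup_finsum hI fun α _ h => tPiece_eq_bot hI α (hF α h)

include hI in
theorem finrank_tgt : Module.finrank k (Tgt I) = ∑ᶠ α : σ → ℤ, Module.finrank k (RegFun I α) := by
  classical
  have h := finrank_iSup_finite hI (fun _ : σ → ℤ => True)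
  simp only [if_true] at h
  rw [← h, show (⨆ α : {_α : σ → ℤ // True}, tPiece I α.1) = ⊤ from ?_, finrank_top]
  rw [eq_top_iff, ← iSup_all hI]
  exact iSup_le fun α => le_iSup_of_le ⟨α, trivial⟩ le_rfl

end Groth.Agent.Hilb37
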