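import Groth.Agent.Hilb37.Decomp
import Groth.Agent.Hilb37.Finite
import Mathlib.RingTheory.MvPolynomial.Ideal

/-! Counting the homomorphisms with multidegree in a prescribed set by a dual family. -/

set_option autoImplicit false

namespace Groth.Agent.Hilb37

open MvPolynomial W4c1hilbpn

variable {σ : Type*} [Finite σ] {k : Type*} [Field k] {I : Ideal (MvPolynomial σ k)}

variable (I) in
/-- The indicator of `U` on the region of `α`. -/
noncomputable def indFun (α : σ → ℤ) (U : (σ → ℤ) → Prop) : (σ → ℤ) → k :=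
  fun γ => open Classical in if γ ∈ stand I ∧ γ - α ∈ expZ I ∧ U γ then 1 else 0

theorem indFun_mem {α : σ → ℤ} {U : (σ → ℤ) → Prop}
    (h1 : ∀ γ γ', γ - α ∈ expZ I → γ ≤ γ' → γ' ∈ stand I → U γ' → NN γ ∧ U γ)
    (h2 : ∀ γ γ', γ - α ∈ expZ I → γ ≤ γ' → γ' ∈ stand I → NN γ → U γ → U γ') :
    indFun I α U ∈ RegFun I α := by
  refine ⟨fun γ h => if_neg fun h' => h ⟨h'.1, h'.2.1⟩, fun γ γ' he hle hs => ?_⟩
  have he' : γ' - α ∈ expZ I := expZ_mono he (sub_le_sub_right hle _)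
  by_cases hU : U γ'
  · obtain ⟨hn, hUg⟩ := h1 γ γ' he hle hs hU
    rw [indFun, indFun, if_pos ⟨stand_mono hs hle hn, he, hUg⟩, if_pos ⟨hs, he', hU⟩]
  · rw [indFun, indFun, if_neg fun h => hU (h2 γ γ' he hle hs h.1.1 h.2.2), if_neg fun h => hU h.2.2]

theorem RegFun.eq_zero_of_gen (Gen : (σ → ℤ) → Prop) (hgen : ∀ x, x ∈ expZ I → ∃ g, Gen g ∧ g ≤ x)
    (hmem : ∀ g, Gen g → g ∈ expZ I) {α : σ → ℤ} {f : (σ → ℤ) → k} (hf : f ∈ RegFun I α)
    (h : ∀ g, Gen g → g + α ∈ stand I → f (g + α) = 0) : f = 0 := by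
  funext γ
  by_contra hne
  have h' : γ ∈ stand I ∧ γ - α ∈ expZ I := by by_contra h'; exact hne (hf.1 γ h')
  obtain ⟨g, hg, hle⟩ := hgen _ h'.2
  have he : g + α - α ∈ expZ I := by rw [add_sub_cancel_right]; exact hmem g hg
  have hle' : g + α ≤ γ := le_sub_iff_add_le.mp hle
  rw [← hf.2 _ γ he hle' h'.1] at hne
  by_cases hs : g + α ∈ stand I
  · exact hne (h g hg hs)
  · exact hne (hf.1 _ fun h'' => hs h''.1)

/-- The values at two generators agree when their least common multiple lands in a standard monomial. -/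
theorem RegFun.link {α : σ → ℤ} {f : (σ → ℤ) → k} (hf : f ∈ RegFun I α) {g h l : σ → ℤ} (hg : g ∈ expZ I)
    (hh : h ∈ expZ I) (hgl : g ≤ l) (hhl : h ≤ l) (hl : l + α ∈ stand I) : f (g + α) = f (h + α) := by
  rw [hf.2 (g + α) (l + α) (by rwa [add_sub_cancel_right]) (add_le_add_left hgl α) hl,
    hf.2 (h + α) (l + α) (by rwa [add_sub_cancel_right]) (add_le_add_left hhl α) hl]

theorem RegFun.zero_of_link {α : σ → ℤ} {f : (σ → ℤ) → k} (hf : f ∈ RegFun I α) {g h l : σ → ℤ} (hg : g ∈ expZ I)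
    (hh : h ∈ expZ I) (hgl : g ≤ l) (hhl : h ≤ l) (hl : l + α ∈ stand I) (hneg : ∃ i, (h + α) i < 0) :
    f (g + α) = 0 := by
  obtain ⟨i, hi⟩ := hneg
  rw [RegFun.link hf hg hh hgl hhl hl]
  exact hf.1 _ fun h' => absurd (h'.1.1 i) (not_le.mpr hi)

/-- **Counting by a dual family.** -/
theorem finrank_iSup_eq_card (hI : IsMonomial I) {T : Type*} [Fintype T] (al s : T → (σ → ℤ)) (P : (σ → ℤ) → Prop)
    (hP : ∀ t, P (al t))
    (hU : ∀ t, ∃ f ∈ RegFun I (al t), f (s t) = 1 ∧ ∀ t', al t' = al t → t' ≠ t → f (s t') = 0)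
    (hinj : ∀ α, P α → ∀ f ∈ RegFun I α, (∀ t, al t = α → f (s t) = 0) → f = 0) :
    Module.finrank k ↥(⨆ α : {α // P α}, tPiece I α.1) = Fintype.card T := by
  classical
  have hF : ∀ α, P α → α ∉ Finset.univ.image al → tPiece I α = ⊥ := fun α hα hn =>
    tPiece_eq_bot hI α fun f hf => hinj α hα f hf fun t ht =>
      absurd (Finset.mem_image.mpr ⟨t, Finset.mem_univ _, ht⟩) hn
  rw [finrank_iSup hI hF, Finset.filter_true_of_mem fun α hα => by
    obtain ⟨t, -, rfl⟩ := Finset.mem_image.mp hα; exact hP t]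
  rw [← Finset.card_univ (α := T),
    Finset.card_eq_sum_card_fiberwise (f := al) (t := Finset.univ.image al) fun t ht => Finset.mem_image_of_mem al ht]
  refine Finset.sum_congr rfl fun α hα => ?_
  obtain ⟨t0, -, rfl⟩ := Finset.mem_image.mp hα
  let L : RegFun I (al t0) →ₗ[k] ({t // al t = al t0} → k) :=
    { toFun := fun f t => f.1 (s t.1)
      map_add' := fun _ _ => rfl
      map_smul' := fun _ _ => rfl }
  have hinjL : Function.Injective L := fun f g h => by
    have hd : f.1 - g.1 ∈ RegFun I (al t0) := Submodule.sub_mem _ f.2 g.2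
    refine Subtype.ext (sub_eq_zero.mp (hinj _ (hP t0) _ hd fun t ht => sub_eq_zero.mpr ?_))
    exact congrFun h ⟨t, ht⟩
  have hsurj : Function.Surjective L := by
    rw [← LinearMap.range_eq_top, eq_top_iff, ← (Pi.basisFun k _).span_eq, Submodule.span_le]
    rintro _ ⟨t, rfl⟩
    obtain ⟨f, hf, h1, h0⟩ := hU t.1
    refine ⟨⟨f, t.2 ▸ hf⟩, funext fun t' => ?_⟩
    show f (s t'.1) = Pi.basisFun k _ t t'
    rw [Pi.basisFun_apply]
    by_cases e : t' = t
    · subst e; rw [Pi.single_eq_same]; exact h1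
    · rw [Pi.single_eq_of_ne e]
      exact h0 _ (t'.2.trans t.2.symm) fun e' => e (Subtype.ext e')
  rw [(LinearEquiv.ofBijective L ⟨hinjL, hsurj⟩).finrank_eq, Module.finrank_pi, Fintype.card_subtype]

omit [Finite σ] in
theorem isMonomial_span (G : Set (σ →₀ ℕ)) : IsMonomial (Ideal.span ((fun β => monomial β (1 : k)) '' G)) := by
  classical
  intro p hp β hβ
  rw [mem_ideal_span_monomial_image] at hp ⊢
  intro c hc
  rw [support_monomial, if_neg one_ne_zero, Finset.mem_singleton] at hc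
  subst hc
  exact hp _ hβ

theorem mem_expZ_span (G : Set (σ →₀ ℕ)) (x : σ → ℤ) :
    x ∈ expZ (Ideal.span ((fun β => monomial β (1 : k)) '' G)) ↔ NN x ∧ ∃ g ∈ G, toZ g ≤ x := by
  classical
  refine and_congr_right fun hx => ?_
  show monomial (toN x) (1 : k) ∈ Ideal.span ((fun β => monomial β (1 : k)) '' G) ↔ _
  rw [mem_ideal_span_monomial_image, support_monomial, if_neg one_ne_zero]
  simp only [Finset.mem_singleton, forall_eq]
  refine exists_congr fun g => and_congr_right fun _ => ⟨fun h i => ?_, fun h i => ?_⟩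
  · have h1 : g i ≤ (x i).toNat := h i
    have := hx i
    show ((g i : ℕ) : ℤ) ≤ x i
    omega
  · have h1 : ((g i : ℕ) : ℤ) ≤ x i := h i
    show g i ≤ (x i).toNat
    omega

end Groth.Agent.Hilb37
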