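import Groth.Agent.Hilb37.Finite
import Mathlib.LinearAlgebra.Matrix.Rank
import Mathlib.Data.Matrix.Mul
import Mathlib.Tactic.LinearCombination
import Mathlib.Tactic.FinCases

/-! Duality between opposite degrees of the tangent space in three variables, via the Koszul complex of
`End S/I` with respect to the commutators. -/

set_option autoImplicit false

namespace Groth.Agent.Hilb37

open MvPolynomial W4c1hilbpn

variable {k : Type*} [Field k] {I : Ideal (MvPolynomial (Fin 3) k)}

/-- The all-ones vector. -/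
def one3 : Fin 3 → ℤ := fun _ => 1

theorem ev_sum (l : Fin 3) : ev l + ev (l + 1) + ev (l + 2) = one3 := by
  funext i
  simp only [Pi.add_apply, ev, one3, Pi.single_apply]
  fin_cases l <;> fin_cases i <;> simp

variable (I) in
/-- The number of pairs of standard monomials differing by `δ`. -/
noncomputable def pairs (δ : Fin 3 → ℤ) : ℕ := Nat.card {γ : stand I // γ.1 + δ ∈ stand I}

theorem pairs_neg (δ : Fin 3 → ℤ) : pairs I (-δ) = pairs I δ := by
  refine Nat.card_congr
    { toFun := fun γ => ⟨⟨γ.1.1 + -δ, γ.2⟩, by rw [neg_add_cancel_right]; exact γ.1.2⟩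
      invFun := fun γ => ⟨⟨γ.1.1 + δ, γ.2⟩, by rw [add_neg_cancel_right]; exact γ.1.2⟩
      left_inv := fun γ => Subtype.ext (Subtype.ext (neg_add_cancel_right _ _))
      right_inv := fun γ => Subtype.ext (Subtype.ext (add_neg_cancel_right _ _)) }

variable (I) in
/-- Edges of degree `α`: the derivations. -/
abbrev Edge (α : Fin 3 → ℤ) : Type := {p : (stand I) × Fin 3 // p.1.1 + α + ev p.2 ∈ stand I}

variable (I) in
/-- Squares of degree `α`, indexed by the missing direction. -/
abbrev Sq (α : Fin 3 → ℤ) : Type := {p : (stand I) × Fin 3 // p.1.1 + α + ev (p.2 + 1) + ev (p.2 + 2) ∈ stand I}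

/-- The opposite degree. -/
def opp (α : Fin 3 → ℤ) : Fin 3 → ℤ := -α - one3

theorem add_opp (α : Fin 3 → ℤ) : α + opp α = -one3 := by simp only [opp]; abel

theorem opp_opp (α : Fin 3 → ℤ) : opp (opp α) = α := by simp [opp]

theorem sq_edge (α γ : Fin 3 → ℤ) (l : Fin 3) : γ + α + ev (l + 1) + ev (l + 2) + opp α + ev l = γ := by
  have h := ev_sum l
  calc γ + α + ev (l + 1) + ev (l + 2) + opp α + ev l = γ + (α + opp α) + (ev l + ev (l + 1) + ev (l + 2)) := by abel
    _ = γ := by rw [add_opp, h]; abel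

theorem edge_sq (α γ : Fin 3 → ℤ) (l : Fin 3) : γ + α + ev l + opp α + ev (l + 1) + ev (l + 2) = γ := by
  have h := ev_sum l
  calc γ + α + ev l + opp α + ev (l + 1) + ev (l + 2) = γ + (α + opp α) + (ev l + ev (l + 1) + ev (l + 2)) := by abel
    _ = γ := by rw [add_opp, h]; abel

theorem sq_edge' (α γ : Fin 3 → ℤ) (l : Fin 3) : γ + opp α + ev l + α + ev (l + 1) + ev (l + 2) = γ := by
  have h := edge_sq (opp α) γ l
  rwa [opp_opp] at h

theorem edge_sq' (α γ : Fin 3 → ℤ) (l : Fin 3) : γ + opp α + ev (l + 1) + ev (l + 2) + α + ev l = γ := by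
  have h := sq_edge (opp α) γ l
  rwa [opp_opp] at h

/-- Squares of `α` are edges of the opposite degree. -/
noncomputable def sqEquiv (α : Fin 3 → ℤ) : Sq I α ≃ Edge I (opp α) where
  toFun p := ⟨(⟨p.1.1.1 + α + ev (p.1.2 + 1) + ev (p.1.2 + 2), p.2⟩, p.1.2), by
    show p.1.1.1 + α + ev (p.1.2 + 1) + ev (p.1.2 + 2) + opp α + ev p.1.2 ∈ stand I
    rw [sq_edge]; exact p.1.1.2⟩
  invFun p := ⟨(⟨p.1.1.1 + opp α + ev p.1.2, p.2⟩, p.1.2), by
    show p.1.1.1 + opp α + ev p.1.2 + α + ev (p.1.2 + 1) + ev (p.1.2 + 2) ∈ stand I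
    rw [sq_edge']; exact p.1.1.2⟩
  left_inv p := Subtype.ext (Prod.ext (Subtype.ext (sq_edge α p.1.1.1 p.1.2)) rfl)
  right_inv p := Subtype.ext (Prod.ext (Subtype.ext (sq_edge' α p.1.1.1 p.1.2)) rfl)

/-- Edges of `α` are squares of the opposite degree. -/
noncomputable def edgeEquiv (α : Fin 3 → ℤ) : Edge I α ≃ Sq I (opp α) where
  toFun p := ⟨(⟨p.1.1.1 + α + ev p.1.2, p.2⟩, p.1.2), by
    show p.1.1.1 + α + ev p.1.2 + opp α + ev (p.1.2 + 1) + ev (p.1.2 + 2) ∈ stand I
    rw [edge_sq]; exact p.1.1.2⟩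
  invFun p := ⟨(⟨p.1.1.1 + opp α + ev (p.1.2 + 1) + ev (p.1.2 + 2), p.2⟩, p.1.2), by
    show p.1.1.1 + opp α + ev (p.1.2 + 1) + ev (p.1.2 + 2) + α + ev p.1.2 ∈ stand I
    rw [edge_sq']; exact p.1.1.2⟩
  left_inv p := Subtype.ext (Prod.ext (Subtype.ext (edge_sq α p.1.1.1 p.1.2)) rfl)
  right_inv p := Subtype.ext (Prod.ext (Subtype.ext (edge_sq' α p.1.1.1 p.1.2)) rfl)

/-- The coefficient of the curl. -/
noncomputable def curlE (γ : Fin 3 → ℤ) (l : Fin 3) (δ : Fin 3 → ℤ) (i : Fin 3) : k :=
  open Classical in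
  (if i = l + 1 then (if δ = γ then 1 else 0) - (if δ = γ + ev (l + 2) then 1 else 0) else 0) +
    (if i = l + 2 then (if δ = γ + ev (l + 1) then 1 else 0) - (if δ = γ then 1 else 0) else 0)

theorem curlE_transpose (α γ δ : Fin 3 → ℤ) (l i : Fin 3) :
    curlE (k := k) (δ + α + ev i) i (γ + α + ev (l + 1) + ev (l + 2)) l = curlE γ l δ i := by
  unfold curlE
  have h1 : i + 1 + 1 = i + 2 := by rw [add_assoc]; congr 1
  have h2 : ∀ x : Fin 3, x + 3 = x := fun x => by fin_cases x <;> rfl
  rcases (by omega : i = l ∨ i = l + 1 ∨ i = l + 2) with h | h | h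
  · subst h
    have a : ∀ x : Fin 3, x ≠ x + 1 ∧ x ≠ x + 2 := fun x => by fin_cases x <;> decide
    rw [if_neg (a i).1, if_neg (a i).2, if_neg (a i).1, if_neg (a i).2]
  · subst h
    have e1 : l + 1 + 2 = l := by rw [add_assoc]; exact h2 l
    have e2 : l + 1 + 1 = l + 2 := by rw [add_assoc]; rfl
    have a : l + 1 ≠ l + 2 ∧ l ≠ l + 2 := by fin_cases l <;> decide
    rw [e1, e2, if_pos rfl, if_neg a.1, if_neg a.2, if_pos rfl, zero_add, add_zero]
    congr 1
    · refine if_congr ?_ rfl rfl
      constructor <;> intro e <;> funext x <;> have := congrFun e x <;> simp only [Pi.add_apply] at this ⊢ <;> omega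
    · refine if_congr ?_ rfl rfl
      constructor <;> intro e <;> funext x <;> have := congrFun e x <;> simp only [Pi.add_apply] at this ⊢ <;> omega
  · subst h
    have e1 : l + 2 + 1 = l := by rw [add_assoc]; exact h2 l
    have e2 : l + 2 + 2 = l + 1 := by rw [add_assoc]; rfl
    have a : l + 2 ≠ l + 1 ∧ l ≠ l + 1 := by fin_cases l <;> decide
    rw [e1, e2, if_pos rfl, if_neg a.1, if_neg a.2, if_pos rfl, zero_add, add_zero]
    congr 1
    · refine if_congr ?_ rfl rfl
      constructor <;> intro e <;> funext x <;> have := congrFun e x <;> simp only [Pi.add_apply] at this ⊢ <;> omega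
    · refine if_congr ?_ rfl rfl
      constructor <;> intro e <;> funext x <;> have := congrFun e x <;> simp only [Pi.add_apply] at this ⊢ <;> omega

theorem curlE_mul (γ : Fin 3 → ℤ) (l : Fin 3) (δ : Fin 3 → ℤ) (i : Fin 3) (x : k) :
    curlE γ l δ i * x = open Classical in
      ((if i = l + 1 ∧ δ = γ then x else 0) - (if i = l + 1 ∧ δ = γ + ev (l + 2) then x else 0)) +
      ((if i = l + 2 ∧ δ = γ + ev (l + 1) then x else 0) - (if i = l + 2 ∧ δ = γ then x else 0)) := by
  classical
  unfold curlE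
  by_cases h1 : i = l + 1 <;> by_cases h2 : i = l + 2 <;>
    simp [h1, h2, add_mul, sub_mul]

variable (I) in
/-- The curl. -/
noncomputable def curlM (α : Fin 3 → ℤ) : Matrix (Sq I α) (Edge I α) k :=
  fun s t => curlE s.1.1.1 s.1.2 t.1.1.1 t.1.2

theorem curlM_opp (α : Fin 3 → ℤ) :
    (curlM I (opp α)).submatrix (edgeEquiv α) (sqEquiv α) = (curlM (k := k) I α).transpose :=
  Matrix.ext fun t s => curlE_transpose α s.1.1.1 t.1.1.1 s.1.2 t.1.2

variable [Module.Finite k (MvPolynomial (Fin 3) k ⧸ I)] (hI : IsMonomial I)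

include hI in
theorem finite_edge (α : Fin 3 → ℤ) : Finite (Edge I α) := by
  haveI := (stand_finite hI).to_subtype
  infer_instance

variable (α : Fin 3 → ℤ)

variable (I) in
/-- The value of a derivation on an edge, zero off the edges. -/
noncomputable def edgeVal (D : Edge I α → k) (γ : Fin 3 → ℤ) (i : Fin 3) : k :=
  open Classical in if h : γ ∈ stand I ∧ γ + α + ev i ∈ stand I then D ⟨(⟨γ, h.1⟩, i), h.2⟩ else 0

omit [Module.Finite k (MvPolynomial (Fin 3) k ⧸ I)] in
theorem sum_indicator [Fintype (Edge I α)] (D : Edge I α → k) (δ : Fin 3 → ℤ) (i : Fin 3) :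
    ∑ t : Edge I α, (open Classical in if t.1.2 = i ∧ t.1.1.1 = δ then D t else 0) = edgeVal I α D δ i := by
  classical
  unfold edgeVal
  by_cases h : δ ∈ stand I ∧ δ + α + ev i ∈ stand I
  · rw [dif_pos h, Finset.sum_eq_single ⟨(⟨δ, h.1⟩, i), h.2⟩]
    · rw [if_pos ⟨rfl, rfl⟩]
    · exact fun t _ ht => if_neg fun e => ht (Subtype.ext (Prod.ext (Subtype.ext e.2) e.1))
    · exact fun h => absurd (Finset.mem_univ _) h
  · rw [dif_neg h]
    refine Finset.sum_eq_zero fun t _ => if_neg ?_
    rintro ⟨e1, e2⟩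
    refine h ⟨e2 ▸ t.1.1.2, ?_⟩
    rw [← e1, ← e2]
    exact t.2

omit [Module.Finite k (MvPolynomial (Fin 3) k ⧸ I)] in
theorem curl_mulVec [Fintype (Edge I α)] (D : Edge I α → k) (s : Sq I α) :
    (curlM I α).mulVec D s =
      (edgeVal I α D s.1.1.1 (s.1.2 + 1) - edgeVal I α D (s.1.1.1 + ev (s.1.2 + 2)) (s.1.2 + 1)) +
      (edgeVal I α D (s.1.1.1 + ev (s.1.2 + 1)) (s.1.2 + 2) - edgeVal I α D s.1.1.1 (s.1.2 + 2)) := by
  classical
  simp only [← sum_indicator, Matrix.mulVec, dotProduct, ← Finset.sum_sub_distrib, ← Finset.sum_add_distrib]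
  exact Finset.sum_congr rfl fun t _ => curlE_mul _ _ _ _ _

variable (I) in
/-- Potentials of degree `α`. -/
def Pot : Submodule k ((Fin 3 → ℤ) → k) where
  carrier := {F | (∀ γ, ¬ (NN γ ∧ γ + α ∈ stand I) → F γ = 0) ∧
    ∀ γ γ', γ ∈ expZ I → γ ≤ γ' → γ' + α ∈ stand I → F γ = F γ'}
  zero_mem' := ⟨fun _ _ => rfl, fun _ _ _ _ _ => rfl⟩
  add_mem' {f g} hf hg := ⟨fun γ h => by rw [Pi.add_apply, hf.1 γ h, hg.1 γ h, add_zero],
    fun γ γ' h h' h'' => by rw [Pi.add_apply, Pi.add_apply, hf.2 γ γ' h h' h'', hg.2 γ γ' h h' h'']⟩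
  smul_mem' c {f} hf := ⟨fun γ h => by rw [Pi.smul_apply, hf.1 γ h, smul_zero],
    fun γ γ' h h' h'' => by rw [Pi.smul_apply, Pi.smul_apply, hf.2 γ γ' h h' h'']⟩

include hI in
theorem finite_pot : Module.Finite k (Pot I α) := by
  haveI := (stand_finite hI).to_subtype
  let L : Pot I α →ₗ[k] (stand I → k) :=
    { toFun := fun F γ => F.1 (γ.1 - α)
      map_add' := fun F G => rfl
      map_smul' := fun c F => rfl }
  refine Module.Finite.of_injective L fun F G h => Subtype.ext (funext fun γ => ?_)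
  by_cases hγ : NN γ ∧ γ + α ∈ stand I
  · have h' : F.1 (γ + α - α) = G.1 (γ + α - α) := congrFun h ⟨γ + α, hγ.2⟩
    rwa [add_sub_cancel_right] at h'
  · rw [F.2.1 γ hγ, G.2.1 γ hγ]

open Classical in
/-- Restriction of a potential to the monomials of `I`. -/
noncomputable def resPot : Pot I α →ₗ[k] RegFun I α where
  toFun F := ⟨fun γ => if γ - α ∈ expZ I then F.1 (γ - α) else 0, fun γ hγ => by
    show (if γ - α ∈ expZ I then F.1 (γ - α) else 0) = 0
    split_ifs with h
    · exact F.2.1 _ fun h' => hγ ⟨by simpa using h'.2, h⟩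
    · rfl, fun γ γ' h hle hs => by
    have h' : γ' - α ∈ expZ I := expZ_mono h fun i => by
      have : γ i ≤ γ' i := hle i
      simp only [Pi.sub_apply]; omega
    show (if γ - α ∈ expZ I then F.1 (γ - α) else 0) = (if γ' - α ∈ expZ I then F.1 (γ' - α) else 0)
    rw [if_pos h, if_pos h']
    exact F.2.2 _ _ h (fun i => by have : γ i ≤ γ' i := hle i; simp only [Pi.sub_apply]; omega) (by simpa using hs)⟩
  map_add' F G := Subtype.ext (funext fun γ => by
    simp only [Submodule.coe_add, Pi.add_apply]; split_ifs <;> simp)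
  map_smul' c F := Subtype.ext (funext fun γ => by
    simp only [SetLike.val_smul, Pi.smul_apply, RingHom.id_apply]; split_ifs <;> simp)

omit [Module.Finite k (MvPolynomial (Fin 3) k ⧸ I)] in
theorem resPot_surjective : Function.Surjective (resPot (I := I) (k := k) α) := by
  classical
  intro f
  refine ⟨⟨fun γ => if γ ∈ expZ I then f.1 (γ + α) else 0, fun γ hγ => ?_, fun γ γ' h hle hs => ?_⟩, ?_⟩
  · show (if γ ∈ expZ I then f.1 (γ + α) else 0) = 0
    split_ifs with h
    · exact f.2.1 _ fun h' => hγ ⟨h.1, h'.1⟩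
    · rfl
  · show (if γ ∈ expZ I then f.1 (γ + α) else 0) = (if γ' ∈ expZ I then f.1 (γ' + α) else 0)
    rw [if_pos h, if_pos (expZ_mono h hle)]
    exact f.2.2 _ _ (by simpa using h) (fun i => by have : γ i ≤ γ' i := hle i; simp only [Pi.add_apply]; omega) hs
  · refine Subtype.ext (funext fun γ => ?_)
    show (if γ - α ∈ expZ I then (if γ - α ∈ expZ I then f.1 (γ - α + α) else 0) else 0) = f.1 γ
    split_ifs with h
    · rw [sub_add_cancel]
    · exact (f.2.1 γ fun h' => h h'.2).symm

include hI in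
theorem finrank_pot : Module.finrank k (Pot I α) = Module.finrank k (RegFun I α) + pairs I α := by
  classical
  haveI := (stand_finite hI).to_subtype
  haveI := finite_pot hI α
  haveI := Fintype.ofFinite {γ : stand I // γ.1 + α ∈ stand I}
  have h := (resPot (I := I) (k := k) α).finrank_range_add_finrank_ker
  rw [LinearMap.range_eq_top.mpr (resPot_surjective α), finrank_top] at h
  rw [← h]
  congr 1
  let e : LinearMap.ker (resPot (I := I) (k := k) α) ≃ₗ[k] ({γ : stand I // γ.1 + α ∈ stand I} → k) :=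
    { toFun := fun F γ => F.1.1 γ.1.1
      map_add' := fun F G => rfl
      map_smul' := fun c F => rfl
      invFun := fun g => ⟨⟨fun γ => if h : γ ∈ stand I ∧ γ + α ∈ stand I then g ⟨⟨γ, h.1⟩, h.2⟩ else 0,
        fun γ hγ => dif_neg fun h => hγ ⟨h.1.1, h.2⟩,
        fun γ γ' h hle _ => by
          show dite _ _ _ = dite _ _ _
          rw [dif_neg (fun h' => not_expZ_of_stand h'.1 h),
            dif_neg (fun h' => not_expZ_of_stand h'.1 (expZ_mono h hle))]⟩, by
        refine Subtype.ext (funext fun γ => ?_)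
        show (if γ - α ∈ expZ I then dite _ _ _ else 0) = (0 : k)
        split_ifs with h1 h2
        · exact absurd h1 (not_expZ_of_stand h2.1)
        · rfl
        · rfl⟩
      left_inv := fun F => by
        refine Subtype.ext (Subtype.ext (funext fun γ => ?_))
        show dite _ _ _ = F.1.1 γ
        split_ifs with h
        · rfl
        · by_cases hs : NN γ ∧ γ + α ∈ stand I
          · have hE : γ ∈ expZ I := (stand_or_expZ hs.1).resolve_left fun h' => h ⟨h', hs.2⟩
            have h0 : (if γ + α - α ∈ expZ I then F.1.1 (γ + α - α) else 0) = 0 :=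
              congrFun (congrArg Subtype.val F.2) (γ + α)
            rw [add_sub_cancel_right, if_pos hE] at h0
            exact h0.symm
          · exact (F.1.2.1 γ hs).symm
      right_inv := fun g => funext fun γ => dif_pos ⟨γ.1.2, γ.2⟩ }
  rw [e.finrank_eq, Module.finrank_pi, pairs, Nat.card_eq_fintype_card]

/-- The gradient of a potential. -/
noncomputable def grad : Pot I α →ₗ[k] (Edge I α → k) where
  toFun F t := F.1 (t.1.1.1 + ev t.1.2) - F.1 t.1.1.1
  map_add' F G := funext fun t => by simp only [Submodule.coe_add, Pi.add_apply]; ring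
  map_smul' c F := funext fun t => by simp only [SetLike.val_smul, Pi.smul_apply, RingHom.id_apply, smul_sub]

omit [Module.Finite k (MvPolynomial (Fin 3) k ⧸ I)] in
theorem edgeVal_grad (F : Pot I α) {γ : Fin 3 → ℤ} (hn : NN γ) {i : Fin 3} (h : γ + α + ev i ∈ stand I ∨ ¬ NN (γ + α + ev i)) :
    edgeVal I α (grad α F) γ i = F.1 (γ + ev i) - F.1 γ := by
  classical
  unfold edgeVal
  split_ifs with h'
  · rfl
  · have hle : γ ≤ γ + ev i := fun x => by have := ev_nonneg i x; simp only [Pi.add_apply]; omega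
    have e : γ + ev i + α = γ + α + ev i := by abel
    rcases h with h | h
    · have hE : γ ∈ expZ I := (stand_or_expZ hn).resolve_left fun hs => h' ⟨hs, h⟩
      rw [F.2.2 γ _ hE hle (e ▸ h), sub_self]
    · rw [F.2.1 _ (fun hh => h (e ▸ hh.2.1)), F.2.1 _ (fun hh => h fun x => ?_), sub_self]
      have := hh.2.1 x
      have := ev_nonneg i x
      simp only [Pi.add_apply] at *
      omega

omit [Module.Finite k (MvPolynomial (Fin 3) k ⧸ I)] in
theorem curl_grad [Fintype (Edge I α)] (F : Pot I α) : (curlM I α).mulVec (grad α F) = 0 := by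
  funext s
  set γ := s.1.1.1
  have hn : NN γ := s.1.1.2.1
  set l := s.1.2
  have hs : γ + α + ev (l + 1) + ev (l + 2) ∈ stand I := s.2
  have hdown : ∀ {x : Fin 3 → ℤ}, x ≤ γ + α + ev (l + 1) + ev (l + 2) → x ∈ stand I ∨ ¬ NN x := fun {x} hx =>
    (em (NN x)).imp (fun h => stand_mono hs hx h) id
  have hn1 : NN (γ + ev (l + 1)) := fun x => add_nonneg (hn x) (ev_nonneg _ x)
  have hn2 : NN (γ + ev (l + 2)) := fun x => add_nonneg (hn x) (ev_nonneg _ x)
  have le1 : γ + α + ev (l + 1) ≤ γ + α + ev (l + 1) + ev (l + 2) := fun x => by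
    have := ev_nonneg (l + 2) x; simp only [Pi.add_apply]; omega
  have le2 : γ + α + ev (l + 2) ≤ γ + α + ev (l + 1) + ev (l + 2) := fun x => by
    have := ev_nonneg (l + 1) x; simp only [Pi.add_apply]; omega
  have le3 : γ + ev (l + 2) + α + ev (l + 1) ≤ γ + α + ev (l + 1) + ev (l + 2) := le_of_eq (by abel)
  have le4 : γ + ev (l + 1) + α + ev (l + 2) ≤ γ + α + ev (l + 1) + ev (l + 2) := le_of_eq (by abel)
  rw [curl_mulVec, edgeVal_grad α F hn (hdown le1), edgeVal_grad α F hn (hdown le2), edgeVal_grad α F hn2 (hdown le3),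
    edgeVal_grad α F hn1 (hdown le4), add_right_comm γ (ev (l + 1)) (ev (l + 2)), Pi.zero_apply]
  ring

section Integrate

variable (D : Edge I α → k)

/-- The path sum of `D`, by the total degree. -/
noncomputable def potN : ℕ → (Fin 3 → ℤ) → k
  | 0, _ => 0
  | N + 1, γ => open Classical in
      if h : ∃ i, 0 < γ i then potN N (γ - ev h.choose) + edgeVal I α D (γ - ev h.choose) h.choose else 0

/-- The path sum of `D`. -/
noncomputable def potF (γ : Fin 3 → ℤ) : k := potN α D (γ 0 + γ 1 + γ 2).toNat γ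

omit [Module.Finite k (MvPolynomial (Fin 3) k ⧸ I)] in
theorem potF_zero : potF α D 0 = 0 := by simp [potF, potN]

omit [Module.Finite k (MvPolynomial (Fin 3) k ⧸ I)] in
theorem sub_ev {γ : Fin 3 → ℤ} (hn : NN γ) {i : Fin 3} (hi : 0 < γ i) :
    NN (γ - ev i) ∧ (γ - ev i) 0 + (γ - ev i) 1 + (γ - ev i) 2 = γ 0 + γ 1 + γ 2 - 1 := by
  refine ⟨fun x => ?_, ?_⟩
  · by_cases hx : x = i
    · subst hx; simp only [Pi.sub_apply, ev_self]; omega
    · simp only [Pi.sub_apply, ev_ne hx]; have := hn x; omega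
  · simp only [Pi.sub_apply, ev, Pi.single_apply]
    fin_cases i <;> simp <;> omega

omit [Module.Finite k (MvPolynomial (Fin 3) k ⧸ I)] in
theorem potF_choose {γ : Fin 3 → ℤ} (hn : NN γ) (h : ∃ i, 0 < γ i) :
    potF α D γ = potF α D (γ - ev h.choose) + edgeVal I α D (γ - ev h.choose) h.choose := by
  classical
  obtain ⟨-, hsum⟩ := sub_ev hn h.choose_spec
  have hpos : 0 < γ 0 + γ 1 + γ 2 := by
    obtain ⟨i, hi⟩ := h
    have := hn 0; have := hn 1; have := hn 2
    fin_cases i <;> simp at hi <;> omega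
  obtain ⟨N, hN⟩ : ∃ N, (γ 0 + γ 1 + γ 2).toNat = N + 1 := ⟨(γ 0 + γ 1 + γ 2).toNat - 1, by omega⟩
  rw [potF, hN, potN, dif_pos h, potF]
  rw [show ((γ - ev h.choose) 0 + (γ - ev h.choose) 1 + (γ - ev h.choose) 2).toNat = N by omega]

omit [Module.Finite k (MvPolynomial (Fin 3) k ⧸ I)] in
theorem edgeVal_of_not {γ : Fin 3 → ℤ} {i : Fin 3} (h : ¬ (γ ∈ stand I ∧ γ + α + ev i ∈ stand I)) :
    edgeVal I α D γ i = 0 := dif_neg h

variable [Fintype (Edge I α)] (hD : (curlM I α).mulVec D = 0)

omit [Module.Finite k (MvPolynomial (Fin 3) k ⧸ I)] in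
include hD in
theorem square_closed {γ : Fin 3 → ℤ} (hn : NN γ) {i j : Fin 3} (hij : i ≠ j)
    (hU : γ + ev i + ev j + α ∈ stand I ∨ ¬ NN (γ + ev i + ev j + α)) :
    edgeVal I α D γ i + edgeVal I α D (γ + ev i) j = edgeVal I α D γ j + edgeVal I α D (γ + ev j) i := by
  by_cases hs : γ ∈ stand I ∧ γ + ev i + ev j + α ∈ stand I
  · obtain ⟨l, h⟩ : ∃ l : Fin 3, (i = l + 1 ∧ j = l + 2) ∨ (j = l + 1 ∧ i = l + 2) := by
      clear hU hs
      revert hij; revert i j; decide
    rcases h with ⟨rfl, rfl⟩ | ⟨rfl, rfl⟩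
    · have h := congrFun hD ⟨(⟨γ, hs.1⟩, l), by
        show γ + α + ev (l + 1) + ev (l + 2) ∈ stand I
        convert hs.2 using 1; abel⟩
      rw [curl_mulVec, Pi.zero_apply] at h
      linear_combination h
    · have h := congrFun hD ⟨(⟨γ, hs.1⟩, l), by
        show γ + α + ev (l + 1) + ev (l + 2) ∈ stand I
        convert hs.2 using 1; abel⟩
      rw [curl_mulVec, Pi.zero_apply] at h
      linear_combination -h
  · have key : ∀ x y : Fin 3, (ev x + ev y = ev i + ev j) → edgeVal I α D γ x = 0 ∧ edgeVal I α D (γ + ev x) y = 0 := by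
      intro x y hxy
      rcases hU with hU | hU
      · have hE : γ ∈ expZ I := (stand_or_expZ hn).resolve_left fun h => hs ⟨h, hU⟩
        refine ⟨edgeVal_of_not α D fun h => not_expZ_of_stand h.1 hE,
          edgeVal_of_not α D fun h => not_expZ_of_stand h.1 (expZ_mono hE fun z => ?_)⟩
        have := ev_nonneg x z
        simp only [Pi.add_apply]; omega
      · simp only [NN, not_forall, not_le] at hU
        obtain ⟨z, hz⟩ := hU
        have e := congrFun hxy z
        have := ev_nonneg x z; have := ev_nonneg y z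
        simp only [Pi.add_apply] at hz e
        refine ⟨edgeVal_of_not α D fun h => ?_, edgeVal_of_not α D fun h => ?_⟩
        · have := h.2.1 z
          simp only [Pi.add_apply] at this; omega
        · have := h.2.1 z
          simp only [Pi.add_apply] at this; omega
    obtain ⟨a, b⟩ := key i j rfl
    obtain ⟨c, d⟩ := key j i (add_comm _ _)
    rw [a, b, c, d]

omit [Module.Finite k (MvPolynomial (Fin 3) k ⧸ I)] in
include hD in
theorem potF_step (N : ℕ) : ∀ (γ : Fin 3 → ℤ), (γ 0 + γ 1 + γ 2).toNat ≤ N → NN γ →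
    (γ + α ∈ stand I ∨ ¬ NN (γ + α)) → ∀ i, 0 < γ i →
    potF α D γ = potF α D (γ - ev i) + edgeVal I α D (γ - ev i) i := by
  induction N with
  | zero =>
    intro γ hN hn _ i hi
    have := hn 0; have := hn 1; have := hn 2
    fin_cases i <;> simp at hi <;> omega
  | succ N ih =>
    intro γ hN hn hU i hi
    have h : ∃ i, 0 < γ i := ⟨i, hi⟩
    rw [potF_choose α D hn h]
    generalize hj : h.choose = j
    have hj0 : 0 < γ j := hj ▸ h.choose_spec
    by_cases hij : i = j
    · rw [hij]
    have hdown : ∀ x, x ≤ γ → x + α ∈ stand I ∨ ¬ NN (x + α) := fun x hx => by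
      rcases hU with hU | hU
      · exact (em (NN (x + α))).imp (fun hh => stand_mono hU (fun z => by
          have : x z ≤ γ z := hx z; simp only [Pi.add_apply]; omega) hh) id
      · refine Or.inr fun hh => hU fun z => ?_
        have := hh z; have : x z ≤ γ z := hx z
        simp only [Pi.add_apply] at *; omega
    have hle : ∀ x, γ - ev x ≤ γ := fun x z => by have := ev_nonneg x z; simp only [Pi.sub_apply]; omega
    obtain ⟨hni, hsi⟩ := sub_ev hn hi
    obtain ⟨hnj, hsj⟩ := sub_ev hn hj0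
    have hi' : 0 < (γ - ev j) i := by simp only [Pi.sub_apply, ev_ne hij]; omega
    have hj' : 0 < (γ - ev i) j := by simp only [Pi.sub_apply, ev_ne (Ne.symm hij)]; omega
    rw [ih _ (by omega) hnj (hdown _ (hle j)) i hi', ih _ (by omega) hni (hdown _ (hle i)) j hj',
      sub_right_comm γ (ev i) (ev j)]
    set x := γ - ev j - ev i
    have hx : NN x := (sub_ev hnj hi').1
    have e1 : γ - ev j = x + ev i := by simp only [x]; abel
    have e2 : γ - ev i = x + ev j := by simp only [x]; abel
    have e3 : x + ev i + ev j + α = γ + α := by simp only [x]; abel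
    rw [e1, e2, add_assoc, add_assoc, square_closed α D hD hx hij (e3 ▸ hU)]

omit [Module.Finite k (MvPolynomial (Fin 3) k ⧸ I)] in
include hD in
theorem potF_const (γ γ' : Fin 3 → ℤ) (hle : γ ≤ γ') (hU : γ' + α ∈ stand I ∨ ¬ NN (γ' + α)) (hn : NN γ)
    (h0 : ∀ x, γ ≤ x → x ≤ γ' → ∀ i, edgeVal I α D x i = 0 ∨ γ' < x + ev i ∨ ¬ x + ev i ≤ γ') :
    potF α D γ' = potF α D γ := by
  suffices H : ∀ (N : ℕ) (x : Fin 3 → ℤ), γ ≤ x → x ≤ γ' → (x 0 - γ 0 + (x 1 - γ 1) + (x 2 - γ 2)).toNat ≤ N →
      potF α D x = potF α D γ from H _ γ' hle le_rfl le_rfl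
  intro N
  induction N with
  | zero =>
    intro x hx _ h
    have a0 : γ 0 ≤ x 0 := hx 0
    have a1 : γ 1 ≤ x 1 := hx 1
    have a2 : γ 2 ≤ x 2 := hx 2
    rw [show x = γ from funext fun z => by fin_cases z <;> simp <;> omega]
  | succ N ih =>
    intro x hx hx' hN
    by_cases he : x = γ
    · rw [he]
    obtain ⟨i, hi⟩ : ∃ i, γ i < x i := by
      by_contra hc
      simp only [not_exists, not_lt] at hc
      exact he (funext fun z => le_antisymm (hc z) (hx z))
    have hnx : NN x := fun z => (hn z).trans (hx z)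
    have hUx : x + α ∈ stand I ∨ ¬ NN (x + α) := by
      rcases hU with hU | hU
      · exact (em (NN (x + α))).imp (fun hh => stand_mono hU (fun z => by
          have : x z ≤ γ' z := hx' z; simp only [Pi.add_apply]; omega) hh) id
      · refine Or.inr fun hh => hU fun z => ?_
        have := hh z; have : x z ≤ γ' z := hx' z
        simp only [Pi.add_apply] at *; omega
    have hxi : 0 < x i := lt_of_le_of_lt (hn i) hi
    rw [potF_step α D hD _ x le_rfl hnx hUx i hxi]
    have h1 : γ ≤ x - ev i := fun z => by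
      have : γ z ≤ x z := hx z
      by_cases hz : z = i
      · subst hz; simp only [Pi.sub_apply, ev_self]; omega
      · simp only [Pi.sub_apply, ev_ne hz]; omega
    have h2 : x - ev i ≤ γ' := fun z => by
      have := ev_nonneg i z; have : x z ≤ γ' z := hx' z; simp only [Pi.sub_apply]; omega
    rw [ih (x - ev i) h1 h2 (by
      obtain ⟨-, hs⟩ := sub_ev hnx hxi
      have a0 : γ 0 ≤ (x - ev i) 0 := h1 0
      have a1 : γ 1 ≤ (x - ev i) 1 := h1 1
      have a2 : γ 2 ≤ (x - ev i) 2 := h1 2
      omega)]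
    rcases h0 _ h1 h2 i with h | h | h
    · rw [h, add_zero]
    · rw [sub_add_cancel] at h; exact absurd h (not_lt_of_ge hx')
    · rw [sub_add_cancel] at h; exact absurd hx' h

omit [Module.Finite k (MvPolynomial (Fin 3) k ⧸ I)] in
include hD in
theorem exists_pot : ∃ F : Pot I α, grad α F = D := by
  classical
  have hneg : ∀ γ, NN γ → ¬ NN (γ + α) → potF α D γ = 0 := fun γ hn hγ => by
    rw [potF_const α D hD 0 γ hn (Or.inr hγ) (fun _ => le_rfl) fun x hx hx' i => ?_, potF_zero]
    by_cases h : x + ev i ≤ γ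
    · refine Or.inl (edgeVal_of_not α D fun hh => hγ fun z => ?_)
      have := hh.2.1 z
      have : (x + ev i) z ≤ γ z := h z
      simp only [Pi.add_apply] at *; omega
    · exact Or.inr (Or.inr h)
  refine ⟨⟨fun γ => if NN γ ∧ γ + α ∈ stand I then potF α D γ else 0, fun γ h => if_neg h,
    fun γ γ' h hle hs => ?_⟩, funext fun t => ?_⟩
  · show ite _ _ _ = ite _ _ _
    have hn' : NN γ' := fun z => (h.1 z).trans (hle z)
    have hpot : potF α D γ' = potF α D γ := potF_const α D hD γ γ' hle (Or.inl hs) h.1 fun x hx _ i =>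
      Or.inl (edgeVal_of_not α D fun hh => not_expZ_of_stand hh.1 (expZ_mono h hx))
    rw [if_pos (show NN γ' ∧ γ' + α ∈ stand I from ⟨hn', hs⟩), hpot]
    split_ifs with h'
    · rfl
    · refine (hneg γ h.1 fun hn => h' ⟨h.1, stand_mono hs (fun z => ?_) hn⟩).symm
      have : γ z ≤ γ' z := hle z
      simp only [Pi.add_apply]; omega
  · obtain ⟨⟨⟨γ, hγ⟩, i⟩, ht⟩ := t
    show (if NN (γ + ev i) ∧ γ + ev i + α ∈ stand I then potF α D (γ + ev i) else 0) -
      (if NN γ ∧ γ + α ∈ stand I then potF α D γ else 0) = _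
    have hn1 : NN (γ + ev i) := fun z => add_nonneg (hγ.1 z) (ev_nonneg i z)
    have e : γ + ev i + α = γ + α + ev i := by abel
    have hpos : 0 < (γ + ev i) i := by have := hγ.1 i; simp only [Pi.add_apply, ev_self]; omega
    rw [if_pos ⟨hn1, e ▸ ht⟩, potF_step α D hD _ _ le_rfl hn1 (Or.inl (e ▸ ht)) i hpos, add_sub_cancel_right,
      show edgeVal I α D γ i = D ⟨(⟨γ, hγ⟩, i), ht⟩ from dif_pos ⟨hγ, ht⟩]
    split_ifs with h'
    · ring
    · rw [hneg γ hγ.1 fun hn => h' ⟨hγ.1, stand_mono ht (fun z => by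
        have := ev_nonneg i z; simp only [Pi.add_apply]; omega) hn⟩]
      ring

end Integrate

omit [Module.Finite k (MvPolynomial (Fin 3) k ⧸ I)] in
theorem finrank_ker_grad [Decidable (α ∈ stand I)] :
    Module.finrank k (LinearMap.ker (grad (I := I) (k := k) α)) = if α ∈ stand I then 1 else 0 := by
  classical
  have hconst : ∀ F : Pot I α, grad α F = 0 → ∀ (N : ℕ) (γ : Fin 3 → ℤ), (γ 0 + γ 1 + γ 2).toNat ≤ N →
      NN γ → γ + α ∈ stand I → F.1 γ = F.1 0 := by
    intro F hF N
    induction N with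
    | zero =>
      intro γ h hn _
      have := hn 0; have := hn 1; have := hn 2
      rw [show γ = 0 from funext fun z => by fin_cases z <;> simp <;> omega]
    | succ N ih =>
      intro γ h hn hs
      by_cases hz : γ = 0
      · rw [hz]
      obtain ⟨i, hi⟩ : ∃ i, 0 < γ i := by
        by_contra hc
        simp only [not_exists, not_lt] at hc
        exact hz (funext fun z => le_antisymm (hc z) (hn z))
      obtain ⟨hn', hs'⟩ := sub_ev hn hi
      have hle : γ - ev i ≤ γ := fun z => by have := ev_nonneg i z; simp only [Pi.sub_apply]; omega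
      have hstep : F.1 (γ - ev i) = F.1 γ := by
        rcases stand_or_expZ (I := I) hn' with hst | hE
        · have ht : γ - ev i + α + ev i ∈ stand I := by convert hs using 1; abel
          have h0 : F.1 (γ - ev i + ev i) - F.1 (γ - ev i) = 0 := congrFun hF ⟨(⟨γ - ev i, hst⟩, i), ht⟩
          rw [sub_add_cancel, sub_eq_zero] at h0
          exact h0.symm
        · exact F.2.2 _ γ hE hle hs
      by_cases hs2 : γ - ev i + α ∈ stand I
      · rw [← hstep]; exact ih _ (by omega) hn' hs2
      · have hneg : ¬ NN (γ - ev i + α) := fun hh => hs2 (stand_mono hs (fun z => by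
          have := ev_nonneg i z; simp only [Pi.add_apply, Pi.sub_apply]; omega) hh)
        have hα : ¬ NN α := fun hh => hneg fun z => add_nonneg (hn' z) (hh z)
        rw [← hstep, F.2.1 _ fun hh => hs2 hh.2, F.2.1 0 fun hh => hα (by simpa using hh.2.1)]
  let ev0 : LinearMap.ker (grad (I := I) (k := k) α) →ₗ[k] k :=
    { toFun := fun F => F.1.1 0
      map_add' := fun _ _ => rfl
      map_smul' := fun _ _ => rfl }
  have hinj : Function.Injective ev0 := by
    intro F G hFG
    refine Subtype.ext (Subtype.ext (funext fun γ => ?_))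
    by_cases hγ : NN γ ∧ γ + α ∈ stand I
    · exact (hconst F.1 F.2 _ γ le_rfl hγ.1 hγ.2).trans (Eq.trans hFG (hconst G.1 G.2 _ γ le_rfl hγ.1 hγ.2).symm)
    · exact (F.1.2.1 γ hγ).trans (G.1.2.1 γ hγ).symm
  split_ifs with hα
  · have hsurj : Function.Surjective ev0 := fun c => by
      refine ⟨⟨⟨fun γ => if NN γ ∧ γ + α ∈ stand I then c else 0, fun γ hγ => if_neg hγ, fun γ γ' h hle hs => ?_⟩,
        funext fun t => ?_⟩, ?_⟩
      · refine absurd (expZ_mono h fun z => ?_) (not_expZ_of_stand hs)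
        have : γ z ≤ γ' z := hle z
        have := hα.1 z
        simp only [Pi.add_apply]; omega
      · obtain ⟨⟨⟨γ, hγ⟩, i⟩, ht⟩ := t
        show (if NN (γ + ev i) ∧ γ + ev i + α ∈ stand I then c else 0) - (if NN γ ∧ γ + α ∈ stand I then c else 0) = 0
        have hn1 : NN (γ + ev i) := fun z => add_nonneg (hγ.1 z) (ev_nonneg i z)
        have e : γ + ev i + α = γ + α + ev i := by abel
        rw [if_pos ⟨hn1, e ▸ ht⟩, if_pos ⟨hγ.1, stand_mono ht (fun z => by
          have := ev_nonneg i z; simp only [Pi.add_apply]; omega) (fun z => add_nonneg (hγ.1 z) (hα.1 z))⟩, sub_self]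
      · show (if NN (0 : Fin 3 → ℤ) ∧ 0 + α ∈ stand I then c else 0) = c
        rw [if_pos ⟨fun _ => le_rfl, by simpa using hα⟩]
    rw [(LinearEquiv.ofBijective ev0 ⟨hinj, hsurj⟩).finrank_eq, Module.finrank_self]
  · haveI : Subsingleton (LinearMap.ker (grad (I := I) (k := k) α)) := ⟨fun F G => hinj (by
      show F.1.1 0 = G.1.1 0
      rw [F.1.2.1 0 fun h => hα (by simpa using h.2), G.1.2.1 0 fun h => hα (by simpa using h.2)])⟩
    exact Module.finrank_zero_of_subsingleton

include hI in
theorem piece_eq [Fintype (Edge I α)] [Decidable (α ∈ stand I)] :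
    Module.finrank k (RegFun I α) + pairs I α + (curlM (k := k) I α).rank =
      Fintype.card (Edge I α) + if α ∈ stand I then 1 else 0 := by
  classical
  haveI := finite_pot hI α
  have h1 := (grad (I := I) (k := k) α).finrank_range_add_finrank_ker
  have h2 : LinearMap.range (grad (I := I) (k := k) α) = LinearMap.ker (curlM (k := k) I α).mulVecLin := by
    refine le_antisymm ?_ fun D hD => ?_
    · rintro _ ⟨F, rfl⟩
      exact curl_grad α F
    · obtain ⟨F, hF⟩ := exists_pot α D hD
      exact ⟨F, hF⟩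
  have h3 := (curlM (k := k) I α).mulVecLin.finrank_range_add_finrank_ker
  rw [Module.finrank_pi] at h3
  rw [h2, finrank_ker_grad, finrank_pot hI] at h1
  rw [Matrix.rank]
  omega

include hI in
theorem card_edge [Fintype (Edge I α)] : Fintype.card (Edge I α) = ∑ i : Fin 3, pairs I (α + ev i) := by
  haveI := (stand_finite hI).to_subtype
  haveI := fun i : Fin 3 => Fintype.ofFinite {γ : stand I // γ.1 + (α + ev i) ∈ stand I}
  simp only [pairs, Nat.card_eq_fintype_card]
  rw [← Fintype.card_sigma]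
  exact Fintype.card_congr
    { toFun := fun t => ⟨t.1.2, t.1.1, by rw [← add_assoc]; exact t.2⟩
      invFun := fun t => ⟨(t.2.1, t.1), by rw [add_assoc]; exact t.2.2⟩
      left_inv := fun t => rfl
      right_inv := fun t => rfl }

include hI in
/-- The difference of opposite pieces. -/
theorem euler [Decidable (α ∈ stand I)] [Decidable (opp α ∈ stand I)] :
    (Module.finrank k (RegFun I α) : ℤ) - Module.finrank k (RegFun I (opp α)) =
      (if α ∈ stand I then 1 else 0) - (if opp α ∈ stand I then 1 else 0) +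
        (∑ i : Fin 3, (pairs I (α + ev i) : ℤ)) - (∑ i : Fin 3, (pairs I (α + ev (i + 1) + ev (i + 2)) : ℤ)) -
        pairs I α + pairs I (α + one3) := by
  classical
  haveI := finite_edge hI α
  haveI := finite_edge hI (opp α)
  haveI := Fintype.ofFinite (Edge I α)
  haveI := Fintype.ofFinite (Edge I (opp α))
  haveI : Finite (Sq I α) := Finite.of_equiv _ (sqEquiv α).symm
  haveI := Fintype.ofFinite (Sq I α)
  have hrank : (curlM (k := k) I (opp α)).rank = (curlM (k := k) I α).rank := by
    rw [← Matrix.rank_transpose (curlM (k := k) I α), ← curlM_opp, Matrix.rank_submatrix]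
  have h1 := piece_eq hI α
  have h2 := piece_eq hI (opp α)
  rw [card_edge hI, hrank] at h2
  rw [card_edge hI] at h1
  have e1 : ∀ i : Fin 3, pairs I (opp α + ev i) = pairs I (α + ev (i + 1) + ev (i + 2)) := fun i => by
    rw [← pairs_neg]
    congr 1
    simp only [opp, ← ev_sum i]
    abel
  have e2 : pairs I (opp α) = pairs I (α + one3) := by
    rw [← pairs_neg]
    congr 1
    simp only [opp]
    abel
  simp only [e1, e2] at h2
  simp only [← Nat.cast_sum]
  split_ifs at h1 h2 ⊢ <;> omega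

end Groth.Agent.Hilb37
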