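import Mathlib.LinearAlgebra.FiniteDimensional.Lemmas
import Mathlib.LinearAlgebra.Dimension.RankNullity
import Mathlib.LinearAlgebra.Basis.VectorSpace

/-! A map and its leading part for a weight filtration: the kernel does not grow. -/

set_option autoImplicit false

namespace Groth.Agent.Hilb37

open Module

theorem finrank_ker_le_leading {k : Type*} [Field k] {ι κ O : Type*} [Fintype ι] [Fintype κ] [LinearOrder O]
    {V W V0 W0 : Type*} [AddCommGroup V] [Module k V] [AddCommGroup W] [Module k W]
    [AddCommGroup V0] [Module k V0] [AddCommGroup W0] [Module k W0]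
    (b : Basis ι k V) (c : Basis κ k W) (b0 : Basis ι k V0) (c0 : Basis κ k W0) (w : ι → O) (w' : κ → O)
    (A : V →ₗ[k] W) (A0 : V0 →ₗ[k] W0)
    (hA : ∀ i j, w i < w' j → c.repr (A (b i)) j = 0)
    (hA0 : ∀ i j, w' j ≠ w i → c0.repr (A0 (b0 i)) j = 0)
    (heq : ∀ i j, w' j = w i → c.repr (A (b i)) j = c0.repr (A0 (b0 i)) j) :
    finrank k (LinearMap.ker A) ≤ finrank k (LinearMap.ker A0) := by
  classical
  haveI := Module.Finite.of_basis b
  haveI := Module.Finite.of_basis b0
  haveI := Module.Finite.of_basis c
  haveI := Module.Finite.of_basis c0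
  let v : ι → W0 := fun i => A0 (b0 i)
  have hv : LinearIndepOn k v (∅ : Set ι) := linearIndepOn_empty k v
  set s : Set ι := hv.extend (Set.empty_subset Set.univ)
  have hli : LinearIndepOn k v s := hv.linearIndepOn_extend _
  have hspan : Submodule.span k (v '' s) = LinearMap.range A0 := by
    rw [hv.span_image_extend_eq_span_image, Set.image_univ, show Set.range v = A0 '' Set.range b0 by
      rw [← Set.range_comp]; rfl, Submodule.span_image, b0.span_eq, Submodule.map_top]
  have hr0 : finrank k (LinearMap.range A0) = Fintype.card s := by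
    rw [← hspan, Set.image_eq_range, finrank_span_eq_card hli]
  have hliA : LinearIndependent k fun i : s => A (b i) := by
    rw [Fintype.linearIndependent_iff]
    intro g hg
    by_contra hne
    push Not at hne
    obtain ⟨i0, hi0, hmax⟩ := (Finset.univ.filter fun i : s => g i ≠ 0).exists_max_image (fun i => w i)
      ⟨hne.choose, by simp [hne.choose_spec]⟩
    simp only [Finset.mem_filter, Finset.mem_univ, true_and] at hi0 hmax
    set g' : s → k := fun i => if w i = w i0 then g i else 0
    have hsum : ∑ i, g' i • A0 (b0 i) = 0 := by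
      refine c0.ext_elem fun j => ?_
      simp only [map_zero, Finsupp.coe_zero, Pi.zero_apply, map_sum, map_smul, Finsupp.coe_finsetSum, Finset.sum_apply,
        Finsupp.coe_smul, Pi.smul_apply, smul_eq_mul]
      by_cases hj : w' j = w i0
      · have h1 := congrArg (fun x => c.repr x j) hg
        simp only [map_zero, Finsupp.coe_zero, Pi.zero_apply, map_sum, map_smul, Finsupp.coe_finsetSum, Finset.sum_apply,
          Finsupp.coe_smul, Pi.smul_apply, smul_eq_mul] at h1
        rw [← h1]
        refine Finset.sum_congr rfl fun i _ => ?_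
        simp only [g']
        split_ifs with hi
        · rw [heq _ _ (hj.trans hi.symm)]
        · rw [zero_mul]
          by_cases hgi : g i = 0
          · rw [hgi, zero_mul]
          · rw [hA _ _ (hj ▸ lt_of_le_of_ne (hmax i hgi) hi), mul_zero]
      · refine Finset.sum_eq_zero fun i _ => ?_
        simp only [g']
        split_ifs with hi
        · rw [hA0 _ _ (hi ▸ hj), mul_zero]
        · rw [zero_mul]
    exact hi0 (by simpa [g'] using (Fintype.linearIndependent_iff.mp hli g' hsum i0))
  have hr : Fintype.card s ≤ finrank k (LinearMap.range A) := by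
    rw [← finrank_span_eq_card hliA]
    refine Submodule.finrank_mono (Submodule.span_le.mpr ?_)
    rintro _ ⟨i, rfl⟩
    exact LinearMap.mem_range_self _ _
  have h1 := A.finrank_range_add_finrank_ker
  have h2 := A0.finrank_range_add_finrank_ker
  rw [finrank_eq_card_basis b] at h1
  rw [finrank_eq_card_basis b0] at h2
  omega

end Groth.Agent.Hilb37
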