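import Groth.Agent.Fit14.Local
import Groth.Agent.GenFree62.Generic
import Mathlib.RingTheory.Spectrum.Prime.FreeLocus
import Mathlib.RingTheory.Spectrum.Prime.Topology
import Mathlib.RingTheory.GradedAlgebra.Basic
import Mathlib.Algebra.Module.GradedModule
import Mathlib.RingTheory.LocalProperties.FinitePresentation
import Mathlib.RingTheory.Flat.Localization
import Mathlib.RingTheory.TensorProduct.Finite
import Mathlib.RingTheory.Flat.EquationalCriterion
import Mathlib.RingTheory.FiniteStability

/-! The locus where all the graded pieces are locally free of prescribed ranks. -/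

set_option autoImplicit false
universe u

namespace Groth.Agent.Hilb37.Stratum

open TensorProduct

section LocallyFree

variable {B M : Type u} [CommRing B] [AddCommGroup M] [Module B M] [Module.Finite B M] {r : ℕ}

/-- Locally free of rank `r` from the Fitting ideals (as `Grpd80.free_span_of_ideal`). -/
theorem projective_of_fitting (h1 : ∀ k, k < r → Fitt.ideal B M k = ⊥) (h2 : ∀ k, r ≤ k → Fitt.ideal B M k = ⊤) :
    Module.Projective B M ∧ ∀ p : PrimeSpectrum B, Module.rankAtStalk M p = r := by
  have hloc := (Fit14.locallyFree_iff (R := B) (M := M) r).2 ⟨h1, h2⟩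
  let s : Set B := {a | Module.Free (Localization.Away a) (LocalizedModule (Submonoid.powers a) M)}
  have hs : Ideal.span s = ⊤ := by
    by_contra hne
    obtain ⟨m, hm, hle⟩ := Ideal.exists_le_maximal _ hne
    obtain ⟨a, ha, hfree, -⟩ := hloc m
    exact ha (hle (Ideal.subset_span (show a ∈ s from hfree)))
  have hfin : ∀ g : s, Module.Finite (Localization.Away g.1) (LocalizedModule (Submonoid.powers g.1) M) := fun g =>
    Module.Finite.of_isLocalizedModule (Submonoid.powers g.1)
      (LocalizedModule.mkLinearMap (Submonoid.powers g.1) M)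
  have hflat : Module.Flat B M := by
    refine Module.flat_of_localized_span B M s hs fun g => ?_
    haveI : Module.Free (Localization.Away g.1) (LocalizedModule (Submonoid.powers g.1) M) := g.2
    exact Module.Flat.trans B (Localization.Away g.1) (LocalizedModule (Submonoid.powers g.1) M)
  have hfp : Module.FinitePresentation B M := by
    refine Module.FinitePresentation.of_localizationSpan s hs fun g => ?_
    haveI : Module.Free (Localization.Away g.1) (LocalizedModule (Submonoid.powers g.1) M) := g.2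
    haveI := hfin g
    exact Module.finitePresentation_of_projective _ _
  refine ⟨Module.Flat.projective_of_finitePresentation, fun p => ?_⟩
  rw [Module.rankAtStalk_eq]
  refine le_antisymm ((Fit14.not_le_iff_finrank_le p.asIdeal r).1 ?_) ?_
  · rw [h2 r le_rfl]
    exact fun h => p.isPrime.ne_top (top_le_iff.1 h)
  · by_contra hlt
    push Not at hlt
    refine (Fit14.not_le_iff_finrank_le p.asIdeal (r - 1)).2 (Nat.le_sub_one_of_lt hlt) ?_
    rw [h1 (r - 1) (by omega)]
    exact bot_le

theorem fitting_of_projective [Module.Projective B M] (h : ∀ p : PrimeSpectrum B, Module.rankAtStalk M p = r) :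
    (∀ k, k < r → Fitt.ideal B M k = ⊥) ∧ (∀ k, r ≤ k → Fitt.ideal B M k = ⊤) := by
  refine ⟨fun k hk => ?_, fun k hk => ?_⟩
  · rw [eq_bot_iff]
    intro a ha
    rw [Ideal.mem_bot]
    by_contra hne
    have hA : Ideal.torsionOf B B a ≠ ⊤ := fun ht => hne ((Ideal.torsionOf_eq_top_iff (R := B) a).1 ht)
    obtain ⟨m, hm, hle⟩ := Ideal.exists_le_maximal _ hA
    have : Module.Free (Localization.AtPrime m) (Localization.AtPrime m ⊗[B] M) :=
      Module.free_of_flat_of_isLocalRing
    have h0 := Ideal.mem_map_of_mem (algebraMap B (Localization.AtPrime m)) ha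
    have h1 := h ⟨m, inferInstance⟩
    rw [Module.rankAtStalk_eq_finrank_tensorProduct] at h1
    rw [← Fit14.ideal_baseChange, Fit14.ideal_of_free, if_neg (by simp only at h1; omega), Ideal.mem_bot,
      IsLocalization.map_eq_zero_iff m.primeCompl] at h0
    obtain ⟨c, hc⟩ := h0
    exact c.2 (hle ((Ideal.mem_torsionOf_iff a _).2 (by rw [smul_eq_mul, hc])))
  · by_contra hne
    obtain ⟨m, hm, hle⟩ := Ideal.exists_le_maximal _ hne
    refine (Fit14.not_le_iff_finrank_le m k).2 ?_ hle
    have := h ⟨m, inferInstance⟩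
    rw [Module.rankAtStalk_eq] at this
    exact le_trans this.le hk

end LocallyFree

variable {A : Type u} [CommRing A] {M : Type u} [AddCommGroup M] [Module A M]
  (ℳ : ℤ → Submodule A M) [DirectSum.Decomposition ℳ]

/-- Generic freeness of all pieces modulo a prime. -/
theorem exists_projective_pieces (R : Type u) [CommRing R] [Algebra A R] [Algebra.FiniteType A R]
    [Module R M] [IsScalarTower A R M] [Module.Finite R M] [IsNoetherianRing A] (p : Ideal A) [p.IsPrime] :
    ∃ f : A, f ∉ p ∧ ∀ v, Module.Projective (Localization.Away (Ideal.Quotient.mk p f))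
      (Localization.Away (Ideal.Quotient.mk p f) ⊗[A] ↥(ℳ v)) := by
  let T := (A ⧸ p) ⊗[A] M
  let φ : R →ₐ[A] Module.End (A ⧸ p) T := (Module.End.baseChangeHom A (A ⧸ p) M).comp (Algebra.lsmul A A M)
  let _ : Module R T := Module.compHom T φ.toRingHom
  have hφ : ∀ (r : R) (x : A ⧸ p) (m : M), r • (x ⊗ₜ[A] m : T) = x ⊗ₜ[A] (r • m) := fun r x m => rfl
  have : IsScalarTower A R T := IsScalarTower.of_algebraMap_smul fun a t => by
    show φ (algebraMap A R a) t = a • t
    rw [φ.commutes]
    rfl
  have : SMulCommClass (A ⧸ p) R T := ⟨fun c r t => (map_smul (φ r) c t).symm⟩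
  let _ : Module ((A ⧸ p) ⊗[A] R) T := TensorProduct.Algebra.module
  have : IsScalarTower (A ⧸ p) ((A ⧸ p) ⊗[A] R) T := IsScalarTower.of_algebraMap_smul (R := A ⧸ p) (A := (A ⧸ p) ⊗[A] R) (M := T) fun c t => by
    show (c ⊗ₜ[A] (1 : R)) • t = c • t
    rw [TensorProduct.Algebra.smul_def, one_smul]
  have : Module.Finite ((A ⧸ p) ⊗[A] R) T := by
    classical
    obtain ⟨s, hs⟩ := ‹Module.Finite R M›.fg_top
    refine ⟨s.image fun m => ((1 : A ⧸ p) ⊗ₜ[A] m : T), eq_top_iff.mpr fun t _ => ?_⟩
    have hone : ∀ m : M, ((1 : A ⧸ p) ⊗ₜ[A] m : T) ∈ Submodule.span ((A ⧸ p) ⊗[A] R)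
        (↑(s.image fun m => ((1 : A ⧸ p) ⊗ₜ[A] m : T)) : Set T) := fun m => by
      have hm : m ∈ Submodule.span R (s : Set M) := hs ▸ Submodule.mem_top
      induction hm using Submodule.span_induction with
      | mem z hz => exact Submodule.subset_span (Finset.mem_coe.mpr (Finset.mem_image_of_mem _ hz))
      | zero => rw [TensorProduct.tmul_zero]; exact zero_mem _
      | add a b _ _ ha hb => rw [TensorProduct.tmul_add]; exact add_mem ha hb
      | smul r a _ ha =>
        have e : ((1 : A ⧸ p) ⊗ₜ[A] r) • ((1 : A ⧸ p) ⊗ₜ[A] a : T) = (1 : A ⧸ p) ⊗ₜ[A] (r • a) := by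
          rw [TensorProduct.Algebra.smul_def, hφ, one_smul]
        rw [← e]
        exact Submodule.smul_mem _ _ ha
    induction t using TensorProduct.induction_on with
    | zero => exact zero_mem _
    | tmul x m =>
      have e : (x ⊗ₜ[A] m : T) = (x ⊗ₜ[A] (1 : R)) • ((1 : A ⧸ p) ⊗ₜ[A] m : T) := by
        rw [TensorProduct.Algebra.smul_def, one_smul, TensorProduct.smul_tmul', smul_eq_mul, mul_one]
      rw [e]
      exact Submodule.smul_mem _ _ (hone m)
    | add a b ha hb => exact add_mem (ha trivial) (hb trivial)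
  have : IsNoetherianRing (A ⧸ p) := isNoetherianRing_of_surjective _ _ _ Ideal.Quotient.mk_surjective
  obtain ⟨g, hg0, hg⟩ := GenFree62.exists_freeAway (A := A ⧸ p) (B := (A ⧸ p) ⊗[A] R) (M := T)
  obtain ⟨f, rfl⟩ := Ideal.Quotient.mk_surjective g
  refine ⟨f, fun hf => hg0 (Ideal.Quotient.eq_zero_iff_mem.mpr hf), fun v => ?_⟩
  set A'' := Localization.Away (Ideal.Quotient.mk p f)
  have := hg A'' (IsLocalization.Away.algebraMap_isUnit _)
  have : Module.Free A'' (A'' ⊗[A] M) :=
    Module.Free.of_equiv (AlgebraTensorModule.cancelBaseChange A (A ⧸ p) A'' A'' M)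
  let π : M →ₗ[A] ℳ v := (DirectSum.component A ℤ (fun i => ℳ i) v).comp (DirectSum.decomposeLinearEquiv ℳ).toLinearMap
  refine Module.Projective.of_split ((ℳ v).subtype.baseChange A'') (π.baseChange A'') ?_
  rw [← LinearMap.baseChange_comp]
  have e : π.comp (ℳ v).subtype = LinearMap.id := LinearMap.ext fun x => by
    show (DirectSum.decompose ℳ (x : M)) v = x
    rw [DirectSum.decompose_coe, DirectSum.of_eq_same]
  rw [e, LinearMap.baseChange_id]

variable [IsNoetherianRing A] (hfg : ∀ v : ℤ, Module.Finite A ↥(ℳ v)) (h : ℤ → ℕ)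

/-- The points where some rank is too big. -/
def badSet : Set (PrimeSpectrum A) := {P | ∃ v, Fitt.ideal A ↥(ℳ v) (h v) ≤ P.asIdeal}

include hfg in
theorem isClosed_badSet_inter (R : Type u) [CommRing R] [Algebra A R] [Algebra.FiniteType A R]
    [Module R M] [IsScalarTower A R M] [Module.Finite R M] : ∀ I : Ideal A, IsClosed (badSet ℳ h ∩ PrimeSpectrum.zeroLocus (I : Set A)) := by
  intro I
  induction I using WellFoundedGT.induction with
  | ind I ih =>
    by_cases htop : I = ⊤
    · subst htop
      simp [PrimeSpectrum.zeroLocus_univ]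
    by_cases hp : I.IsPrime
    · obtain ⟨f, hf, hproj⟩ := exists_projective_pieces ℳ R I
      by_cases hbad : ∃ v, Fitt.ideal A ↥(ℳ v) (h v) ≤ I
      · obtain ⟨v, hv⟩ := hbad
        rw [Set.inter_eq_right.mpr fun P hP => ?_]
        · exact PrimeSpectrum.isClosed_zeroLocus _
        · exact ⟨v, hv.trans hP⟩
      · have e : badSet ℳ h ∩ PrimeSpectrum.zeroLocus (I : Set A) =
            badSet ℳ h ∩ PrimeSpectrum.zeroLocus ((I ⊔ Ideal.span {f} : Ideal A) : Set A) := by
          ext P
          simp only [Set.mem_inter_iff, and_congr_right_iff, PrimeSpectrum.mem_zeroLocus, SetLike.coe_subset_coe,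
            sup_le_iff, Ideal.span_singleton_le_iff_mem]
          rintro ⟨v, hv⟩
          refine ⟨fun hIP => ⟨hIP, ?_⟩, fun h => h.1⟩
          by_contra hfP
          refine hbad ⟨v, ?_⟩
          have := hproj v
          have := hfg v
          set A'' := Localization.Away (Ideal.Quotient.mk I f)
          have hprime : (P.asIdeal.map (Ideal.Quotient.mk I)).IsPrime :=
            Ideal.map_isPrime_of_surjective Ideal.Quotient.mk_surjective (by rwa [Ideal.mk_ker])
          have hcomap : (P.asIdeal.map (Ideal.Quotient.mk I)).comap (Ideal.Quotient.mk I) = P.asIdeal :=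
            Ideal.comap_map_of_surjective _ Ideal.Quotient.mk_surjective _ |>.trans (by
              rw [← RingHom.ker_eq_comap_bot, Ideal.mk_ker, sup_eq_left]; exact hIP)
          have hdisj : Disjoint (Submonoid.powers (Ideal.Quotient.mk I f) : Set (A ⧸ I))
              ↑(P.asIdeal.map (Ideal.Quotient.mk I)) := by
            rw [Set.disjoint_left]
            rintro _ ⟨j, rfl⟩ hmem
            rw [SetLike.mem_coe] at hmem
            change Ideal.Quotient.mk I f ^ j ∈ _ at hmem
            rw [← map_pow, ← Ideal.mem_comap, hcomap] at hmem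
            exact hfP (P.isPrime.mem_of_pow_mem j hmem)
          set Q := (P.asIdeal.map (Ideal.Quotient.mk I)).map (algebraMap (A ⧸ I) A'')
          have hQ : Q.IsPrime := IsLocalization.isPrime_of_isPrime_disjoint (Submonoid.powers (Ideal.Quotient.mk I f))
            A'' _ hprime hdisj
          have : Nontrivial A'' := nontrivial_of_ne 1 0 fun e => hQ.ne_top ((Ideal.eq_top_iff_one _).mpr (by rw [e]; exact zero_mem _))
          have : IsDomain A'' := IsLocalization.isDomain_of_le_nonZeroDivisors (M := Submonoid.powers (Ideal.Quotient.mk I f)) A''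
            (powers_le_nonZeroDivisors_of_noZeroDivisors fun e => hfP (hIP (Ideal.Quotient.eq_zero_iff_mem.mp e)))
          have hcompI : Fitt.ideal A'' (A'' ⊗[A] ↥(ℳ v)) (h v) ≤ Q := by
            rw [Fit14.ideal_baseChange, Ideal.map_le_iff_le_comap, IsScalarTower.algebraMap_eq A (A ⧸ I) A'', ← Ideal.comap_comap]
            have e := IsLocalization.under_map_of_isPrime_disjoint (Submonoid.powers (Ideal.Quotient.mk I f)) A'' hprime hdisj
            rw [Ideal.under_def] at e
            simp only [Q, e, Ideal.Quotient.algebraMap_eq, hcomap]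
            exact hv
          have hgen : Fitt.ideal A'' (A'' ⊗[A] ↥(ℳ v)) (h v) ≤ ⊥ := by
            by_contra hne
            have h1 := (Fit14.not_le_iff_finrank_le (⊥ : Ideal A'') (h v)).mp hne
            refine (Fit14.not_le_iff_finrank_le Q (h v)).mpr ?_ hcompI
            have e := Module.rankAtStalk_eq_of_le_of_finite_of_flat' (A'' ⊗[A] ↥(ℳ v)) (bot_le : (⊥ : Ideal A'') ≤ Q)
            rw [Module.rankAtStalk_eq, Module.rankAtStalk_eq] at e
            exact le_of_eq_of_le e.symm h1
          rw [Fit14.ideal_baseChange, le_bot_iff, Ideal.map_eq_bot_iff_le_ker] at hgen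
          refine hgen.trans fun a ha => ?_
          rw [RingHom.mem_ker, IsScalarTower.algebraMap_apply A (A ⧸ I) A'',
            IsLocalization.map_eq_zero_iff (Submonoid.powers (Ideal.Quotient.mk I f))] at ha
          obtain ⟨⟨_, j, rfl⟩, hc⟩ := ha
          simp only [Ideal.Quotient.algebraMap_eq, ← map_pow, ← map_mul, Ideal.Quotient.eq_zero_iff_mem] at hc
          exact (hp.mem_or_mem hc).resolve_left fun hc' => hf (hp.mem_of_pow_mem j hc')
        rw [e]
        refine ih _ (lt_of_le_of_ne le_sup_left fun e' => hf ?_)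
        rw [e']
        exact Ideal.mem_sup_right (Ideal.mem_span_singleton_self f)
    · obtain ⟨x, hx, y, hy, hxy⟩ := (Ideal.not_isPrime_iff.mp hp).resolve_left htop
      have e : PrimeSpectrum.zeroLocus (I : Set A) = PrimeSpectrum.zeroLocus ((I ⊔ Ideal.span {x} : Ideal A) : Set A) ∪
          PrimeSpectrum.zeroLocus ((I ⊔ Ideal.span {y} : Ideal A) : Set A) := by
        ext P
        simp only [Set.mem_union, PrimeSpectrum.mem_zeroLocus, SetLike.coe_subset_coe, sup_le_iff,
          Ideal.span_singleton_le_iff_mem]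
        exact ⟨fun h => (P.isPrime.mem_or_mem (h hxy)).imp (fun hx => ⟨h, hx⟩) fun hy => ⟨h, hy⟩,
          fun h => h.elim (·.1) (·.1)⟩
      rw [e, Set.inter_union_distrib_left]
      refine (ih _ (lt_of_le_of_ne le_sup_left fun e' => hx ?_)).union (ih _ (lt_of_le_of_ne le_sup_left fun e' => hy ?_))
      · rw [e']; exact Ideal.mem_sup_right (Ideal.mem_span_singleton_self x)
      · rw [e']; exact Ideal.mem_sup_right (Ideal.mem_span_singleton_self y)

include hfg in
theorem exists_stratum (R : Type u) [CommRing R] [Algebra A R] [Algebra.FiniteType A R]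
    [Module R M] [IsScalarTower A R M] [Module.Finite R M] : ∃ a b : Ideal A, ∀ (B : Type u) [CommRing B] [Algebra A B],
      ((∀ v : ℤ, Module.Finite B (B ⊗[A] ↥(ℳ v)) ∧ Module.Projective B (B ⊗[A] ↥(ℳ v)) ∧
          ∀ p : PrimeSpectrum B, Module.rankAtStalk (B ⊗[A] ↥(ℳ v)) p = h v) ↔
        (Ideal.map (algebraMap A B) a = ⊥ ∧ Ideal.map (algebraMap A B) b = ⊤)) := by
  have hclosed : IsClosed (badSet ℳ h) := by
    have := isClosed_badSet_inter ℳ hfg h R ⊥
    simpa using this
  refine ⟨⨆ v : ℤ, ⨆ k : {k : ℕ // k < h v}, Fitt.ideal A ↥(ℳ v) k.1, PrimeSpectrum.vanishingIdeal (badSet ℳ h), ?_⟩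
  intro B _ _
  have hz : PrimeSpectrum.zeroLocus (PrimeSpectrum.vanishingIdeal (badSet ℳ h) : Set A) = badSet ℳ h := by
    rw [PrimeSpectrum.zeroLocus_vanishingIdeal_eq_closure, hclosed.closure_eq]
  have ha : ∀ {v : ℤ}, (∀ k, k < h v → (Fitt.ideal A ↥(ℳ v) k).map (algebraMap A B) = ⊥) ↔
      ∀ k : {k : ℕ // k < h v}, (Fitt.ideal A ↥(ℳ v) k.1).map (algebraMap A B) = ⊥ := fun {v} =>
    ⟨fun H k => H k.1 k.2, fun H k hk => H ⟨k, hk⟩⟩
  rw [Ideal.map_iSup, iSup_eq_bot]
  simp only [Ideal.map_iSup, iSup_eq_bot, ← ha]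
  have hb : Ideal.map (algebraMap A B) (PrimeSpectrum.vanishingIdeal (badSet ℳ h)) = ⊤ ↔
      ∀ v, (Fitt.ideal A ↥(ℳ v) (h v)).map (algebraMap A B) = ⊤ := by
    constructor
    · intro H v
      by_contra hne
      obtain ⟨Q, hQ, hle⟩ := Ideal.exists_le_maximal _ hne
      have : (⟨Q.comap (algebraMap A B), inferInstance⟩ : PrimeSpectrum A) ∈ badSet ℳ h := ⟨v, Ideal.map_le_iff_le_comap.mp hle⟩
      rw [← hz, PrimeSpectrum.mem_zeroLocus, SetLike.coe_subset_coe, ← Ideal.map_le_iff_le_comap, H, top_le_iff] at this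
      exact hQ.ne_top this
    · intro H
      by_contra hne
      obtain ⟨Q, hQ, hle⟩ := Ideal.exists_le_maximal _ hne
      have : (⟨Q.comap (algebraMap A B), inferInstance⟩ : PrimeSpectrum A) ∈
          PrimeSpectrum.zeroLocus (PrimeSpectrum.vanishingIdeal (badSet ℳ h) : Set A) :=
        (PrimeSpectrum.mem_zeroLocus _ _).mpr (SetLike.coe_subset_coe.mpr (Ideal.map_le_iff_le_comap.mp hle))
      rw [hz] at this
      obtain ⟨v, hv⟩ := this
      exact hQ.ne_top (top_le_iff.mp (H v ▸ Ideal.map_le_iff_le_comap.mpr hv))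
  rw [hb]
  constructor
  · intro H
    refine ⟨fun v k hk => ?_, fun v => ?_⟩ <;>
    · have := hfg v
      obtain ⟨-, hproj, hr⟩ := H v
      obtain ⟨h1, h2⟩ := fitting_of_projective hr
      rw [← Fit14.ideal_baseChange]
      first | exact h1 k hk | exact h2 _ le_rfl
  · rintro ⟨H1, H2⟩ v
    have := hfg v
    refine ⟨inferInstance, projective_of_fitting (fun k hk => ?_) fun k hk => ?_⟩
    · rw [Fit14.ideal_baseChange]; exact H1 v k hk
    · rw [Fit14.ideal_baseChange, eq_top_iff, ← H2 v]
      exact Ideal.map_mono (Fit14.ideal_mono hk)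

end Groth.Agent.Hilb37.Stratum
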