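import Groth.Prelude.Def_W4c1hilbpnTgt
import Mathlib.RingTheory.MvPolynomial.Ideal
import Mathlib.Data.Finsupp.PWO
import Mathlib.LinearAlgebra.Pi
import Mathlib.LinearAlgebra.Dimension.Finrank

/-! Exponents of monomial ideals as integer points. -/

set_option autoImplicit false

namespace Groth.Agent.Hilb37

open MvPolynomial W4c1hilbpn

variable {σ : Type*} [Finite σ] {k : Type*} [Field k]

/-- Nonnegative integer points. -/
def NN (γ : σ → ℤ) : Prop := ∀ i, 0 ≤ γ i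

/-- The natural exponent of an integer point. -/
noncomputable def toN (γ : σ → ℤ) : σ →₀ ℕ := Finsupp.equivFunOnFinite.symm fun i => (γ i).toNat

@[simp] theorem toN_apply (γ : σ → ℤ) (i : σ) : toN γ i = (γ i).toNat := rfl

/-- The integer point of a natural exponent. -/
def toZ (β : σ →₀ ℕ) : σ → ℤ := fun i => (β i : ℤ)

@[simp] theorem toZ_apply (β : σ →₀ ℕ) (i : σ) : toZ β i = (β i : ℤ) := rfl

theorem nn_toZ (β : σ →₀ ℕ) : NN (toZ β) := fun i => Int.natCast_nonneg _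

@[simp] theorem toN_toZ (β : σ →₀ ℕ) : toN (toZ β) = β := Finsupp.ext fun i => by simp

theorem toZ_toN {γ : σ → ℤ} (h : NN γ) : toZ (toN γ) = γ := funext fun i => by
  simp only [toZ_apply, toN_apply]; exact Int.toNat_of_nonneg (h i)

theorem toN_mono {γ γ' : σ → ℤ} (h : γ ≤ γ') : toN γ ≤ toN γ' := fun i => Int.toNat_le_toNat (h i)

theorem toN_add {γ δ : σ → ℤ} (h : NN γ) (h' : NN δ) : toN (γ + δ) = toN γ + toN δ :=
  Finsupp.ext fun i => by
    simp only [toN_apply, Pi.add_apply, Finsupp.add_apply]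
    exact Int.toNat_add (h i) (h' i)

variable (I : Ideal (MvPolynomial σ k))

/-- The exponents of `I` as integer points. -/
def expZ : Set (σ → ℤ) := {γ | NN γ ∧ toN γ ∈ exps I}

/-- The standard monomials of `I` as integer points. -/
def stand : Set (σ → ℤ) := {γ | NN γ ∧ toN γ ∉ exps I}

variable {I}

theorem exps_mono {β β' : σ →₀ ℕ} (h : β ∈ exps I) (hle : β ≤ β') : β' ∈ exps I := by
  obtain ⟨δ, rfl⟩ := exists_add_of_le hle
  show monomial (β + δ) (1 : k) ∈ I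
  rw [show monomial (β + δ) (1 : k) = monomial δ 1 * monomial β 1 by rw [monomial_mul, one_mul, add_comm]]
  exact Ideal.mul_mem_left _ _ h

theorem toZ_mem_expZ {β : σ →₀ ℕ} : toZ β ∈ expZ I ↔ β ∈ exps I :=
  ⟨fun h => by simpa using h.2, fun h => ⟨nn_toZ β, by simpa using h⟩⟩

theorem toZ_mem_stand {β : σ →₀ ℕ} : toZ β ∈ stand I ↔ β ∉ exps I :=
  ⟨fun h => by simpa using h.2, fun h => ⟨nn_toZ β, by simpa using h⟩⟩

theorem expZ_mono {γ γ' : σ → ℤ} (h : γ ∈ expZ I) (hle : γ ≤ γ') : γ' ∈ expZ I :=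
  ⟨fun i => (h.1 i).trans (hle i), exps_mono h.2 (toN_mono hle)⟩

theorem stand_mono {γ γ' : σ → ℤ} (h : γ' ∈ stand I) (hle : γ ≤ γ') (hn : NN γ) : γ ∈ stand I :=
  ⟨hn, fun h' => h.2 (exps_mono h' (toN_mono hle))⟩

theorem not_expZ_of_stand {γ : σ → ℤ} (h : γ ∈ stand I) : γ ∉ expZ I := fun h' => h.2 h'.2

theorem stand_or_expZ {γ : σ → ℤ} (h : NN γ) : γ ∈ stand I ∨ γ ∈ expZ I := by
  by_cases h' : toN γ ∈ exps I
  · exact Or.inr ⟨h, h'⟩
  · exact Or.inl ⟨h, h'⟩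

variable (I)

/-- `I` has finitely many minimal exponents. -/
theorem exists_finite_generators : ∃ G : Finset (σ →₀ ℕ), (∀ g ∈ G, g ∈ exps I) ∧
    ∀ β ∈ exps I, ∃ g ∈ G, g ≤ β := by
  classical
  have hfin : {β | Minimal (· ∈ exps I) β}.Finite :=
    WellQuasiOrderedLE.finite_of_isAntichain (setOfPred_minimal_antichain _)
  refine ⟨hfin.toFinset, fun g hg => (hfin.mem_toFinset.mp hg).prop, fun β hβ => ?_⟩
  obtain ⟨g, hg, hle⟩ : ∃ g, g ≤ β ∧ Minimal (· ∈ exps I) g := exists_minimal_le_of_wellFoundedLT _ β hβ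
  exact ⟨g, hfin.mem_toFinset.mpr hle, hg⟩

end Groth.Agent.Hilb37
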