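import Groth.Agent.Hilb37.InitBasis
import Groth.Agent.Hilb37.FilteredRank
import Groth.Agent.Hilb37.Points
import Mathlib.LinearAlgebra.StdBasis
import Mathlib.Data.Finsupp.PWO
import Mathlib.RingTheory.Polynomial.Basic

/-! `dim Hom(I, S/I)` does not exceed the one of the initial ideal. -/

set_option autoImplicit false

namespace Groth.Agent.Hilb37

open MvPolynomial W4c1hilbpn
open scoped MonomialOrder

variable {σ : Type*} [Finite σ] {k : Type*} [Field k] (m : MonomialOrder σ) (I : Ideal (MvPolynomial σ k))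

theorem exists_step (G : Finset (σ →₀ ℕ)) (f : G → MvPolynomial σ k)
    (hG : ∀ β ∈ initExps m I, ∃ g ∈ G, g ≤ β) (hf : ∀ g, f g ∈ I) (h1 : ∀ g : G, coeff g.1 (f g) = 1)
    (hle : ∀ g : G, ∀ c ∈ (f g).support, c ≼[m] g.1) {p : MvPolynomial σ k} (hp : p ∈ I) (hp0 : p ≠ 0) :
    ∃ (g : G) (u : MvPolynomial σ k), p - u * f g ∈ I ∧ (∀ c ∈ (p - u * f g).support, c ≺[m] m.degree p) ∧
      ∀ c ∈ u.support, (c + g.1) ≼[m] m.degree p := by
  classical
  set β := m.degree p
  obtain ⟨g, hg, hgle⟩ := hG β ⟨p, hp, hp0, rfl⟩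
  set u : MvPolynomial σ k := monomial (β - g) (coeff β p) with hu
  set q := p - u * f ⟨g, hg⟩ with hq
  have hq1 : q ∈ I := sub_mem hp (Ideal.mul_mem_left _ _ (hf _))
  have hq2 : ∀ c ∈ q.support, c ≺[m] β := fun c hc => by
    refine lt_of_le_of_ne ?_ fun e => ?_
    · rcases Finset.mem_union.mp (support_sub σ _ _ hc) with h | h
      · exact m.le_degree h
      · obtain ⟨a, ha, a', ha', rfl⟩ := Finset.mem_add.mp (support_mul _ _ h)
        obtain rfl := Finset.mem_singleton.mp (support_monomial_subset ha)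
        calc m.toSyn (β - g + a') = m.toSyn (β - g) + m.toSyn a' := map_add _ _ _
          _ ≤ m.toSyn (β - g) + m.toSyn g := add_le_add_right (hle ⟨g, hg⟩ a' ha') _
          _ = m.toSyn β := by rw [← map_add, tsub_add_cancel_of_le hgle]
    · obtain rfl := m.toSyn.injective e
      rw [mem_support_iff] at hc
      refine hc ?_
      have := coeff_monomial_mul g (β - g) (coeff β p) (f ⟨g, hg⟩)
      rw [tsub_add_cancel_of_le hgle, show coeff g (f ⟨g, hg⟩) = 1 from h1 ⟨g, hg⟩, mul_one] at this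
      rw [hq, coeff_sub, hu, this, sub_self]
  refine ⟨⟨g, hg⟩, u, hq1, hq2, fun c hc => ?_⟩
  obtain rfl := Finset.mem_singleton.mp (support_monomial_subset hc)
  exact le_of_eq (congrArg m.toSyn (tsub_add_cancel_of_le hgle))

theorem exists_rep (G : Finset (σ →₀ ℕ)) (f : G → MvPolynomial σ k)
    (hG : ∀ β ∈ initExps m I, ∃ g ∈ G, g ≤ β) (hf : ∀ g, f g ∈ I) (h1 : ∀ g : G, coeff g.1 (f g) = 1)
    (hle : ∀ g : G, ∀ c ∈ (f g).support, c ≼[m] g.1) (b : σ →₀ ℕ) :
    ∀ p ∈ I, (∀ c ∈ p.support, c ≺[m] b) →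
      ∃ h : G → MvPolynomial σ k, p = ∑ g, h g * f g ∧ ∀ g : G, ∀ c ∈ (h g).support, (c + g.1) ≺[m] b := by
  classical
  induction e : m.toSyn b using WellFoundedLT.induction generalizing b with
  | ind x ih =>
    subst e
    intro p hp hlt
    by_cases hp0 : p = 0
    · exact ⟨0, by simp [hp0], fun g c hc => by simp at hc⟩
    obtain ⟨g, u, hq1, hq2, hu⟩ := exists_step m I G f hG hf h1 hle hp hp0
    have hβ : m.degree p ≺[m] b := hlt _ (m.degree_mem_support hp0)
    obtain ⟨h, he, hh⟩ := ih _ hβ _ rfl _ hq1 hq2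
    refine ⟨h + Pi.single g u, ?_, fun g' c hc => ?_⟩
    · simp only [Pi.add_apply, add_mul, Finset.sum_add_distrib, ← he]
      rw [Finset.sum_eq_single g (fun y _ hy => by rw [Pi.single_eq_of_ne hy, zero_mul])
        (fun h => absurd (Finset.mem_univ _) h), Pi.single_eq_same, sub_add_cancel]
    · rcases Finset.mem_union.mp (support_add hc) with h' | h'
      · exact (hh g' c h').trans hβ
      · by_cases e : g' = g
        · subst e
          rw [Pi.single_eq_same] at h'
          exact (hu c h').trans_lt hβ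
        · rw [Pi.single_eq_of_ne e] at h'
          simp at h'

theorem exists_rep' (G : Finset (σ →₀ ℕ)) (f : G → MvPolynomial σ k)
    (hG : ∀ β ∈ initExps m I, ∃ g ∈ G, g ≤ β) (hf : ∀ g, f g ∈ I) (h1 : ∀ g : G, coeff g.1 (f g) = 1)
    (hle : ∀ g : G, ∀ c ∈ (f g).support, c ≼[m] g.1) {p : MvPolynomial σ k} (hp : p ∈ I) :
    ∃ h : G → MvPolynomial σ k, p = ∑ g, h g * f g := by
  classical
  by_cases hp0 : p = 0
  · exact ⟨0, by simp [hp0]⟩
  obtain ⟨g, u, hq1, hq2, -⟩ := exists_step m I G f hG hf h1 hle hp hp0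
  obtain ⟨h, he, -⟩ := exists_rep m I G f hG hf h1 hle _ _ hq1 hq2
  refine ⟨h + Pi.single g u, ?_⟩
  simp only [Pi.add_apply, add_mul, Finset.sum_add_distrib, ← he]
  rw [Finset.sum_eq_single g (fun y _ hy => by rw [Pi.single_eq_of_ne hy, zero_mul])
    (fun h => absurd (Finset.mem_univ _) h), Pi.single_eq_same, sub_add_cancel]

variable {I} in
/-- Evaluation of a combination of the generators. -/
noncomputable def pairMap (G : Finset (σ →₀ ℕ)) (H : G × G → G → MvPolynomial σ k) :
    (G → MvPolynomial σ k ⧸ I) →ₗ[k] (G × G → MvPolynomial σ k ⧸ I) :=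
  LinearMap.pi fun p => ∑ g, (LinearMap.mulLeft k (Ideal.Quotient.mk I (H p g))).comp (LinearMap.proj g)

theorem pairMap_apply (G : Finset (σ →₀ ℕ)) (H : G × G → G → MvPolynomial σ k) (a : G → MvPolynomial σ k ⧸ I)
    (p : G × G) : pairMap G H a p = ∑ g, Ideal.Quotient.mk I (H p g) * a g := by
  simp [pairMap]

theorem pairMap_single [DecidableEq σ] (G : Finset (σ →₀ ℕ)) (H : G × G → G → MvPolynomial σ k) (g : G)
    (β : σ →₀ ℕ) (p : G × G) :
    pairMap G H (Pi.single g (Ideal.Quotient.mk I (monomial β 1))) p = Ideal.Quotient.mk I (H p g * monomial β 1) := by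
  classical
  rw [pairMap_apply, Finset.sum_eq_single g (fun y _ hy => by rw [Pi.single_eq_of_ne hy, mul_zero])
    (fun h => absurd (Finset.mem_univ _) h), Pi.single_eq_same, map_mul]

/-- The Koszul relations of the monomials in `G`. -/
noncomputable def koszul (G : Finset (σ →₀ ℕ)) (p : G × G) (g : G) : MvPolynomial σ k :=
  open Classical in
  (if g = p.1 then monomial ((p.1.1 ⊔ p.2.1) - p.1.1) 1 else 0) -
    (if g = p.2 then monomial ((p.1.1 ⊔ p.2.1) - p.2.1) 1 else 0)

theorem sum_koszul_mul {R : Type*} [CommRing R] (G : Finset (σ →₀ ℕ)) (p : G × G) (φ : MvPolynomial σ k →+* R)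
    (a : G → R) :
    ∑ g, φ (koszul G p g) * a g =
      φ (monomial ((p.1.1 ⊔ p.2.1) - p.1.1) 1) * a p.1 - φ (monomial ((p.1.1 ⊔ p.2.1) - p.2.1) 1) * a p.2 := by
  classical
  simp only [koszul, map_sub, sub_mul, Finset.sum_sub_distrib]
  congr 1 <;>
  · rw [Finset.sum_eq_single_of_mem _ (Finset.mem_univ _) (fun y _ hy => by rw [if_neg hy, map_zero, zero_mul]), if_pos rfl]

variable [Module.Finite k (MvPolynomial σ k ⧸ I)]

theorem finite_St : Finite (St m I) :=
  Module.Finite.finite_basis (stdBasis m I)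

/-- The standard exponents of `I` and of its initial ideal. -/
noncomputable def stEquiv : St m (initI m I) ≃ St m I :=
  Equiv.subtypeEquivRight fun _ => by rw [initExps_initI]

theorem finite_quot_initI : Module.Finite k (MvPolynomial σ k ⧸ initI m I) :=
  have := finite_St m I
  Module.Finite.of_basis ((stdBasis m (initI m I)).reindex (stEquiv m I))

theorem finrank_quot_initI :
    Module.finrank k (MvPolynomial σ k ⧸ initI m I) = Module.finrank k (MvPolynomial σ k ⧸ I) := by
  rw [Module.finrank_eq_nat_card_basis (stdBasis m I),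
    Module.finrank_eq_nat_card_basis ((stdBasis m (initI m I)).reindex (stEquiv m I))]

theorem finite_tgt : Module.Finite k (Tgt I) := by
  obtain ⟨s, hs⟩ := (inferInstance : IsNoetherianRing (MvPolynomial σ k)).noetherian I
  classical
  let L : Tgt I →ₗ[k] (s → MvPolynomial σ k ⧸ I) :=
    { toFun := fun φ g => φ ⟨g.1, hs ▸ Submodule.subset_span g.2⟩
      map_add' := fun _ _ => rfl
      map_smul' := fun _ _ => rfl }
  refine Module.Finite.of_injective L fun φ ψ h => ?_
  refine LinearMap.ext_on (s := (Subtype.val ⁻¹' (s : Set (MvPolynomial σ k)))) ?_ ?_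
  · refine Submodule.map_injective_of_injective (f := I.subtype) Subtype.val_injective ?_
    rw [Submodule.map_span, Submodule.map_top, Submodule.range_subtype]
    conv_rhs => rw [← hs]
    congr 1
    ext x
    exact ⟨by rintro ⟨y, hy, rfl⟩; exact hy, fun hx => ⟨⟨x, hs ▸ Submodule.subset_span hx⟩, hx, rfl⟩⟩
  · exact fun x hx => congrFun h ⟨x.1, hx⟩

theorem finrank_ker_pairMap_le_initI (G : Finset (σ →₀ ℕ)) (hGle : ∀ β ∈ initExps m I, ∃ g ∈ G, g ≤ β)
    (hGmem : ∀ g ∈ G, g ∈ initExps m I) :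
    Module.finrank k (LinearMap.ker (pairMap (I := initI m I) G (koszul G))) ≤
      Module.finrank k (Tgt (initI m I)) := by
  classical
  have := finite_quot_initI m I
  haveI := finite_tgt (initI m I)
  set J := initI m I
  set K := LinearMap.ker (pairMap (I := J) G (koszul G))
  have hmem : ∀ {g : σ →₀ ℕ}, g ∈ G → monomial g (1 : k) ∈ J := fun hg =>
    (exps_initI m I).symm.subset (hGmem _ hg)
  let L : Tgt J →ₗ[k] (G → MvPolynomial σ k ⧸ J) :=
    { toFun := fun φ g => φ ⟨monomial g.1 1, hmem g.2⟩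
      map_add' := fun _ _ => rfl
      map_smul' := fun _ _ => rfl }
  suffices h : K ≤ LinearMap.range L from (Submodule.finrank_mono h).trans L.finrank_range_le
  intro a ha
  have hrel : ∀ i j : G, Ideal.Quotient.mk J (monomial ((i.1 ⊔ j.1) - i.1) 1) * a i =
      Ideal.Quotient.mk J (monomial ((i.1 ⊔ j.1) - j.1) 1) * a j := fun i j => by
    have := congrFun (LinearMap.mem_ker.mp ha) (i, j)
    rwa [pairMap_apply, sum_koszul_mul, Pi.zero_apply, sub_eq_zero] at this
  have hwd : ∀ (i j : G) (β : σ →₀ ℕ), i.1 ≤ β → j.1 ≤ β →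
      Ideal.Quotient.mk J (monomial (β - i.1) 1) * a i = Ideal.Quotient.mk J (monomial (β - j.1) 1) * a j := by
    intro i j β hi hj
    have hl : i.1 ⊔ j.1 ≤ β := sup_le hi hj
    rw [show β - i.1 = (β - (i.1 ⊔ j.1)) + ((i.1 ⊔ j.1) - i.1) from (tsub_add_tsub_cancel hl le_sup_left).symm,
      show β - j.1 = (β - (i.1 ⊔ j.1)) + ((i.1 ⊔ j.1) - j.1) from (tsub_add_tsub_cancel hl le_sup_right).symm,
      show monomial ((β - (i.1 ⊔ j.1)) + ((i.1 ⊔ j.1) - i.1)) (1 : k) =
        monomial (β - (i.1 ⊔ j.1)) 1 * monomial ((i.1 ⊔ j.1) - i.1) 1 by rw [monomial_mul, one_mul],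
      show monomial ((β - (i.1 ⊔ j.1)) + ((i.1 ⊔ j.1) - j.1)) (1 : k) =
        monomial (β - (i.1 ⊔ j.1)) 1 * monomial ((i.1 ⊔ j.1) - j.1) 1 by rw [monomial_mul, one_mul],
      map_mul, map_mul, mul_assoc, mul_assoc, hrel i j]
  let ψ : MvPolynomial σ k →ₗ[k] MvPolynomial σ k ⧸ J :=
    (basisMonomials σ k).constr k fun β => if h : ∃ g : G, g.1 ≤ β then
      Ideal.Quotient.mk J (monomial (β - h.choose.1) 1) * a h.choose else 0
  have hψ : ∀ (β : σ →₀ ℕ) (g : G), g.1 ≤ β →
      ψ (monomial β 1) = Ideal.Quotient.mk J (monomial (β - g.1) 1) * a g := fun β g hg => by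
    have h : ∃ g : G, g.1 ≤ β := ⟨g, hg⟩
    show ψ (basisMonomials σ k β) = _
    rw [Module.Basis.constr_basis, dif_pos h]
    exact hwd _ _ _ h.choose_spec hg
  have hsmul : ∀ (s p : MvPolynomial σ k), p ∈ J → ψ (s * p) = Ideal.Quotient.mk J s * ψ p := by
    intro s p hp
    rw [as_sum s, as_sum p]
    simp only [Finset.sum_mul, Finset.mul_sum, map_sum]
    refine Finset.sum_congr rfl fun x hx => Finset.sum_congr rfl fun y _ => ?_
    obtain ⟨g, hg, hgle⟩ := hGle x ((mem_initI m I).mp hp x hx)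
    rw [monomial_mul, show monomial (y + x) (coeff y s * coeff x p) =
      (coeff y s * coeff x p) • monomial (y + x) (1 : k) by rw [smul_monomial, smul_eq_mul, mul_one],
      show monomial x (coeff x p) = coeff x p • monomial x (1 : k) by rw [smul_monomial, smul_eq_mul, mul_one],
      show monomial y (coeff y s) = coeff y s • monomial y (1 : k) by rw [smul_monomial, smul_eq_mul, mul_one],
      ← Ideal.Quotient.mkₐ_eq_mk k, map_smul, map_smul, map_smul,
      hψ _ ⟨g, hg⟩ hgle, hψ _ ⟨g, hg⟩ (hgle.trans le_add_self), smul_mul_smul_comm, add_tsub_assoc_of_le hgle,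
      Ideal.Quotient.mkₐ_eq_mk, ← mul_assoc, ← map_mul, monomial_mul, one_mul]
  refine ⟨{ toFun := fun x => ψ x.1, map_add' := fun x y => map_add ψ _ _,
            map_smul' := fun s x => ?_ }, ?_⟩
  · show ψ (s * x.1) = s • ψ x.1
    rw [hsmul s x.1 x.2]
    obtain ⟨y, hy⟩ := Ideal.Quotient.mk_surjective (ψ x.1)
    rw [← hy]
    rfl
  · funext g
    show ψ (monomial g.1 1) = a g
    rw [hψ _ g le_rfl, tsub_self, show monomial (0 : σ →₀ ℕ) (1 : k) = 1 from rfl, map_one, one_mul]

/-- **Semicontinuity**: `dim Hom(I, S/I) ≤ dim Hom(J, S/J)` for the initial ideal `J`. -/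
theorem finrank_tgt_le_initI :
    Module.finrank k (Tgt I) ≤ Module.finrank k (Tgt (initI m I)) := by
  classical
  have := finite_quot_initI m I
  have := finite_St m I
  have := finite_St m (initI m I)
  obtain ⟨G, hG1, hG2⟩ := exists_finite_generators (initI m I)
  rw [exps_initI] at hG1 hG2
  choose f hf h1 hle using fun g : G => exists_monic m I (hG1 g.1 g.2)
  have hlt : ∀ p : G × G, ∃ h : G → MvPolynomial σ k,
      ∑ g, koszul G p g * f g = ∑ g, h g * f g ∧
        ∀ g : G, ∀ c ∈ (h g).support, (c + g.1) ≺[m] (p.1.1 ⊔ p.2.1) := by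
    intro p
    refine exists_rep m I G f hG2 hf h1 hle _ _ (sum_mem fun g _ => Ideal.mul_mem_left _ _ (hf g)) fun c hc => ?_
    rw [show ∑ g, koszul G p g * f g =
      monomial ((p.1.1 ⊔ p.2.1) - p.1.1) 1 * f p.1 - monomial ((p.1.1 ⊔ p.2.1) - p.2.1) 1 * f p.2
      from sum_koszul_mul G p (RingHom.id _) f] at hc
    refine lt_of_le_of_ne ?_ fun e => ?_
    · rcases Finset.mem_union.mp (support_sub σ _ _ hc) with h | h <;>
      · obtain ⟨a, ha, a', ha', rfl⟩ := Finset.mem_add.mp (support_mul _ _ h)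
        obtain rfl := Finset.mem_singleton.mp (support_monomial_subset ha)
        refine le_trans ((map_add m.toSyn _ _).le.trans (add_le_add_right (hle _ a' ha') _)) ?_
        rw [← map_add, tsub_add_cancel_of_le (by first | exact le_sup_left | exact le_sup_right)]
    · obtain rfl := m.toSyn.injective e
      rw [mem_support_iff] at hc
      refine hc ?_
      have e1 := coeff_monomial_mul p.1.1 ((p.1.1 ⊔ p.2.1) - p.1.1) (1 : k) (f p.1)
      have e2 := coeff_monomial_mul p.2.1 ((p.1.1 ⊔ p.2.1) - p.2.1) (1 : k) (f p.2)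
      rw [tsub_add_cancel_of_le le_sup_left, h1, mul_one] at e1
      rw [tsub_add_cancel_of_le le_sup_right, h1, mul_one] at e2
      rw [coeff_sub, e1, e2, sub_self]
  choose h hsum hh using hlt
  set H : G × G → G → MvPolynomial σ k := fun p g => koszul G p g - h p g
  let L : Tgt I →ₗ[k] (G → MvPolynomial σ k ⧸ I) :=
    { toFun := fun φ g => φ ⟨f g, hf g⟩
      map_add' := fun _ _ => rfl
      map_smul' := fun _ _ => rfl }
  have hmap : ∀ (φ : Tgt I) (c : G → MvPolynomial σ k),
      ∑ g, Ideal.Quotient.mk I (c g) * L φ g = φ (∑ g, c g • (⟨f g, hf g⟩ : I)) := fun φ c => by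
    rw [map_sum]
    refine Finset.sum_congr rfl fun g _ => ?_
    rw [map_smul]
    show Ideal.Quotient.mk I (c g) * φ ⟨f g, hf g⟩ = c g • φ ⟨f g, hf g⟩
    obtain ⟨y, hy⟩ := Ideal.Quotient.mk_surjective (φ ⟨f g, hf g⟩)
    rw [← hy]
    rfl
  have hinj : Function.Injective L := fun φ ψ e => LinearMap.ext fun x => by
    obtain ⟨c, hc⟩ := exists_rep' m I G f hG2 hf h1 hle x.2
    have ex : x = ∑ g, c g • (⟨f g, hf g⟩ : I) := Subtype.ext (by
      rw [AddSubmonoidClass.coe_finset_sum]
      exact hc)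
    rw [ex, ← hmap, ← hmap, e]
  have hker : LinearMap.range L ≤ LinearMap.ker (pairMap G H) := by
    rintro _ ⟨φ, rfl⟩
    refine LinearMap.mem_ker.mpr (funext fun p => ?_)
    rw [pairMap_apply, hmap, Pi.zero_apply]
    convert map_zero φ
    refine Subtype.ext ?_
    rw [AddSubmonoidClass.coe_finset_sum]
    show ∑ g, (koszul G p g - h p g) * f g = 0
    simp only [sub_mul, Finset.sum_sub_distrib, hsum p, sub_self]
  refine le_trans ?_ (finrank_ker_pairMap_le_initI m I G hG2 hG1)
  rw [← LinearMap.finrank_range_of_inj hinj]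
  refine (Submodule.finrank_mono hker).trans ?_
  haveI := Fintype.ofFinite (St m I)
  set G2 : σ →₀ ℕ := G.sup id with hG2def
  have hle2 : ∀ g : G, g.1 ≤ G2 := fun g => Finset.le_sup (f := id) g.2
  let bI := stdBasis m I
  let bJ := (stdBasis m (initI m I)).reindex (stEquiv m I)
  have hbJ : ∀ β : St m I, bJ β = Ideal.Quotient.mk (initI m I) (monomial β.1 1) := fun β => by
    simp only [bJ, Module.Basis.reindex_apply, stdBasis_apply]
    rfl
  have hbJr : ∀ (x : MvPolynomial σ k ⧸ initI m I) (δ : St m I),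
      bJ.repr x δ = (stdBasis m (initI m I)).repr x ((stEquiv m I).symm δ) := fun x δ => by
    simp [bJ]
  refine finrank_ker_le_leading (Pi.basis fun _ : G => bI) (Pi.basis fun _ : G × G => bI)
    (Pi.basis fun _ : G => bJ) (Pi.basis fun _ : G × G => bJ)
    (fun x => m.toSyn (x.2.1 + (G2 - x.1.1))) (fun y => m.toSyn (y.2.1 + (G2 - (y.1.1.1 ⊔ y.1.2.1))))
    (pairMap G H) (pairMap G (koszul G)) ?_ ?_ ?_
  all_goals rintro ⟨g, β⟩ ⟨p, δ⟩ hw
  all_goals
    simp only [Pi.basis_apply, Pi.basis_repr, hbJr, bI, hbJ, stdBasis_apply, pairMap_single]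
  all_goals
    have hp : p.1.1 ⊔ p.2.1 ≤ G2 := sup_le (hle2 _) (hle2 _)
    have key : m.toSyn (δ.1 + g.1) + m.toSyn (β.1 + (G2 - g.1)) =
        m.toSyn (β.1 + (p.1.1 ⊔ p.2.1)) + m.toSyn (δ.1 + (G2 - (p.1.1 ⊔ p.2.1))) := by
      rw [← map_add, ← map_add]
      congr 1
      ext i
      have := hle2 g i
      have := hp i
      simp only [Finsupp.add_apply, Finsupp.tsub_apply]
      omega
  · have hb : (β.1 + (p.1.1 ⊔ p.2.1)) ≺[m] (δ.1 + g.1) := by
      by_contra hn
      exact absurd key (ne_of_lt (add_lt_add_of_le_of_lt (not_lt.mp hn) hw))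
    refine repr_monomial_mul_of_lt m I fun c hc => ?_
    refine lt_of_add_lt_add_right (a := m.toSyn g.1) ?_
    rw [← map_add, ← map_add]
    refine lt_of_le_of_lt ?_ hb
    rcases Finset.mem_union.mp (support_sub σ _ _ hc) with h' | h'
    · refine le_of_eq (congrArg m.toSyn ?_)
      unfold koszul at h'
      rcases Finset.mem_union.mp (support_sub σ _ _ h') with h'' | h'' <;>
      · split_ifs at h'' with hg
        · obtain rfl := Finset.mem_singleton.mp (support_monomial_subset h'')
          subst hg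
          rw [add_right_comm, tsub_add_cancel_of_le (by first | exact le_sup_left | exact le_sup_right), add_comm]
        · simp at h''
    · rw [add_right_comm, map_add, map_add]
      rw [map_add m.toSyn β.1, add_comm (m.toSyn β.1)]
      rw [← map_add m.toSyn c]
      exact add_le_add_left (hh p g c h').le _
  · have hne : δ.1 + g.1 ≠ β.1 + (p.1.1 ⊔ p.2.1) := fun e => by
      rw [e] at key
      exact hw (add_left_cancel key).symm
    simp only [koszul, sub_mul, map_sub, Finsupp.coe_sub, Pi.sub_apply]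
    split_ifs with hg hg'
    all_goals
      simp only [zero_mul, map_zero, Finsupp.coe_zero, Pi.zero_apply, monomial_mul, one_mul, sub_zero, zero_sub, neg_eq_zero]
    all_goals try rw [repr_monomial_of_monomial m _ (isMonomial_initI m I), repr_monomial_of_monomial m _ (isMonomial_initI m I), sub_self]
    all_goals try rw [repr_monomial_of_monomial m _ (isMonomial_initI m I)]
    all_goals
      intro e
      apply hne
      subst_vars
      change _ = δ.1 at e
      rw [← e, add_right_comm]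
      try simp only [hg']
      rw [tsub_add_cancel_of_le (by first | exact le_sup_left | exact le_sup_right), add_comm]
  · have he : δ.1 + g.1 = β.1 + (p.1.1 ⊔ p.2.1) := by
      rw [hw, add_comm (m.toSyn (β.1 + (p.1.1 ⊔ p.2.1)))] at key
      exact m.toSyn.injective (add_left_cancel ((add_comm _ _).trans key))
    have hh0 : (stdBasis m I).repr (Ideal.Quotient.mk I (h p g * monomial β.1 1)) δ = 0 := by
      refine repr_monomial_mul_of_lt m I fun c hc => ?_
      refine lt_of_add_lt_add_right (a := m.toSyn g.1) ?_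
      rw [← map_add, ← map_add, he, add_right_comm, map_add, map_add, map_add m.toSyn β.1, add_comm (m.toSyn β.1)]
      rw [← map_add m.toSyn c]
      exact add_lt_add_left (hh p g c hc) _
    simp only [H, koszul, sub_mul, map_sub, Finsupp.coe_sub, Pi.sub_apply, hh0, sub_zero]
    split_ifs with hg hg'
    all_goals simp only [zero_mul, map_zero, Finsupp.coe_zero, Pi.zero_apply, monomial_mul, one_mul]
    all_goals
      have hq : ∀ e : σ →₀ ℕ, e = δ.1 → (stdBasis m I).repr (Ideal.Quotient.mk I (monomial e 1)) δ =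
          (stdBasis m (initI m I)).repr (Ideal.Quotient.mk _ (monomial e 1)) ((stEquiv m I).symm δ) := by
        rintro e rfl
        rw [repr_monomial_self, show δ.1 = ((stEquiv m I).symm δ).1 from rfl, repr_monomial_self]
    all_goals first | rw [hq, hq] | rw [hq] | rfl
    all_goals
      refine add_right_cancel (b := g.1) ?_
      subst_vars
      rw [he, add_right_comm]
      try simp only [hg']
      rw [tsub_add_cancel_of_le (by first | exact le_sup_left | exact le_sup_right), add_comm]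

end Groth.Agent.Hilb37
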