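import Groth.Prelude.Def_W4c1hilbpnTgt
import Groth.Agent.Hilb37.Points
import Mathlib.RingTheory.MvPolynomial.MonomialOrder
import Mathlib.RingTheory.MvPolynomial.Ideal
import Mathlib.LinearAlgebra.Basis.Defs
import Mathlib.LinearAlgebra.LinearIndependent.Lemmas
import Mathlib.Tactic.LinearCombination

/-! Leading exponents of an ideal and the basis of standard monomials of its quotient. -/

set_option autoImplicit false

namespace Groth.Agent.Hilb37

open MvPolynomial W4c1hilbpn
open scoped MonomialOrder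

variable {σ : Type*} {k : Type*} [Field k] (m : MonomialOrder σ) (I : Ideal (MvPolynomial σ k))

/-- The leading exponents of `I`. -/
def initExps : Set (σ →₀ ℕ) := {β | ∃ f ∈ I, f ≠ 0 ∧ m.degree f = β}

theorem initExps_mono {β β' : σ →₀ ℕ} (h : β ∈ initExps m I) (hle : β ≤ β') : β' ∈ initExps m I := by
  obtain ⟨δ, rfl⟩ := exists_add_of_le hle
  obtain ⟨f, hf, hne, rfl⟩ := h
  have h1 : monomial δ (1 : k) ≠ 0 := by simp
  refine ⟨monomial δ 1 * f, Ideal.mul_mem_left _ _ hf, mul_ne_zero h1 hne, ?_⟩
  classical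
  rw [m.degree_mul h1 hne, m.degree_monomial, if_neg one_ne_zero, add_comm]

theorem exists_monic {β : σ →₀ ℕ} (h : β ∈ initExps m I) :
    ∃ f ∈ I, coeff β f = 1 ∧ ∀ c ∈ f.support, c ≼[m] β := by
  obtain ⟨f, hf, hne, rfl⟩ := h
  have hc : coeff (m.degree f) f ≠ 0 := m.coeff_degree_ne_zero_iff.mpr hne
  refine ⟨C (coeff (m.degree f) f)⁻¹ * f, Ideal.mul_mem_left _ _ hf, ?_, fun c hc' => m.le_degree ?_⟩
  · rw [coeff_C_mul, inv_mul_cancel₀ hc]
  · rw [mem_support_iff, coeff_C_mul] at hc'
    exact mem_support_iff.mpr (right_ne_zero_of_mul hc')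

/-- The initial ideal. -/
noncomputable def initI : Ideal (MvPolynomial σ k) :=
  Ideal.span ((fun β => monomial β (1 : k)) '' initExps m I)

theorem mem_initI {p : MvPolynomial σ k} : p ∈ initI m I ↔ ∀ c ∈ p.support, c ∈ initExps m I := by
  rw [initI, mem_ideal_span_monomial_image]
  exact ⟨fun h c hc => by obtain ⟨s, hs, hle⟩ := h c hc; exact initExps_mono m I hs hle,
    fun h c hc => ⟨c, h c hc, le_rfl⟩⟩

theorem exps_initI : exps (initI m I) = initExps m I := by
  classical
  ext β
  show monomial β (1 : k) ∈ initI m I ↔ _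
  rw [mem_initI, support_monomial, if_neg one_ne_zero]
  simp

theorem isMonomial_initI : IsMonomial (initI m I) := fun p hp β hβ => by
  have := (mem_initI m I).mp hp β hβ
  rw [← exps_initI] at this
  exact this

theorem initExps_initI : initExps m (initI m I) = initExps m I := by
  classical
  ext β
  constructor
  · rintro ⟨f, hf, hne, rfl⟩
    exact (mem_initI m I).mp hf _ (m.degree_mem_support hne)
  · intro h
    refine ⟨monomial β 1, ?_, by simp, by rw [m.degree_monomial, if_neg one_ne_zero]⟩
    rw [← exps_initI] at h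
    exact h

theorem eq_zero_of_supported {p : MvPolynomial σ k} (hp : p ∈ I) (h : ∀ c ∈ p.support, c ∉ initExps m I) :
    p = 0 := by
  by_contra hne
  exact h _ (m.degree_mem_support hne) ⟨p, hp, hne, rfl⟩

theorem exists_nf (β : σ →₀ ℕ) : ∃ r : MvPolynomial σ k, monomial β (1 : k) - r ∈ I ∧
    ∀ c ∈ r.support, c ∉ initExps m I ∧ c ≼[m] β := by
  classical
  induction h : m.toSyn β using WellFoundedLT.induction generalizing β with
  | ind x ih =>
    subst h
    by_cases hb : β ∈ initExps m I
    · obtain ⟨f, hf, h1, hle⟩ := exists_monic m I hb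
      have hlt : ∀ c ∈ f.support.erase β, m.toSyn c < m.toSyn β := fun c hc => by
        obtain ⟨hne, hc⟩ := Finset.mem_erase.mp hc
        exact lt_of_le_of_ne (hle c hc) fun e => hne (m.toSyn.injective e)
      choose r hr using fun c (hc : c ∈ f.support.erase β) => ih _ (hlt c hc) c rfl
      refine ⟨-∑ c ∈ (f.support.erase β).attach, C (coeff c.1 f) * r c.1 c.2, ?_, fun c hc => ?_⟩
      · have e : f = monomial β 1 + ∑ c ∈ (f.support.erase β).attach, C (coeff c.1 f) * monomial c.1 1 := by
          rw [Finset.sum_attach _ (fun c => C (coeff c f) * monomial c (1 : k))]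
          simp only [C_mul_monomial, mul_one]
          conv_lhs => rw [as_sum f, ← Finset.add_sum_erase _ _ (mem_support_iff.mpr (by rw [h1]; exact one_ne_zero)), h1]
        have e2 : monomial β (1 : k) - -∑ c ∈ (f.support.erase β).attach, C (coeff c.1 f) * r c.1 c.2 =
            f - ∑ c ∈ (f.support.erase β).attach, C (coeff c.1 f) * (monomial c.1 1 - r c.1 c.2) := by
          simp only [mul_sub, Finset.sum_sub_distrib]
          linear_combination -e
        rw [e2]
        exact sub_mem hf (sum_mem fun c _ => Ideal.mul_mem_left _ _ (hr c.1 c.2).1)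
      · rw [support_neg] at hc
        obtain ⟨d, -, hd⟩ := Finset.mem_biUnion.mp (support_sum hc)
        have hd' : c ∈ (r d.1 d.2).support := by
          rw [mem_support_iff, coeff_C_mul] at hd
          exact mem_support_iff.mpr (right_ne_zero_of_mul hd)
        obtain ⟨h2, h3⟩ := (hr d.1 d.2).2 c hd'
        exact ⟨h2, h3.trans (hlt d.1 d.2).le⟩
    · refine ⟨monomial β 1, by simp, fun c hc => ?_⟩
      rw [support_monomial, if_neg one_ne_zero, Finset.mem_singleton] at hc
      subst hc
      exact ⟨hb, le_rfl⟩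

/-- The standard exponents. -/
abbrev St := {β : σ →₀ ℕ // β ∉ initExps m I}

theorem linearIndependent_std :
    LinearIndependent k fun β : St m I => Ideal.Quotient.mkₐ k I (monomial β.1 1) := by
  classical
  rw [linearIndependent_iff']
  intro s g h β hβ
  set p : MvPolynomial σ k := ∑ x ∈ s, monomial x.1 (g x)
  have hc : ∀ y : σ →₀ ℕ, coeff y p = ∑ x ∈ s, if x.1 = y then g x else 0 := fun y => by
    simp only [p, coeff_sum, coeff_monomial]
  have hp : p ∈ I := by
    rw [← Ideal.Quotient.eq_zero_iff_mem, ← Ideal.Quotient.mkₐ_eq_mk k, map_sum, ← h]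
    exact Finset.sum_congr rfl fun x _ => by rw [← map_smul, smul_monomial, smul_eq_mul, mul_one]
  have h0 := eq_zero_of_supported m I hp fun y hy hy' => by
    rw [mem_support_iff, hc] at hy
    obtain ⟨x, -, hx⟩ := Finset.exists_ne_zero_of_sum_ne_zero hy
    by_cases e : x.1 = y
    · exact x.2 (e ▸ hy')
    · exact hx (if_neg e)
  have := congrArg (coeff β.1) h0
  rw [coeff_zero, hc, Finset.sum_eq_single β, if_pos rfl] at this
  · exact this
  · intro x _ hne
    rw [if_neg fun e => hne (Subtype.ext e)]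
  · exact fun h => absurd hβ h

theorem span_std : ⊤ ≤ Submodule.span k (Set.range fun β : St m I => Ideal.Quotient.mkₐ k I (monomial β.1 1)) := by
  classical
  intro x _
  obtain ⟨p, rfl⟩ := Ideal.Quotient.mk_surjective x
  rw [← Ideal.Quotient.mkₐ_eq_mk k, as_sum p, map_sum]
  refine Submodule.sum_mem _ fun β _ => ?_
  obtain ⟨r, hr, hs⟩ := exists_nf m I β
  rw [show monomial β (coeff β p) = coeff β p • monomial β (1 : k) by rw [smul_monomial, smul_eq_mul, mul_one], map_smul]
  refine Submodule.smul_mem _ _ ?_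
  have e : Ideal.Quotient.mkₐ k I (monomial β 1) = Ideal.Quotient.mkₐ k I r := by
    rw [Ideal.Quotient.mkₐ_eq_mk]
    exact Ideal.Quotient.eq.mpr hr
  rw [e, as_sum r, map_sum]
  refine Submodule.sum_mem _ fun c hc => ?_
  rw [show monomial c (coeff c r) = coeff c r • monomial c (1 : k) by rw [smul_monomial, smul_eq_mul, mul_one], map_smul]
  exact Submodule.smul_mem _ _ (Submodule.subset_span ⟨⟨c, (hs c hc).1⟩, rfl⟩)

/-- The basis of standard monomials. -/
noncomputable def stdBasis : Module.Basis (St m I) k (MvPolynomial σ k ⧸ I) :=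
  Module.Basis.mk (linearIndependent_std m I) (span_std m I)

theorem stdBasis_apply (β : St m I) : stdBasis m I β = Ideal.Quotient.mk I (monomial β.1 1) :=
  Module.Basis.mk_apply _ _ β

theorem repr_mk {p : MvPolynomial σ k} (h : ∀ c ∈ p.support, c ∉ initExps m I) (δ : St m I) :
    (stdBasis m I).repr (Ideal.Quotient.mk I p) δ = coeff δ.1 p := by
  classical
  have e : Ideal.Quotient.mk I p = ∑ c ∈ p.support.attach, coeff c.1 p • stdBasis m I ⟨c.1, h _ c.2⟩ := by
    conv_lhs => rw [as_sum p, ← Finset.sum_attach, map_sum]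
    refine Finset.sum_congr rfl fun c _ => ?_
    rw [stdBasis_apply, ← Ideal.Quotient.mkₐ_eq_mk k, ← map_smul, smul_monomial, smul_eq_mul, mul_one]
  rw [e, map_sum, Finsupp.coe_finsetSum, Finset.sum_apply]
  simp only [map_smul, Module.Basis.repr_self, Finsupp.smul_single, smul_eq_mul, mul_one, Finsupp.single_apply]
  by_cases hδ : δ.1 ∈ p.support
  · rw [Finset.sum_eq_single ⟨δ.1, hδ⟩, if_pos rfl]
    · intro c _ hne
      exact if_neg fun e => hne (Subtype.ext (congrArg (fun x : St m I => x.1) e))
    · exact fun h => absurd (Finset.mem_attach _ _) h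
  · rw [notMem_support_iff.mp hδ]
    exact Finset.sum_eq_zero fun c _ => if_neg fun e => hδ (by rw [← e]; exact c.2)

theorem repr_monomial_of_lt {e : σ →₀ ℕ} {δ : St m I} (h : e ≺[m] δ.1) :
    (stdBasis m I).repr (Ideal.Quotient.mk I (monomial e 1)) δ = 0 := by
  obtain ⟨r, hr, hs⟩ := exists_nf m I e
  rw [Ideal.Quotient.eq.mpr hr, repr_mk m I (fun c hc => (hs c hc).1)]
  refine notMem_support_iff.mp fun hc => ?_
  exact absurd (hs _ hc).2 (not_le.mpr h)

theorem repr_monomial_self (δ : St m I) : (stdBasis m I).repr (Ideal.Quotient.mk I (monomial δ.1 1)) δ = 1 := by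
  rw [← stdBasis_apply, Module.Basis.repr_self, Finsupp.single_eq_same]

theorem repr_monomial_mul_of_lt {p : MvPolynomial σ k} {β : σ →₀ ℕ} {δ : St m I}
    (h : ∀ c ∈ p.support, (c + β) ≺[m] δ.1) :
    (stdBasis m I).repr (Ideal.Quotient.mk I (p * monomial β 1)) δ = 0 := by
  classical
  rw [as_sum p, Finset.sum_mul, map_sum, map_sum, Finsupp.coe_finsetSum, Finset.sum_apply]
  refine Finset.sum_eq_zero fun c hc => ?_
  rw [monomial_mul, mul_one, show monomial (c + β) (coeff c p) = coeff c p • monomial (c + β) (1 : k) by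
    rw [smul_monomial, smul_eq_mul, mul_one], ← Ideal.Quotient.mkₐ_eq_mk k, map_smul, map_smul, Finsupp.smul_apply,
    Ideal.Quotient.mkₐ_eq_mk, repr_monomial_of_lt m I (h c hc), smul_zero]

theorem repr_monomial_of_monomial (hI : IsMonomial I) {e : σ →₀ ℕ} {δ : St m I} (h : e ≠ δ.1) :
    (stdBasis m I).repr (Ideal.Quotient.mk I (monomial e 1)) δ = 0 := by
  classical
  by_cases he : monomial e (1 : k) ∈ I
  · rw [Ideal.Quotient.eq_zero_iff_mem.mpr he, map_zero, Finsupp.zero_apply]
  · rw [repr_mk m I ?_, coeff_monomial, if_neg h]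
    intro c hc ⟨f, hf, hne, hdeg⟩
    rw [support_monomial, if_neg one_ne_zero, Finset.mem_singleton] at hc
    subst hc
    exact he (hI f hf _ (hdeg ▸ m.degree_mem_support hne))

end Groth.Agent.Hilb37
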