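import Groth.Agent.Hilb37.TwoBlockCount
import Groth.Agent.Hilb37.DegZero

/-! A pair of coordinate linear spaces. -/

set_option autoImplicit false

namespace Groth.Agent.Hilb37

open MvPolynomial W4c1hilbpn

variable {k : Type*} [Field k] {n c d : ℕ}

variable (k) in
/-- The product of the two linear ideals. -/
noncomputable def planePair (n c d : ℕ) : Ideal (MvPolynomial (Fin (n + 1)) k) :=
  Ideal.span {f : MvPolynomial (Fin (n + 1)) k | ∃ i j : Fin (n + 1), i.val + 1 ≤ c ∧ n + 1 ≤ j.val + d ∧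
    f = MvPolynomial.X i * MvPolynomial.X j}

/-- Exponents of its generators. -/
def pairGens (n c d : ℕ) : Set (Fin (n + 1) →₀ ℕ) :=
  {g | ∃ i j : Fin (n + 1), i.val + 1 ≤ c ∧ n + 1 ≤ j.val + d ∧ g = Finsupp.single i 1 + Finsupp.single j 1}

theorem planePair_eq (n c d : ℕ) :
    planePair k n c d = Ideal.span ((fun β => monomial β (1 : k)) '' pairGens n c d) := by
  rw [planePair]
  congr 1
  have e : ∀ (i j : Fin (n + 1)), (X i : MvPolynomial (Fin (n + 1)) k) * X j =
      monomial (Finsupp.single i 1 + Finsupp.single j 1) 1 := fun i j => by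
    rw [show (X i : MvPolynomial (Fin (n + 1)) k) = monomial (Finsupp.single i 1) 1 from rfl,
      show (X j : MvPolynomial (Fin (n + 1)) k) = monomial (Finsupp.single j 1) 1 from rfl, monomial_mul, one_mul]
  ext f
  constructor
  · rintro ⟨i, j, hi, hj, rfl⟩; exact ⟨_, ⟨i, j, hi, hj, rfl⟩, (e i j).symm⟩
  · rintro ⟨_, ⟨i, j, hi, hj, rfl⟩, rfl⟩; exact ⟨i, j, hi, hj, (e i j).symm⟩

theorem isMonomial_planePair (n c d : ℕ) : IsMonomial (planePair k n c d) := by
  rw [planePair_eq]; exact isMonomial_span _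

theorem mem_expZ_pair (h : c + d ≤ n + 1) {x : Fin (n + 1) → ℤ} : x ∈ expZ (planePair k n c d) ↔ NN x ∧
    ∃ i j : Fin (n + 1), i.val + 1 ≤ c ∧ n + 1 ≤ j.val + d ∧ 1 ≤ x i ∧ 1 ≤ x j := by
  rw [planePair_eq, mem_expZ_span]
  refine and_congr_right fun hx => ⟨?_, ?_⟩
  · rintro ⟨g, ⟨i, j, hi, hj, rfl⟩, hle⟩
    have hne : i ≠ j := fun e => by rw [e] at hi; omega
    obtain ⟨ha, hb⟩ := (single_le_iff' hx _ _ _).mp hle
    rw [if_neg hne] at ha
    exact ⟨i, j, hi, hj, by omega, by omega⟩
  · rintro ⟨i, j, hi, hj, h1, h2⟩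
    have hne : i ≠ j := fun e => by rw [e] at hi; omega
    refine ⟨_, ⟨i, j, hi, hj, rfl⟩, (single_le_iff' hx _ _ _).mpr ⟨?_, by omega⟩⟩
    rw [if_neg hne]; omega

theorem mem_stand_pair (h : c + d ≤ n + 1) {x : Fin (n + 1) → ℤ} : x ∈ stand (planePair k n c d) ↔ NN x ∧
    ∀ i j : Fin (n + 1), i.val + 1 ≤ c → n + 1 ≤ j.val + d → ¬ (1 ≤ x i ∧ 1 ≤ x j) := by
  constructor
  · intro hs
    have h' := not_expZ_of_stand hs
    rw [mem_expZ_pair h] at h'
    exact ⟨hs.1, fun i j hi hj hc => h' ⟨hs.1, i, j, hi, hj, hc⟩⟩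
  · rintro ⟨hn', hA⟩
    refine (stand_or_expZ hn').resolve_right fun he => ?_
    obtain ⟨-, i, j, hi, hj, hc⟩ := (mem_expZ_pair h).mp he
    exact hA i j hi hj hc

/-- The generator `x_a x_b`. -/
def gP (n a b : ℕ) : Fin (n + 1) → ℤ := fun x => eN n a x + eN n b x

theorem gP_mem (h : c + d ≤ n + 1) {a b : ℕ} (ha : a + 1 ≤ c) (hb : n + 1 ≤ b + d) (hb' : b ≤ n) :
    gP n a b ∈ expZ (planePair k n c d) := by
  refine (mem_expZ_pair h).mpr ⟨fun x => by simp only [gP, eN]; split_ifs <;> omega,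
    ⟨a, by omega⟩, ⟨b, by omega⟩, ha, hb, ?_, ?_⟩ <;>
  · simp only [gP, eN]; split_ifs <;> first | omega | contradiction

/-- Indices. -/
abbrev MIdx (n c d : ℕ) := Fin c × Fin (n + 1 - c) ⊕ Fin d × Fin (n + 1 - d)

/-- Degrees. -/
def mAl (n c d : ℕ) : MIdx n c d → Fin (n + 1) → ℤ
  | .inl (a, l) => fun x => eN n (c + l) x - eN n a x
  | .inr (b, l) => fun x => eN n l x - eN n (n + 1 - d + b) x

/-- Points. -/
def mS (n c d : ℕ) : MIdx n c d → Fin (n + 1) → ℤ
  | .inl (_, l) => fun x => eN n (c + l) x + eN n n x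
  | .inr (_, l) => fun x => eN n 0 x + eN n l x

theorem sum_mAl (h : c + d ≤ n + 1) (t : MIdx n c d) : ∑ x, mAl n c d t x = 0 := by
  rcases t with ⟨a, l⟩ | ⟨b, l⟩ <;> simp only [mAl, Finset.sum_sub_distrib]
  · rw [sum_eN (by omega), sum_eN (by omega)]; rfl
  · rw [sum_eN (by omega), sum_eN (by omega)]; rfl

theorem mU_valid (h : c + d ≤ n + 1) (t : MIdx n c d) :
    ∀ γ γ', γ - mAl n c d t ∈ expZ (planePair k n c d) → γ ≤ γ' → γ' ∈ stand (planePair k n c d) →
      (fun _ => True) γ' → NN γ ∧ (fun _ => True) γ := by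
  intro γ γ' he hle' hs _
  have hle : ∀ x, γ x ≤ γ' x := hle'
  refine ⟨fun x => ?_, trivial⟩
  obtain ⟨hge', i, j, hi, hj, h1, h2⟩ := (mem_expZ_pair h).mp he
  obtain ⟨-, hst⟩ := (mem_stand_pair h).mp hs
  have hx := hge' x
  have hi' := hle i
  have hj' := hle j
  by_contra hneg
  refine hst i j hi hj ⟨?_, ?_⟩ <;> simp only [Pi.sub_apply] at h1 h2 hx
  all_goals
    rcases t with ⟨a, l⟩ | ⟨b, l⟩ <;> simp only [mAl, eN] at h1 h2 hx
    · by_cases e : i.val = a.val
      · by_cases ex : x.val = a.val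
        · rw [show x = i from Fin.ext (by omega)] at hneg
          split_ifs at * <;> first | omega | contradiction
        · split_ifs at * <;> first | omega | contradiction
      · split_ifs at * <;> first | omega | contradiction
    · by_cases e : j.val = n + 1 - d + b.val
      · by_cases ex : x.val = n + 1 - d + b.val
        · rw [show x = j from Fin.ext (by omega)] at hneg
          split_ifs at * <;> first | omega | contradiction
        · split_ifs at * <;> first | omega | contradiction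
      · split_ifs at * <;> first | omega | contradiction

theorem mS_facts (hc : 1 ≤ c) (hd : 1 ≤ d) (h : c + d ≤ n + 1) (t : MIdx n c d) :
    mS n c d t ∈ stand (planePair k n c d) ∧ mS n c d t - mAl n c d t ∈ expZ (planePair k n c d) := by
  rcases t with ⟨a, l⟩ | ⟨b, l⟩
  · have ha := a.isLt
    have hl := l.isLt
    have e : mS n c d (.inl (a, l)) - mAl n c d (.inl (a, l)) = gP n a.val n := funext fun x => by
      simp only [Pi.sub_apply, mS, mAl, gP]; ring
    refine ⟨(mem_stand_pair h).mpr ⟨fun x => by simp only [mS, eN]; split_ifs <;> omega, fun i j hi hj => ?_⟩,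
      e ▸ gP_mem h (by omega) (by omega) le_rfl⟩
    rintro ⟨c1, c2⟩
    simp only [mS, eN] at c1
    split_ifs at * <;> first | omega | contradiction
  · have hb := b.isLt
    have hl := l.isLt
    have e : mS n c d (.inr (b, l)) - mAl n c d (.inr (b, l)) = gP n 0 (n + 1 - d + b.val) := funext fun x => by
      simp only [Pi.sub_apply, mS, mAl, gP]; ring
    refine ⟨(mem_stand_pair h).mpr ⟨fun x => by simp only [mS, eN]; split_ifs <;> omega, fun i j hi hj => ?_⟩,
      e ▸ gP_mem h (by omega) (by omega) (by omega)⟩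
    rintro ⟨c1, c2⟩
    simp only [mS, eN] at c2
    split_ifs at * <;> first | omega | contradiction

theorem mAl_inj (h : c + d ≤ n + 1) (t t' : MIdx n c d) (e : mAl n c d t' = mAl n c d t) : t' = t := by
  rcases t with ⟨a, l⟩ | ⟨b, l⟩ <;> rcases t' with ⟨a', l'⟩ | ⟨b', l'⟩
  · have h1 := congrFun e ⟨a'.val, by omega⟩
    have h2 := congrFun e ⟨c + l'.val, by omega⟩
    simp only [mAl, eN] at h1 h2
    have ea : a' = a := Fin.ext (by split_ifs at h1 <;> omega)
    have el : l' = l := Fin.ext (by split_ifs at h2 <;> omega)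
    rw [ea, el]
  · exfalso
    have h1 := congrFun e ⟨a.val, by omega⟩
    simp only [mAl, eN] at h1
    split_ifs at h1 <;> omega
  · exfalso
    have h1 := congrFun e ⟨a'.val, by omega⟩
    simp only [mAl, eN] at h1
    split_ifs at h1 <;> omega
  · have h1 := congrFun e ⟨n + 1 - d + b'.val, by omega⟩
    have h2 := congrFun e ⟨l'.val, by omega⟩
    simp only [mAl, eN] at h1 h2
    have eb : b' = b := Fin.ext (by split_ifs at h1 <;> omega)
    have el : l' = l := Fin.ext (by split_ifs at h2 <;> omega)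
    rw [eb, el]

theorem pair_injective (hc : 2 ≤ c) (hd : 2 ≤ d) (h : c + d ≤ n + 1) (α : Fin (n + 1) → ℤ) (hα : ∑ x, α x = 0)
    (f : (Fin (n + 1) → ℤ) → k) (hf : f ∈ RegFun (planePair k n c d) α)
    (hrep : ∀ t, mAl n c d t = α → f (mS n c d t) = 0) : f = 0 := by
  refine RegFun.eq_zero_of_gen (I := planePair k n c d)
    (fun g => ∃ a b, a + 1 ≤ c ∧ n + 1 ≤ b + d ∧ b ≤ n ∧ g = gP n a b) (fun x hx => ?_)
    (fun g ⟨a, b, ha, hb, hb', e⟩ => e ▸ gP_mem h ha hb hb') hf ?_
  · obtain ⟨hx', i, j, hi, hj, h1, h2⟩ := (mem_expZ_pair h).mp hx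
    refine ⟨gP n i.val j.val, ⟨i.val, j.val, hi, hj, by omega, rfl⟩, fun y => ?_⟩
    show eN n i.val y + eN n j.val y ≤ x y
    have := hx' y
    by_cases ei : y.val = i.val
    · rw [show y = i from Fin.ext ei]; simp only [eN]; split_ifs <;> omega
    · by_cases ej : y.val = j.val
      · rw [show y = j from Fin.ext ej]; simp only [eN]; split_ifs <;> omega
      · simp only [eN, if_neg ei, if_neg ej]; omega
  rintro _ ⟨a, b, ha, hb, hb', rfl⟩ hs
  set s := gP n a b + α with hsdef
  obtain ⟨hnn, hst⟩ := (mem_stand_pair h).mp hs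
  have hsum : ∑ x, s x = 2 := by
    simp only [hsdef, Pi.add_apply, gP, Finset.sum_add_distrib, sum_eN (show a ≤ n by omega), sum_eN hb', hα]
    norm_num
  have linkA : ∀ a', a' + 1 ≤ c → (fun x => s x + eN n a' x) ∈ stand (planePair k n c d) →
      f s = f (gP n a' b + α) := fun a' ha' hl => by
    refine RegFun.link hf (l := fun x => gP n a b x + eN n a' x) (gP_mem h ha hb hb') (gP_mem h ha' hb hb')
      (fun x => ?_) (fun x => ?_) (by rwa [add_eN_sub _ _ α rfl])
    · show gP n a b x ≤ gP n a b x + eN n a' x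
      simp only [eN]; split_ifs <;> omega
    · show gP n a' b x ≤ gP n a b x + eN n a' x
      simp only [gP, eN]; split_ifs <;> omega
  have linkB : ∀ b', n + 1 ≤ b' + d → b' ≤ n → (fun x => s x + eN n b' x) ∈ stand (planePair k n c d) →
      f s = f (gP n a b' + α) := fun b' hb1 hb2 hl => by
    refine RegFun.link hf (l := fun x => gP n a b x + eN n b' x) (gP_mem h ha hb hb') (gP_mem h ha hb1 hb2)
      (fun x => ?_) (fun x => ?_) (by rwa [add_eN_sub _ _ α rfl])
    · show gP n a b x ≤ gP n a b x + eN n b' x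
      simp only [eN]; split_ifs <;> omega
    · show gP n a b' x ≤ gP n a b x + eN n b' x
      simp only [gP, eN]; split_ifs <;> omega
  have hsa := hnn ⟨a, by omega⟩
  have hsb := hnn ⟨b, by omega⟩
  have addA : (∀ j : Fin (n + 1), n + 1 ≤ j.val + d → s j = 0) → ∀ a', a' + 1 ≤ c →
      (fun x => s x + eN n a' x) ∈ stand (planePair k n c d) := fun hz a' ha' => by
    refine (mem_stand_pair h).mpr ⟨fun x => by have := hnn x; simp only [eN]; split_ifs <;> omega, fun i j hi hj => ?_⟩
    rintro ⟨-, c2⟩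
    simp only [hz j hj, eN] at c2
    split_ifs at c2 <;> omega
  have addB : (∀ i : Fin (n + 1), i.val + 1 ≤ c → s i = 0) → ∀ b', n + 1 ≤ b' + d →
      (fun x => s x + eN n b' x) ∈ stand (planePair k n c d) := fun hz b' hb1 => by
    refine (mem_stand_pair h).mpr ⟨fun x => by have := hnn x; simp only [eN]; split_ifs <;> omega, fun i j hi hj => ?_⟩
    rintro ⟨c1, -⟩
    simp only [hz i hi, eN] at c1
    split_ifs at c1 <;> omega
  have single : ∀ (v : ℕ) (hv : v ≤ n), 1 ≤ s ⟨v, Nat.lt_succ_of_le hv⟩ → ∃ l ≤ n, s = fun x => eN n v x + eN n l x :=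
    fun v hv h1 => by
    obtain ⟨l, hl, hl'⟩ := eq_eN_of_sum (γ := fun x => s x - eN n v x) (fun x => by
      have := hnn x
      by_cases hx : x.val = v
      · rw [show x = ⟨v, by omega⟩ from Fin.ext hx]; simp [eN]; omega
      · simp [eN, hx]; omega) (by rw [Finset.sum_sub_distrib, hsum, sum_eN hv]; norm_num)
    exact ⟨l, hl, funext fun x => by have := congrFun hl' x; omega⟩
  by_cases h1 : 1 ≤ s ⟨a, by omega⟩
  · -- a move in the second set
    have hz : ∀ j : Fin (n + 1), n + 1 ≤ j.val + d → s j = 0 := fun j hj => by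
      have h' := hst ⟨a, by omega⟩ j ha hj
      have := hnn j
      by_contra hne
      exact h' ⟨h1, by omega⟩
    obtain ⟨l, hl, e⟩ := single a (by omega) h1
    have hld : l < n + 1 - d := by
      by_contra hc'
      have h2 := hz ⟨l, by omega⟩ (show n + 1 ≤ l + d by omega)
      rw [congrFun e ⟨l, _⟩] at h2
      simp only [eN] at h2
      split_ifs at h2 <;> omega
    rw [linkA 0 (by omega) (addA hz 0 (by omega))]
    have e' : mS n c d (.inr (⟨b - (n + 1 - d), by omega⟩, ⟨l, hld⟩)) = gP n 0 b + α := funext fun x => by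
      have := congrFun e x
      simp only [hsdef, Pi.add_apply, gP] at this
      simp only [mS, Pi.add_apply, gP]
      omega
    rw [← e']
    refine hrep _ (funext fun x => ?_)
    have := congrFun e x
    simp only [hsdef, Pi.add_apply, gP] at this
    simp only [mAl, show n + 1 - d + (b - (n + 1 - d)) = b by omega]
    omega
  by_cases h2 : 1 ≤ s ⟨b, by omega⟩
  · have hz : ∀ i : Fin (n + 1), i.val + 1 ≤ c → s i = 0 := fun i hi => by
      have h' := hst i ⟨b, by omega⟩ hi hb
      have := hnn i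
      by_contra hne
      exact h' ⟨by omega, h2⟩
    obtain ⟨l, hl, e⟩ := single b hb' h2
    have hlc : c ≤ l := by
      by_contra hc'
      have h3 := hz ⟨l, by omega⟩ (show l + 1 ≤ c by omega)
      rw [congrFun e ⟨l, _⟩] at h3
      simp only [eN] at h3
      split_ifs at h3 <;> omega
    rw [linkB n (by omega) le_rfl (addB hz n (by omega))]
    have e' : mS n c d (.inl (⟨a, by omega⟩, ⟨l - c, by omega⟩)) = gP n a n + α := funext fun x => by
      have := congrFun e x
      simp only [hsdef, Pi.add_apply, gP] at this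
      simp only [mS, Pi.add_apply, gP, show c + (l - c) = l by omega]
      omega
    rw [← e']
    refine hrep _ (funext fun x => ?_)
    have := congrFun e x
    simp only [hsdef, Pi.add_apply, gP] at this
    simp only [mAl, show c + (l - c) = l by omega]
    omega
  by_cases hB : ∀ j : Fin (n + 1), n + 1 ≤ j.val + d → s j = 0
  · obtain ⟨a', ha', hne⟩ : ∃ a', a' + 1 ≤ c ∧ a' ≠ a := by
      by_cases e : a = 0
      · exact ⟨1, by omega, by omega⟩
      · exact ⟨0, by omega, Ne.symm e⟩
    rw [linkA a' ha' (addA hB a' ha')]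
    refine hf.1 _ fun h' => ?_
    have h3 := h'.1.1 ⟨a, by omega⟩
    simp only [hsdef, Pi.add_apply, gP, eN] at h3 h1
    split_ifs at * <;> first | omega | contradiction
  · push Not at hB
    obtain ⟨j, hj, hj'⟩ := hB
    have hz : ∀ i : Fin (n + 1), i.val + 1 ≤ c → s i = 0 := fun i hi => by
      have h' := hst i j hi hj
      have := hnn i
      have := hnn j
      by_contra hne
      exact h' ⟨by omega, by omega⟩
    obtain ⟨b', hb1, hb2, hne⟩ : ∃ b', n + 1 ≤ b' + d ∧ b' ≤ n ∧ b' ≠ b := by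
      by_cases e : b = n
      · exact ⟨n - 1, by omega, by omega, by omega⟩
      · exact ⟨n, by omega, le_rfl, Ne.symm e⟩
    rw [linkB b' hb1 hb2 (addB hz b' hb1)]
    refine hf.1 _ fun h' => ?_
    have h3 := h'.1.1 ⟨b, by omega⟩
    simp only [hsdef, Pi.add_apply, gP, eN] at h3 h2
    split_ifs at * <;> first | omega | contradiction

theorem finrank_planePair (hc : 2 ≤ c) (hd : 2 ≤ d) (h : c + d ≤ n + 1) :
    Module.finrank k ↥(⨆ α : {α : Fin (n + 1) → ℤ // ∑ i, α i = 0}, tPiece (planePair k n c d) α.1) =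
      c * (n + 1 - c) + d * (n + 1 - d) := by
  rw [finrank_iSup_eq_card (isMonomial_planePair n c d) (mAl n c d) (mS n c d) (fun α => ∑ i, α i = 0) (sum_mAl h)
    (fun t => ⟨_, indFun_mem (mU_valid h t) (fun _ _ _ _ _ _ _ => trivial),
      if_pos ⟨(mS_facts (by omega) (by omega) h t).1, (mS_facts (by omega) (by omega) h t).2, trivial⟩,
      fun t' e hne => absurd (mAl_inj h t t' e) hne⟩)
    (fun α hα f hf hrep => pair_injective hc hd h α hα f hf hrep)]
  simp only [MIdx, Fintype.card_sum, Fintype.card_prod, Fintype.card_fin]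

end Groth.Agent.Hilb37
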