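import Groth.Agent.Hilb37.Bound
import Groth.Agent.Hilb37.Powers3
import Mathlib.Algebra.BigOperators.Group.Finset.Sigma

/-! `dim T(I) ≤ (2p + 1) d` for a monomial ideal containing `x^p`. -/

set_option autoImplicit false

namespace Groth.Agent.Hilb37

open MvPolynomial W4c1hilbpn

variable {k : Type*} [Field k] {I : Ideal (MvPolynomial (Fin 3) k)}
  [Module.Finite k (MvPolynomial (Fin 3) k ⧸ I)] (hI : IsMonomial I)

variable (I) in
/-- The corners seen in degree `(a, b, c)` with `b` of any sign. -/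
def Valid' (a : ℕ) (b c : ℤ) (p : ℕ × ℕ) : Prop :=
  a ≤ p.1 ∧ b ≤ (p.2 : ℤ) ∧ (nbr I 2 p.1 p.2 : ℤ) ≤ (stairs I 2 (p.1 - a) ((p.2 : ℤ) - b).toNat : ℤ) + c ∧
    (stairs I 2 (p.1 - a) ((p.2 : ℤ) - b).toNat : ℤ) + c < (stairs I 2 p.1 p.2 : ℤ)

include hI in
theorem regFun_eq_zero_of_corners' {N : ℕ} (hN : Bounded I N) (a : ℕ) (b c : ℤ) {f : (Fin 3 → ℤ) → k}
    (hf : f ∈ RegFun I (pt 2 a b c))
    (h : ∀ i j : ℕ, i < N → j < N → Valid' I a b c (i, j) → f (pt 2 i j ((stairs I 2 i j : ℤ) - 1)) = 0) : f = 0 := by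
  suffices H : ∀ (M i j : ℕ), 2 * N ≤ i + j + M → ∀ c0 : ℕ, f (pt 2 i j c0) = 0 by
    funext γ
    by_cases hs : γ ∈ stand I
    · rw [← pt_eta 2 γ, ← Int.toNat_of_nonneg (hs.1 (2 + 1)), ← Int.toNat_of_nonneg (hs.1 (2 + 2)),
        ← Int.toNat_of_nonneg (hs.1 2)]
      exact H (2 * N) _ _ (by omega) _
    · exact hf.1 γ fun h' => hs h'.1
  intro M
  induction M with
  | zero =>
    intro i j hij c0
    refine hf.1 _ fun h' => ?_
    have h1 := hN.1 _ h'.1 (2 + 1)
    have h2 := hN.1 _ h'.1 (2 + 2)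
    rw [pt_one] at h1
    rw [pt_two] at h2
    omega
  | succ M ih =>
    intro i j hij c0
    by_contra hne
    have h0 : pt 2 (i : ℤ) j c0 ∈ stand I ∧ pt 2 (i : ℤ) j c0 - pt 2 a b c ∈ expZ I := by
      by_contra h'; exact hne (hf.1 _ h')
    have hc0 : c0 < stairs I 2 i j := (lt_stairs_iff hI 2 i j c0).mpr h0.1
    have ha : a ≤ i := by have := h0.2.1 (2 + 1); simp only [Pi.sub_apply, pt_one] at this; omega
    have hb : b ≤ (j : ℤ) := by have := h0.2.1 (2 + 2); simp only [Pi.sub_apply, pt_two] at this; omega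
    have hl : 0 ≤ (c0 : ℤ) - c := by have := h0.2.1 2; simpa only [Pi.sub_apply, pt_self] using this
    have hsub : ∀ z : ℤ, pt 2 (i : ℤ) j z - pt 2 a b c = pt 2 ((i - a : ℕ) : ℤ) (((j : ℤ) - b).toNat : ℤ) (z - c) :=
      fun z => by
        funext x
        simp only [Pi.sub_apply, pt]
        split_ifs <;> omega
    set s' := stairs I 2 (i - a) ((j : ℤ) - b).toNat with hs'
    have hlow : (s' : ℤ) + c ≤ c0 := by
      by_contra hc
      refine not_expZ_of_stand ?_ h0.2
      rw [hsub, ← Int.toNat_of_nonneg hl]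
      exact (lt_stairs_iff hI 2 (i - a) _ _).mp (by omega)
    have hmem : pt 2 (i : ℤ) j ((s' : ℤ) + c) - pt 2 a b c ∈ expZ I := by
      rw [hsub, add_sub_cancel_right]
      refine (stand_or_expZ ((forall_fin3 2).mpr ?_)).resolve_left
        fun h' => lt_irrefl _ ((lt_stairs_iff hI 2 _ _ _).mpr h')
      rw [pt_self, pt_one, pt_two]
      omega
    have hle0 : pt 2 (i : ℤ) j ((s' : ℤ) + c) ≤ pt 2 (i : ℤ) j c0 := fun x => by
      rcases fin3_cases 2 x with rfl | rfl | rfl <;> simp only [pt_self, pt_one, pt_two] <;> omega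
    by_cases hneg : (s' : ℤ) + c < 0
    · exact hne (RegFun.eq_zero hf hmem hle0 ⟨2, by rw [pt_self]; exact hneg⟩)
    obtain ⟨l0, hl0⟩ : ∃ l0 : ℕ, (s' : ℤ) + c = l0 := ⟨_, (Int.toNat_of_nonneg (not_lt.mp hneg)).symm⟩
    rw [hl0] at hmem hle0 hlow
    have hflow : f (pt 2 (i : ℤ) j (l0 : ℤ)) = f (pt 2 (i : ℤ) j c0) := hf.2 _ _ hmem hle0 h0.1
    by_cases hm : nbr I 2 i j ≤ l0
    · refine hne ?_
      have htop : pt 2 (i : ℤ) j ((stairs I 2 i j - 1 : ℕ) : ℤ) ∈ stand I := (lt_stairs_iff hI 2 i j _).mp (by omega)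
      rw [← hflow, hf.2 _ (pt 2 (i : ℤ) j ((stairs I 2 i j - 1 : ℕ) : ℤ)) hmem (fun x => by
          rcases fin3_cases 2 x with rfl | rfl | rfl <;> simp only [pt_self, pt_one, pt_two] <;> omega) htop,
        show ((stairs I 2 i j - 1 : ℕ) : ℤ) = (stairs I 2 i j : ℤ) - 1 by omega]
      have h1 := hN.1 _ h0.1 (2 + 1)
      have h2 := hN.1 _ h0.1 (2 + 2)
      rw [pt_one] at h1
      rw [pt_two] at h2
      exact h i j (by omega) (by omega) ⟨ha, hb, by simp only [← hs']; omega, by simp only [← hs']; omega⟩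
    · rw [nbr] at hm
      simp only [max_le_iff, not_and_or, not_le] at hm
      rcases hm with hm | hm
      · have hup : pt 2 ((i + 1 : ℕ) : ℤ) j (l0 : ℤ) ∈ stand I := (lt_stairs_iff hI 2 (i + 1) j l0).mp hm
        refine hne ?_
        rw [← hflow, hf.2 _ _ hmem (fun x => by
          rcases fin3_cases 2 x with rfl | rfl | rfl <;> simp only [pt_self, pt_one, pt_two] <;> omega) hup]
        exact ih (i + 1) j (by omega) l0
      · have hup : pt 2 (i : ℤ) ((j + 1 : ℕ) : ℤ) (l0 : ℤ) ∈ stand I := (lt_stairs_iff hI 2 i (j + 1) l0).mp hm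
        refine hne ?_
        rw [← hflow, hf.2 _ _ hmem (fun x => by
          rcases fin3_cases 2 x with rfl | rfl | rfl <;> simp only [pt_self, pt_one, pt_two] <;> omega) hup]
        exact ih i (j + 1) (by omega) l0

include hI in
theorem tDim_le_valid' {N : ℕ} (hN : Bounded I N) (a : ℕ) (b c : ℤ) :
    tDim I (pt 2 a b c) ≤
      (open Classical in (Finset.range (N + 1) ×ˢ Finset.range (N + 1)).filter (Valid' I a b c)).card := by
  classical
  let S := (Finset.range (N + 1) ×ˢ Finset.range (N + 1)).filter (Valid' I a b c)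
  let L : RegFun I (pt 2 (a : ℤ) b c) →ₗ[k] (S → k) :=
    { toFun := fun f p => f.1 (pt 2 p.1.1 p.1.2 ((stairs I 2 p.1.1 p.1.2 : ℤ) - 1))
      map_add' := fun _ _ => rfl
      map_smul' := fun _ _ => rfl }
  have hinj : Function.Injective L := fun f g hfg => by
    have hd : f.1 - g.1 ∈ RegFun I (pt 2 (a : ℤ) b c) := Submodule.sub_mem _ f.2 g.2
    refine Subtype.ext (sub_eq_zero.mp (regFun_eq_zero_of_corners' hI hN a b c hd fun i j hi hj hv => sub_eq_zero.mpr ?_))
    exact congrFun hfg ⟨(i, j), Finset.mem_filter.mpr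
      ⟨Finset.mem_product.mpr ⟨Finset.mem_range.mpr (by omega), Finset.mem_range.mpr (by omega)⟩, hv⟩⟩
  have h := LinearMap.finrank_le_finrank_of_injective hinj
  rw [Module.finrank_pi, Fintype.card_coe] at h
  exact h

include hI in
/-- The pieces negative exactly in the last two directions, against gaps in the first one. -/
theorem compl_zero_le {N p : ℕ} (hN : Bounded I N) (hp : ∀ γ ∈ stand I, γ 0 < p) (S : Finset (Fin 3 → ℤ))
    (hS : ∀ γ, γ ∈ S ↔ γ ∈ stand I) :
    Module.finrank k ↥(sigPiece I ({0}ᶜ : Set (Fin 3))) ≤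
      (open Classical in (S ×ˢ Finset.range p).filter fun q =>
        q.1 0 < (q.2 : ℤ) ∧ pt 2 q.2 (q.1 1) (q.1 2) ∉ stand I).card := by
  classical
  rw [finrank_sigPiece hI hN]
  set F := (box N).filter fun α : Fin 3 → ℤ => ∀ i, α i < 0 ↔ i ∈ ({0}ᶜ : Set (Fin 3))
  refine le_trans (b := ∑ α ∈ F, tDim I α) (le_of_eq ?_) ?_
  · rw [Finset.sum_filter]
    exact Finset.sum_congr rfl fun α _ => by split_ifs <;> rfl
  let V : (Fin 3 → ℤ) → Finset (ℕ × ℕ) := fun α =>
    (Finset.range (N + 1) ×ˢ Finset.range (N + 1)).filter (Valid' I (α 0).toNat (α 1) (α 2))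
  have hF : ∀ α ∈ F, 0 ≤ α 0 ∧ α 1 < 0 ∧ α 2 < 0 := fun α hα => by
    have h := (Finset.mem_filter.mp hα).2
    exact ⟨not_lt.mp fun h0 => by simpa using (h 0).mp h0, (h 1).mpr (by simp), (h 2).mpr (by simp)⟩
  have hle : ∀ α ∈ F, tDim I α ≤ (V α).card := fun α hα => by
    have h := tDim_le_valid' hI hN (α 0).toNat (α 1) (α 2)
    rwa [Int.toNat_of_nonneg (hF α hα).1, show pt 2 (α 0) (α 1) (α 2) = α from pt_eta 2 α] at h
  refine (Finset.sum_le_sum hle).trans ?_
  rw [← Finset.card_sigma]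
  refine Finset.card_le_card_of_injOn (fun q => (pt 2 ((q.2.1 : ℤ) - q.1 0) ((q.2.2 : ℤ) - q.1 1)
    ((stairs I 2 (q.2.1 - (q.1 0).toNat) ((q.2.2 : ℤ) - q.1 1).toNat : ℤ) + q.1 2), q.2.1)) (fun q hq => ?_) ?_
  · obtain ⟨α, i, j⟩ := q
    simp only [Finset.coe_sigma, Set.mem_sigma_iff, Finset.mem_coe, V, Finset.mem_filter] at hq
    obtain ⟨hα, -, hai, hbj, hn, hlt⟩ := hq
    obtain ⟨h0, h1, h2⟩ := hF α hα
    simp only at hai hbj hn hlt
    set l0 := (stairs I 2 (i - (α 0).toNat) ((j : ℤ) - α 1).toNat : ℤ) + α 2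
    have hl0 : 0 ≤ l0 := by omega
    have hij : pt 2 (i : ℤ) j l0 ∈ stand I := by
      rw [← Int.toNat_of_nonneg hl0]
      exact (lt_stairs_iff hI 2 i j _).mp (by omega)
    have hout : ∀ t : ℤ, (j : ℤ) < t → pt 2 (i : ℤ) t l0 ∉ stand I := fun t ht h => by
      have h' : pt 2 (i : ℤ) ((j + 1 : ℕ) : ℤ) l0 ∈ stand I := stand_mono h (fun x => by
        rcases fin3_cases 2 x with rfl | rfl | rfl <;> simp only [pt_self, pt_one, pt_two] <;> omega)
        ((forall_fin3 2).mpr (by simp only [pt_self, pt_one, pt_two]; omega))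
      rw [← Int.toNat_of_nonneg hl0] at h'
      have := (lt_stairs_iff hI 2 i (j + 1) _).mpr h'
      have : stairs I 2 i (j + 1) ≤ nbr I 2 i j := le_max_right _ _
      omega
    have hP : pt 2 ((i : ℤ) - α 0) ((j : ℤ) - α 1) l0 ∈ stand I := by
      have h3 := (lt_stairs_iff hI 2 (i - (α 0).toNat) ((j : ℤ) - α 1).toNat l0.toNat).mp (by omega)
      rw [Int.toNat_of_nonneg hl0] at h3
      convert h3 using 2 <;> omega
    have hap : α 0 ≠ 0 := fun e => hout ((j : ℤ) - α 1) (by omega) (by simpa [e] using hP)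
    have hip : i < p := by
      have := hp _ hij
      rw [show pt 2 (i : ℤ) j l0 0 = i from pt_one 2 _ _ _] at this
      omega
    simp only [Finset.coe_filter, Set.mem_setOf_eq, Finset.mem_product, hS, Finset.mem_range]
    refine ⟨⟨hP, hip⟩, ?_, ?_⟩
    · rw [show pt 2 ((i : ℤ) - α 0) ((j : ℤ) - α 1) l0 0 = (i : ℤ) - α 0 from pt_one 2 _ _ _]
      omega
    · rw [show pt 2 ((i : ℤ) - α 0) ((j : ℤ) - α 1) l0 1 = (j : ℤ) - α 1 from pt_two 2 _ _ _, pt_self]
      exact hout _ (by omega)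
  · rintro ⟨α, i, j⟩ hq ⟨α', i', j'⟩ hq' e
    simp only [Finset.coe_sigma, Set.mem_sigma_iff, Finset.mem_coe, V, Finset.mem_filter] at hq hq'
    obtain ⟨hα, -, hai, hbj, hn, hlt⟩ := hq
    obtain ⟨hα', -, hai', hbj', hn', hlt'⟩ := hq'
    simp only [Prod.mk.injEq] at e hai hbj hn hlt hai' hbj' hn' hlt'
    obtain ⟨e, rfl⟩ := e
    have e1 := congrFun e (2 + 1)
    have e2 := congrFun e (2 + 2)
    have e3 := congrFun e 2
    rw [pt_one, pt_one] at e1
    rw [pt_two, pt_two] at e2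
    rw [pt_self, pt_self] at e3
    have hjj : j = j' := by
      obtain ⟨h0, h1, h2⟩ := hF α hα
      obtain ⟨h0', h1', h2'⟩ := hF α' hα'
      rcases lt_trichotomy j j' with h | h | h
      · exfalso
        have h4 : stairs I 2 i j' ≤ stairs I 2 i (j + 1) := by
          clear * - hI h
          induction j', h using Nat.le_induction with
          | base => exact le_rfl
          | succ x _ ih => exact (stairs_anti hI 2 i x).2.trans ih
        have : stairs I 2 i (j + 1) ≤ nbr I 2 i j := le_max_right _ _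
        omega
      · exact h
      · exfalso
        have h4 : stairs I 2 i j ≤ stairs I 2 i (j' + 1) := by
          clear * - hI h
          induction j, h using Nat.le_induction with
          | base => exact le_rfl
          | succ x _ ih => exact (stairs_anti hI 2 i x).2.trans ih
        have : stairs I 2 i (j' + 1) ≤ nbr I 2 i j' := le_max_right _ _
        omega
    subst hjj
    have a0 : α 0 = α' 0 := by omega
    have a1 : α 1 = α' 1 := by omega
    rw [a0, a1] at e3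
    obtain rfl : α = α' := funext fun x => by fin_cases x <;> simp <;> omega
    rfl

theorem sum_by_fibres {N : ℕ} (S : Finset (Fin 3 → ℤ)) (hS : ∀ γ, γ ∈ S ↔ γ ∈ stand I) (hN : Bounded I N)
    (l : Fin 3) (g : ℤ → ℤ → ℕ) :
    ∑ γ ∈ S, g (γ (l + 1)) (γ (l + 2)) =
      ∑ a ∈ Finset.range (N + 1), ∑ b ∈ Finset.range (N + 1), g a b * stairs I l a b := by
  classical
  rw [← Finset.sum_product', ← Finset.sum_fiberwise_of_maps_to
    (g := fun γ => ((γ (l + 1)).toNat, (γ (l + 2)).toNat)) (t := Finset.range (N + 1) ×ˢ Finset.range (N + 1))]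
  · refine Finset.sum_congr rfl fun q _ => ?_
    rw [Finset.sum_congr rfl (g := fun _ => g q.1 q.2), Finset.sum_const, smul_eq_mul, mul_comm]
    · congr 1
      rw [stairs, ← Nat.card_eq_finsetCard]
      exact Nat.card_congr
        { toFun := fun γ => ⟨(γ.1 l).toNat, by
            obtain ⟨γ, hγ⟩ := γ
            simp only [Finset.mem_filter, hS, Prod.ext_iff] at hγ
            rw [← hγ.2.1, ← hγ.2.2, Int.toNat_of_nonneg (hγ.1.1 _), Int.toNat_of_nonneg (hγ.1.1 _),
              Int.toNat_of_nonneg (hγ.1.1 _), pt_eta]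
            exact hγ.1⟩
          invFun := fun c => ⟨pt l q.1 q.2 c.1, by simp [Finset.mem_filter, hS, c.2, pt_one, pt_two]⟩
          left_inv := fun γ => by
            obtain ⟨γ, hγ⟩ := γ
            simp only [Finset.mem_filter, hS, Prod.ext_iff] at hγ
            refine Subtype.ext ?_
            show pt l (q.1 : ℤ) q.2 ((γ l).toNat : ℤ) = γ
            rw [← hγ.2.1, ← hγ.2.2, Int.toNat_of_nonneg (hγ.1.1 _), Int.toNat_of_nonneg (hγ.1.1 _),
              Int.toNat_of_nonneg (hγ.1.1 _), pt_eta]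
          right_inv := fun c => Subtype.ext (by simp [pt_self]) }
    · intro γ hγ
      simp only [Finset.mem_filter, hS, Prod.ext_iff] at hγ
      rw [← hγ.2.1, ← hγ.2.2, Int.toNat_of_nonneg (hγ.1.1 _), Int.toNat_of_nonneg (hγ.1.1 _)]
  · intro γ hγ
    have := (hS γ).mp hγ
    simp only [Finset.coe_product, Set.mem_prod, Finset.coe_range, Set.mem_Iio, Finset.mem_coe, Finset.mem_product, Finset.mem_range]
    exact ⟨by have := hN.1 _ this (l + 1); omega, by have := hN.1 _ this (l + 2); omega⟩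

include hI in
theorem sig_two_le {N : ℕ} (hN : Bounded I N) (S : Finset (Fin 3 → ℤ)) (hS : ∀ γ, γ ∈ S ↔ γ ∈ stand I) :
    Module.finrank k ↥(sigPiece I {2}) ≤ ∑ γ ∈ S, ((γ 0).toNat + 1) := by
  refine (finrank_sig_single_le hI hN 2).trans ?_
  rw [show ∑ γ ∈ S, ((γ 0).toNat + 1) = ∑ γ ∈ S, (fun x (_ : ℤ) => x.toNat + 1) (γ (2 + 1)) (γ (2 + 2)) from rfl,
    sum_by_fibres S hS hN 2 fun x _ => x.toNat + 1]
  refine Finset.sum_le_sum fun i _ => ?_
  simp only [Int.toNat_natCast, ← Finset.mul_sum]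
  refine Nat.mul_le_mul_left _ ?_
  have h := telescope_mul (fun j => stairs I 2 i j) (fun j => (stairs_anti hI 2 i j).2) (N + 1)
  refine le_trans (Finset.sum_le_sum fun j _ => ?_) (h ▸ Nat.le_add_right _ _)
  exact Nat.mul_le_mul_left _ (Nat.sub_le_sub_left (le_max_right _ _) _)

include hI in
theorem sig_one_le {N : ℕ} (hN : Bounded I N) (S : Finset (Fin 3 → ℤ)) (hS : ∀ γ, γ ∈ S ↔ γ ∈ stand I) :
    Module.finrank k ↥(sigPiece I {1}) ≤ ∑ γ ∈ S, ((γ 0).toNat + 1) := by
  refine (finrank_sig_single_le hI hN 1).trans ?_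
  rw [show ∑ γ ∈ S, ((γ 0).toNat + 1) = ∑ γ ∈ S, (fun (_ : ℤ) x => x.toNat + 1) (γ (1 + 1)) (γ (1 + 2)) from rfl,
    sum_by_fibres S hS hN 1 fun _ x => x.toNat + 1, Finset.sum_comm]
  conv_rhs => rw [Finset.sum_comm]
  refine Finset.sum_le_sum fun j _ => ?_
  simp only [Int.toNat_natCast, ← Finset.mul_sum]
  have h := telescope_mul (fun i => stairs I 1 i j) (fun i => (stairs_anti hI 1 i j).1) (N + 1)
  refine le_trans (le_of_eq ?_) (Nat.mul_le_mul_left (j + 1) (le_trans (Finset.sum_le_sum fun i _ =>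
    Nat.mul_le_mul_left (i + 1) (Nat.sub_le_sub_left (le_max_left _ (stairs I 1 i (j + 1))) _)) (h ▸ Nat.le_add_right _ _)))
  rw [Finset.mul_sum]
  refine Finset.sum_congr rfl fun i _ => ?_
  simp only [nbr]
  ring

include hI in
/-- The main bound. -/
theorem finrank_tgt_le_of_pow {p : ℕ} (hp : ∀ γ ∈ stand I, γ 0 < p) :
    Module.finrank k (Tgt I) ≤ (2 * p + 1) * Module.finrank k (MvPolynomial (Fin 3) k ⧸ I) := by
  classical
  obtain ⟨N, hN⟩ := exists_bound hI
  have hfin := stand_finite hI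
  set S := hfin.toFinset
  have hS : ∀ γ, γ ∈ S ↔ γ ∈ stand I := fun γ => hfin.mem_toFinset
  have hd : Module.finrank k (MvPolynomial (Fin 3) k ⧸ I) = S.card := by
    rw [finrank_quot hI, Nat.card_coe_set_eq, Set.ncard_eq_toFinset_card _ hfin]
  set X := ∑ γ ∈ S, (γ 0).toNat with hX
  have hX1 : ∑ γ ∈ S, ((γ 0).toNat + 1) = X + S.card := by simp [hX, Finset.sum_add_distrib]
  have h1 := sig_one_le hI hN S hS
  have h2 := sig_two_le hI hN S hS
  rw [hX1, finrank_sig_eq hI, hd] at h1 h2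
  have h0 := compl_zero_le hI hN hp S hS
  have hsplit := Finset.card_filter_add_card_filter_not (s := (S ×ˢ Finset.range p).filter fun q => q.1 0 < (q.2 : ℤ))
    (fun q => pt 2 q.2 (q.1 1) (q.1 2) ∉ stand I)
  rw [Finset.filter_filter, Finset.filter_filter] at hsplit
  have hall : ((S ×ˢ Finset.range p).filter fun q => q.1 0 < (q.2 : ℤ)).card + X + S.card = p * S.card := by
    have hfib : ∀ γ ∈ S, ((Finset.range p).filter fun i : ℕ => γ 0 < (i : ℤ)).card = p - ((γ 0).toNat + 1) := fun γ hγ => by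
      have := ((hS γ).mp hγ).1 0
      rw [show ((Finset.range p).filter fun i : ℕ => γ 0 < (i : ℤ)) = Finset.Ico ((γ 0).toNat + 1) p from ?_, Nat.card_Ico]
      ext x
      simp only [Finset.mem_filter, Finset.mem_range, Finset.mem_Ico]
      omega
    rw [Finset.card_filter, Finset.sum_product, hX, add_assoc, Finset.card_eq_sum_ones S, ← Finset.sum_add_distrib,
      ← Finset.sum_add_distrib, ← Finset.card_eq_sum_ones]
    rw [Finset.sum_congr rfl (g := fun _ => p), Finset.sum_const, smul_eq_mul, mul_comm]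
    intro γ hγ
    rw [← Finset.card_filter, hfib γ hγ]
    have := hp γ ((hS γ).mp hγ)
    have := ((hS γ).mp hγ).1 0
    omega
  have hin : X ≤ ((S ×ˢ Finset.range p).filter fun q =>
      q.1 0 < (q.2 : ℤ) ∧ ¬ pt 2 q.2 (q.1 1) (q.1 2) ∉ stand I).card := by
    have e : X = (S.sigma fun γ => Finset.range (γ 0).toNat).card := by simp [hX, Finset.card_sigma]
    rw [e]
    refine Finset.card_le_card_of_injOn (fun q => (pt 2 (q.2 : ℤ) (q.1 1) (q.1 2), (q.1 0).toNat)) (fun q hq => ?_) ?_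
    · obtain ⟨γ, i⟩ := q
      simp only [Finset.coe_sigma, Set.mem_sigma_iff, Finset.mem_coe, Finset.mem_range] at hq
      obtain ⟨hγ, hi⟩ := hq
      rw [hS] at hγ
      have := hγ.1 0
      have hlt := hp γ hγ
      have hpts : pt 2 (i : ℤ) (γ 1) (γ 2) ∈ stand I := by
        refine stand_mono hγ (fun x => ?_) fun x => ?_
        · fin_cases x <;> simp [pt] <;> omega
        · have := hγ.1 1; have := hγ.1 2
          fin_cases x <;> simp [pt] <;> omega
      simp only [Finset.coe_filter, Set.mem_setOf_eq, Finset.mem_product, hS, Finset.mem_range, not_not]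
      refine ⟨⟨hpts, by omega⟩, ?_, ?_⟩
      · rw [show pt 2 (i : ℤ) (γ 1) (γ 2) 0 = i from pt_one 2 _ _ _]
        omega
      · rw [show pt 2 (i : ℤ) (γ 1) (γ 2) 1 = γ 1 from pt_two 2 _ _ _, pt_self, Int.toNat_of_nonneg (hγ.1 0),
          show pt 2 (γ 0) (γ 1) (γ 2) = γ from pt_eta 2 γ]
        exact hγ
    · rintro ⟨γ, i⟩ hq ⟨γ', i'⟩ hq' e
      simp only [Finset.coe_sigma, Set.mem_sigma_iff, Finset.mem_coe, Finset.mem_range, hS] at hq hq'
      simp only [Prod.mk.injEq] at e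
      obtain ⟨e, e0⟩ := e
      have e1 := congrFun e (2 + 1)
      have e2 := congrFun e (2 + 2)
      have e3 := congrFun e 2
      rw [pt_one, pt_one] at e1
      rw [pt_two, pt_two] at e2
      rw [pt_self, pt_self] at e3
      obtain rfl : i = i' := by omega
      have := hq.1.1 0; have := hq'.1.1 0
      obtain rfl : γ = γ' := funext fun x => by fin_cases x <;> simp <;> omega
      rfl
  have hT := finrank_tgt_eq_sig hI
  rw [Fin.sum_univ_three, finrank_sig_eq hI 0, finrank_sig_eq hI 1, finrank_sig_eq hI 2, hd] at hT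
  rw [hd, hT, add_mul, one_mul, mul_assoc]
  omega

end Groth.Agent.Hilb37
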