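import Groth.Agent.Hilb37.Finite
import Mathlib.Algebra.Order.Antidiag.FinsuppEquiv
import Mathlib.RingTheory.MvPolynomial.Ideal
import Mathlib.Data.Int.Interval

/-! The powers of the maximal ideal at the origin. -/

set_option autoImplicit false

namespace Groth.Agent.Hilb37

open MvPolynomial W4c1hilbpn

variable (k : Type*) [Field k] (n r : ℕ)

/-- `(x_1, …, x_n)^r`. -/
noncomputable abbrev mPow : Ideal (MvPolynomial (Fin n) k) :=
  Ideal.span (Set.range (MvPolynomial.X : Fin n → MvPolynomial (Fin n) k)) ^ r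

variable {k n r}

theorem isMonomial_mPow : IsMonomial (mPow k n r) := by
  intro p hp β hβ
  have h : p ∈ idealOfVars (Fin n) k ^ r := hp
  rw [mem_pow_idealOfVars_iff] at h
  show monomial β 1 ∈ idealOfVars (Fin n) k ^ r
  rw [monomial_mem_pow_idealOfVars_iff _ _ one_ne_zero]
  exact h β hβ

theorem mem_exps_mPow {β : Fin n →₀ ℕ} : β ∈ exps (mPow k n r) ↔ r ≤ ∑ i, β i := by
  show monomial β 1 ∈ idealOfVars (Fin n) k ^ r ↔ _
  rw [monomial_mem_pow_idealOfVars_iff _ _ one_ne_zero, Finsupp.degree_eq_sum]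

theorem sum_toN {γ : Fin n → ℤ} (h : NN γ) : ((∑ i, toN γ i : ℕ) : ℤ) = ∑ i, γ i := by
  push_cast
  exact Finset.sum_congr rfl fun i _ => Int.toNat_of_nonneg (h i)

theorem mem_expZ_mPow {γ : Fin n → ℤ} : γ ∈ expZ (mPow k n r) ↔ NN γ ∧ (r : ℤ) ≤ ∑ i, γ i :=
  and_congr_right fun h => by
    have := sum_toN h
    rw [mem_exps_mPow]
    omega

theorem mem_stand_mPow {γ : Fin n → ℤ} : γ ∈ stand (mPow k n r) ↔ NN γ ∧ ∑ i, γ i < r :=
  and_congr_right fun h => by
    have := sum_toN h
    rw [mem_exps_mPow]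
    omega

theorem finite_quot_mPow : Module.Finite k (MvPolynomial (Fin n) k ⧸ mPow k n r) := by
  have hfin : (stand (mPow k n r)).Finite := by
    refine (Set.Finite.pi' fun _ : Fin n => Set.finite_Icc (0 : ℤ) (r : ℤ)).subset fun γ hγ => ?_
    obtain ⟨h1, h2⟩ := mem_stand_mPow.mp hγ
    intro i
    have h3 : γ i ≤ ∑ j, γ j := Finset.single_le_sum (fun j _ => h1 j) (Finset.mem_univ i)
    exact ⟨h1 i, by omega⟩
  haveI := hfin.to_subtype
  exact Module.Finite.of_basis (standBasis isMonomial_mPow)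

/-- Moving one unit from coordinate `i` to `j` shows vanishing for degrees of total at most `-2`. -/
theorem mPow_vanish (hn : 2 ≤ n) {α : Fin n → ℤ} (hs : ∑ i, α i ≠ -1) {f : (Fin n → ℤ) → k}
    (hf : f ∈ RegFun (mPow k n r) α) : f = 0 := by
  funext γ
  by_contra hne
  have hin : ∀ x, f x ≠ 0 → (NN x ∧ ∑ i, x i < r) ∧ (NN (x - α) ∧ (r : ℤ) ≤ ∑ i, x i - ∑ i, α i) := by
    intro x hx
    have h : x ∈ stand (mPow k n r) ∧ x - α ∈ expZ (mPow k n r) := by by_contra h; exact hx (hf.1 x h)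
    obtain ⟨a, b⟩ := mem_expZ_mPow.mp h.2
    refine ⟨mem_stand_mPow.mp h.1, a, ?_⟩
    simpa [Finset.sum_sub_distrib] using b
  obtain ⟨⟨h1, h2⟩, h3, h4⟩ := hin γ hne
  have hneg : ∑ i, α i < -1 := by omega
  obtain ⟨i, hi⟩ : ∃ i, α i < 0 := by
    by_contra hc
    simp only [not_exists, not_lt] at hc
    have := Finset.sum_nonneg (s := Finset.univ) fun x _ => hc x
    omega
  haveI : Nontrivial (Fin n) := Fin.nontrivial_iff_two_le.mpr hn
  obtain ⟨j, hj⟩ := exists_ne i
  have hsum_ev : ∀ x : Fin n, ∑ y, ev x y = 1 := fun x => by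
    rw [Finset.sum_eq_single x (fun y _ hy => ev_ne hy) (by simp), ev_self]
  suffices H : ∀ N : ℕ, ∀ x, (x i).toNat ≤ N → f x ≠ 0 → False from H _ γ le_rfl hne
  intro N
  induction N using Nat.strong_induction_on with
  | _ N ih =>
    intro x hx hne
    obtain ⟨⟨a1, a2⟩, a3, a4⟩ := hin x hne
    set t : ℕ := (r - 1 - ∑ y, x y).toNat with ht
    set y := x + (t : ℤ) • ev j with hy
    have hyle : x ≤ y := fun l => by
      have := mul_nonneg (Int.natCast_nonneg t) (ev_nonneg j l)
      simp only [hy, Pi.add_apply, Pi.smul_apply, smul_eq_mul]; omega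
    have hysum : ∑ l, y l = r - 1 := by
      simp only [hy, Pi.add_apply, Pi.smul_apply, smul_eq_mul, Finset.sum_add_distrib, ← Finset.mul_sum, hsum_ev]
      omega
    have hyn : NN y := fun l => (a1 l).trans (hyle l)
    have hys : y ∈ stand (mPow k n r) := mem_stand_mPow.mpr ⟨hyn, by omega⟩
    have hxs : ∑ l, (x - α) l = ∑ l, x l - ∑ l, α l := by simp [Finset.sum_sub_distrib]
    have hxm : x - α ∈ expZ (mPow k n r) := mem_expZ_mPow.mpr ⟨a3, by omega⟩
    have hfy : f y ≠ 0 := by rw [← hf.2 x y hxm hyle hys]; exact hne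
    have hyi : y i = x i := by simp [hy, ev_ne hj.symm]
    have hzm : y - ev i - α ∈ expZ (mPow k n r) := by
      refine mem_expZ_mPow.mpr ⟨fun l => ?_, ?_⟩
      · have h5 := a3 l
        have : x l ≤ y l := hyle l
        simp only [Pi.sub_apply] at h5 ⊢
        by_cases hl : l = i
        · subst hl; rw [ev_self]; have := a1 l; omega
        · rw [ev_ne hl]; omega
      · simp only [Pi.sub_apply, Finset.sum_sub_distrib, hsum_ev, hysum]; omega
    have hzle : y - ev i ≤ y := fun l => by have := ev_nonneg i l; simp only [Pi.sub_apply]; omega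
    by_cases hz : NN (y - ev i)
    · have h6 : 0 < y i := by have := hz i; simp only [Pi.sub_apply, ev_self] at this; omega
      refine ih ((y - ev i) i).toNat ?_ (y - ev i) le_rfl ?_
      · simp only [Pi.sub_apply, ev_self]; omega
      · rw [hf.2 _ y hzm hzle hys]; exact hfy
    · simp only [NN, not_forall, not_le] at hz
      exact hfy (RegFun.eq_zero hf hzm hzle hz)

/-- The number of exponents in a degree. -/
theorem card_points (hn : 1 ≤ n) {α : Fin n → ℤ} (hs : ∑ i, α i = -1) :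
    Nat.card {γ : Fin n → ℤ // (NN γ ∧ α ≤ γ) ∧ ∑ i, γ i = (r : ℤ) - 1} =
      if ∑ i, (-α i).toNat ≤ r then Nat.choose (n + r - ∑ i, (-α i).toNat - 1) (n - 1) else 0 := by
  classical
  have hpos : ∑ i, ((α i).toNat : ℤ) = -1 + ((∑ i, (-α i).toNat : ℕ) : ℤ) := by
    rw [← hs]
    push_cast
    rw [← Finset.sum_add_distrib]
    exact Finset.sum_congr rfl fun i _ => by omega
  set w := ∑ i, (-α i).toNat
  split_ifs with hw
  · have e : {γ : Fin n → ℤ // (NN γ ∧ α ≤ γ) ∧ ∑ i, γ i = (r : ℤ) - 1} ≃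
        ((Finset.univ : Finset (Fin n)).finsuppAntidiag (r - w) : Finset (Fin n →₀ ℕ)) :=
      { toFun := fun γ => ⟨toN (fun i => γ.1 i - (α i).toNat), by
          rw [Finset.mem_finsuppAntidiag]
          refine ⟨?_, Finset.subset_univ _⟩
          have h1 := sum_toN (γ := fun i => γ.1 i - ((α i).toNat : ℤ)) fun i => by
            have := γ.2.1.1 i; have : α i ≤ γ.1 i := γ.2.1.2 i
            show 0 ≤ γ.1 i - ((α i).toNat : ℤ)
            omega
          rw [Finset.sum_sub_distrib, γ.2.2, hpos] at h1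
          show ∑ i, toN (fun i => γ.1 i - ((α i).toNat : ℤ)) i = r - w
          omega⟩
        invFun := fun g => ⟨fun i => (g.1 i : ℤ) + (α i).toNat, ⟨fun i => by
            show 0 ≤ (g.1 i : ℤ) + (α i).toNat
            omega, fun i => by
            show α i ≤ (g.1 i : ℤ) + (α i).toNat
            omega⟩, by
          have h1 := (Finset.mem_finsuppAntidiag.mp g.2).1
          rw [Finset.sum_add_distrib, hpos, ← Nat.cast_sum, h1]
          omega⟩
        left_inv := fun γ => Subtype.ext (funext fun i => by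
          have := γ.2.1.1 i; have : α i ≤ γ.1 i := γ.2.1.2 i
          simp only [toN_apply]
          omega)
        right_inv := fun g => Subtype.ext (Finsupp.ext fun i => by simp) }
    rw [Nat.card_congr e, Nat.card_eq_finsetCard, Finset.card_finsuppAntidiag_nat_eq_choose, Finset.card_univ,
      Fintype.card_fin, ← Nat.choose_symm (by omega), show n + (r - w) - 1 - (r - w) = n - 1 by omega,
      show n + (r - w) - 1 = n + r - w - 1 by omega]
  · haveI : IsEmpty {γ : Fin n → ℤ // (NN γ ∧ α ≤ γ) ∧ ∑ i, γ i = (r : ℤ) - 1} := ⟨fun γ => by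
      have h1 : ∑ i, ((α i).toNat : ℤ) ≤ ∑ i, γ.1 i := Finset.sum_le_sum fun i _ => by
        have := γ.2.1.1 i; have : α i ≤ γ.1 i := γ.2.1.2 i; omega
      rw [γ.2.2, hpos] at h1
      omega⟩
    exact Nat.card_of_isEmpty

theorem finrank_mPow (hn : 2 ≤ n) (α : Fin n → ℤ) :
    Module.finrank k (RegFun (mPow k n r) α) =
      if ∑ i, α i = -1 then Nat.card {γ : Fin n → ℤ // (NN γ ∧ α ≤ γ) ∧ ∑ i, γ i = (r : ℤ) - 1} else 0 := by
  classical
  split_ifs with hs
  · let P := {γ : Fin n → ℤ // (NN γ ∧ α ≤ γ) ∧ ∑ i, γ i = (r : ℤ) - 1}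
    have hiff : ∀ γ, (γ ∈ stand (mPow k n r) ∧ γ - α ∈ expZ (mPow k n r)) ↔
        (NN γ ∧ α ≤ γ) ∧ ∑ i, γ i = (r : ℤ) - 1 := fun γ => by
      have e : ∑ i, (γ - α) i = ∑ i, γ i + 1 := by simp [Finset.sum_sub_distrib, hs]
      rw [mem_stand_mPow, mem_expZ_mPow, e]
      have e2 : NN (γ - α) ↔ α ≤ γ := ⟨fun h i => sub_nonneg.mp (h i),
        fun h i => by
          have : α i ≤ γ i := h i
          show 0 ≤ γ i - α i
          omega⟩
      rw [e2]
      constructor
      · rintro ⟨⟨a, b⟩, c, d⟩; exact ⟨⟨a, c⟩, by omega⟩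
      · rintro ⟨⟨a, c⟩, b⟩; exact ⟨⟨a, by omega⟩, c, by omega⟩
    haveI : Finite P := Set.Finite.to_subtype (s := {γ : Fin n → ℤ | (NN γ ∧ α ≤ γ) ∧ ∑ i, γ i = (r : ℤ) - 1})
      ((Set.Finite.pi' fun _ : Fin n => Set.finite_Icc (0 : ℤ) (r : ℤ)).subset fun γ hγ i => ⟨hγ.1.1 i, by
        have h3 : γ i ≤ ∑ j, γ j := Finset.single_le_sum (fun j _ => hγ.1.1 j) (Finset.mem_univ i)
        have := hγ.2
        omega⟩)
    haveI := Fintype.ofFinite P
    let e : RegFun (mPow k n r) α ≃ₗ[k] (P → k) :=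
      { toFun := fun f γ => f.1 γ.1
        map_add' := fun _ _ => rfl
        map_smul' := fun _ _ => rfl
        invFun := fun g => ⟨fun γ => if h : (NN γ ∧ α ≤ γ) ∧ ∑ i, γ i = (r : ℤ) - 1 then g ⟨γ, h⟩ else 0,
          fun γ hγ => dif_neg fun h => hγ ((hiff γ).mpr h), fun γ γ' h hle hs' => by
            have h1 : ∑ i, γ' i = (r : ℤ) - 1 ∧ ∑ i, γ i = (r : ℤ) - 1 := by
              have a := (mem_stand_mPow.mp hs').2
              have b := (mem_expZ_mPow.mp h).2
              have c : ∑ i, γ i ≤ ∑ i, γ' i := Finset.sum_le_sum fun i _ => hle i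
              rw [show ∑ i, (γ - α) i = ∑ i, γ i + 1 by simp [Finset.sum_sub_distrib, hs]] at b
              omega
            have : γ = γ' := funext fun i => (Finset.sum_eq_sum_iff_of_le fun i _ => hle i).mp
              (h1.2.trans h1.1.symm) i (Finset.mem_univ i)
            rw [this]⟩
        left_inv := fun f => Subtype.ext (funext fun γ => by
          show dite _ _ _ = f.1 γ
          split_ifs with h
          · rfl
          · exact (f.2.1 γ fun h' => h ((hiff γ).mp h')).symm)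
        right_inv := fun g => funext fun γ => dif_pos γ.2 }
    rw [e.finrank_eq, Module.finrank_pi, Nat.card_eq_fintype_card]
  · rw [(Submodule.eq_bot_iff _).mpr fun f hf => mPow_vanish hn hs hf, finrank_bot]

end Groth.Agent.Hilb37
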