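import Groth.Agent.Ega11.RegLocal
import Mathlib.RingTheory.Length
import Mathlib.RingTheory.SimpleModule.Basic
import Mathlib.RingTheory.Nakayama
import Mathlib.RingTheory.Finiteness.Quotient
import Mathlib.RingTheory.DiscreteValuationRing.Basic
import Mathlib.Tactic.LinearCombination

/-! Quotients of a two-dimensional regular local ring by powers of parameters. -/

set_option autoImplicit false
universe u

namespace Groth.Agent.Hilb37.RegTwo

open IsLocalRing

variable {R : Type u} [CommRing R]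

theorem exists_params [IsRegularLocalRing R] (hdim : ringKrullDim R = 2) :
    ∃ a b : R, maximalIdeal R = Ideal.span {a, b} ∧ a ≠ 0 ∧ b ≠ 0 ∧ ∀ w : R, a ∣ b * w → a ∣ w := by
  classical
  have h2 : (maximalIdeal R).spanFinrank = 2 := by
    have := IsRegularLocalRing.spanFinrank_maximalIdeal (R := R)
    rw [hdim] at this
    exact_mod_cast this
  have hfg : (maximalIdeal R).FG := IsNoetherian.noetherian (maximalIdeal R)
  obtain ⟨s, hs1, hs2⟩ : ∃ s : Set R, s.ncard = 2 ∧ Submodule.span R s = maximalIdeal R :=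
    ⟨_, by rw [Submodule.FG.generators_ncard hfg, h2], Submodule.span_generators _⟩
  rw [Set.ncard_eq_two] at hs1
  obtain ⟨a, b, hab, rfl⟩ := hs1
  change Ideal.span {a, b} = maximalIdeal R at hs2
  have hmin : ∀ c : R, maximalIdeal R ≠ Ideal.span {c} := fun c hc => by
    have h1 : (maximalIdeal R).spanFinrank ≤ ({c} : Set R).ncard := by
      rw [hc]; exact Submodule.spanFinrank_span_le_ncard_of_finite (Set.finite_singleton c)
    simp at h1
    omega
  have ha : a ∈ maximalIdeal R := hs2 ▸ Ideal.subset_span (by simp)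
  have ha2 : a ∉ maximalIdeal R ^ 2 := fun h => by
    refine hmin b (le_antisymm ?_ (by rw [← hs2]; exact Ideal.span_mono (by simp)))
    refine Submodule.le_of_le_smul_of_le_jacobson_bot (I := maximalIdeal R) (IsNoetherian.noetherian _)
      (maximalIdeal_le_jacobson ⊥) ?_
    rw [Ideal.smul_eq_mul, ← pow_two]
    conv_lhs => rw [← hs2]
    rw [Ideal.span_le]
    rintro x (rfl | rfl)
    · exact Ideal.mem_sup_right h
    · exact Ideal.mem_sup_left (Ideal.mem_span_singleton_self _)
  obtain ⟨hreg, -⟩ := Ega11.RegLocal.regular_quotient ha ha2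
  have := Ega11.RegLocal.isDomain (R ⧸ Ideal.span {a})
  have hb : ¬ a ∣ b := fun ⟨c, hc⟩ => hmin a (le_antisymm (by
    rw [← hs2, Ideal.span_le]
    rintro x (rfl | rfl)
    · exact Ideal.mem_span_singleton_self _
    · exact Ideal.mem_span_singleton'.mpr ⟨c, by rw [hc, mul_comm]⟩) (by rw [Ideal.span_le]; simpa using ha))
  have ha0 : a ≠ 0 := fun e => ha2 (e ▸ zero_mem _)
  refine ⟨a, b, hs2.symm, ha0, fun e => hb (e ▸ dvd_zero a), fun w hw => ?_⟩
  rw [← Ideal.mem_span_singleton, ← Ideal.Quotient.eq_zero_iff_mem] at hw ⊢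
  rw [map_mul] at hw
  refine (mul_eq_zero.mp hw).resolve_left fun h => hb ?_
  rwa [Ideal.Quotient.eq_zero_iff_mem, Ideal.mem_span_singleton] at h

variable [IsDomain R] {a b : R}

theorem dvd_pow_cancel (ha : a ≠ 0) (hab : ∀ w : R, a ∣ b * w → a ∣ w) : ∀ (i : ℕ) (w : R), a ^ i ∣ b * w → a ^ i ∣ w
  | 0, w, _ => by simp
  | i + 1, w, ⟨z, hz⟩ => by
    obtain ⟨w', rfl⟩ := hab w ⟨a ^ i * z, by rw [hz]; ring⟩
    have h : a ^ i ∣ b * w' := ⟨z, mul_left_cancel₀ ha (by rw [← mul_assoc, mul_comm a b, mul_assoc, hz]; ring)⟩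
    obtain ⟨w'', rfl⟩ := dvd_pow_cancel ha hab i w' h
    exact ⟨w'', by ring⟩

theorem dvd_pow_cancel' (ha : a ≠ 0) (hab : ∀ w : R, a ∣ b * w → a ∣ w) (i : ℕ) :
    ∀ (j : ℕ) (w : R), a ^ i ∣ b ^ j * w → a ^ i ∣ w
  | 0, w, h => by simpa using h
  | j + 1, w, h => dvd_pow_cancel' ha hab i j w (dvd_pow_cancel ha hab i _ (by rwa [← mul_assoc, ← pow_succ']))

theorem socle_gen (ha : a ≠ 0) (hab : ∀ w : R, a ∣ b * w → a ∣ w) (M : ℕ) {z : R}
    (h1 : a * z ∈ Ideal.span {a ^ (M + 1), b ^ (M + 1)}) (h2 : b * z ∈ Ideal.span {a ^ (M + 1), b ^ (M + 1)}) :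
    ∃ t : R, z - t * (a * b) ^ M ∈ Ideal.span {a ^ (M + 1), b ^ (M + 1)} := by
  simp only [Ideal.mem_span_pair] at h1 h2 ⊢
  obtain ⟨p, q, hpq⟩ := h1
  obtain ⟨v, rfl⟩ := dvd_pow_cancel' ha hab 1 (M + 1) q ⟨z - a ^ M * p, by rw [pow_one]; linear_combination hpq⟩
  have hz : z = a ^ M * p + b ^ (M + 1) * v := mul_left_cancel₀ ha (by linear_combination -hpq)
  obtain ⟨s, t, hst⟩ := h2
  obtain ⟨t', ht'⟩ := dvd_pow_cancel' ha hab M (M + 1) (t - b * v) ⟨b * p - a * s, by
    subst hz; linear_combination hst⟩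
  obtain rfl : t = b * v + a ^ M * t' := by linear_combination ht'
  have hkey : b * (p - b ^ M * t') = a * s := by
    refine mul_left_cancel₀ (pow_ne_zero M ha) ?_
    subst hz; linear_combination -hst
  obtain ⟨w, hw⟩ := hab _ ⟨s, hkey⟩
  obtain rfl : p = b ^ M * t' + a * w := by linear_combination hw
  exact ⟨t', w, v, by rw [hz]; ring⟩

variable [IsLocalRing R]

theorem length_socle_le (hm : maximalIdeal R = Ideal.span {a, b}) (ha : a ≠ 0) (hab : ∀ w : R, a ∣ b * w → a ∣ w) (M : ℕ)
    (W : Submodule R (R ⧸ Ideal.span {a ^ (M + 1), b ^ (M + 1)})) (hW : ∀ m ∈ maximalIdeal R, ∀ w ∈ W, m • w = 0) :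
    Module.length R W ≤ 1 := by
  revert W
  set q := Ideal.span {a ^ (M + 1), b ^ (M + 1)} with hq
  intro W hW
  set σ : R ⧸ q := Ideal.Quotient.mk q ((a * b) ^ M)
  have hσ : ∀ m ∈ maximalIdeal R, m • σ = 0 := fun m hmm => by
    rw [hm, Ideal.mem_span_pair] at hmm
    obtain ⟨c, d, rfl⟩ := hmm
    show Ideal.Quotient.mk q ((c * a + d * b) * (a * b) ^ M) = 0
    rw [Ideal.Quotient.eq_zero_iff_mem, hq, Ideal.mem_span_pair]
    exact ⟨c * b ^ M, d * a ^ M, by ring⟩
  let φ : (R ⧸ maximalIdeal R) →ₗ[R] R ⧸ q :=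
    Submodule.liftQ _ (LinearMap.toSpanSingleton R _ σ) fun m hmm => by simpa using hσ m hmm
  have hle : W ≤ LinearMap.range φ := fun w hw => by
    obtain ⟨z, rfl⟩ := Ideal.Quotient.mk_surjective w
    have hmul : ∀ m ∈ maximalIdeal R, m * z ∈ q := fun m hmm =>
      Ideal.Quotient.eq_zero_iff_mem.mp (by have := hW m hmm _ hw; exact this)
    obtain ⟨t, ht⟩ := socle_gen ha hab M (hmul a (by rw [hm]; exact Ideal.subset_span (by simp)))
      (hmul b (by rw [hm]; exact Ideal.subset_span (by simp)))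
    refine ⟨Submodule.Quotient.mk t, ?_⟩
    show t • σ = _
    exact (Ideal.Quotient.eq.mpr ht).symm
  have : IsSimpleModule R (R ⧸ maximalIdeal R) :=
    isSimpleModule_iff_isCoatom.mpr (Ideal.isMaximal_def.mp (maximalIdeal.isMaximal R))
  refine (Module.length_le_of_injective (Submodule.inclusion hle) (Submodule.inclusion_injective hle)).trans ?_
  exact (Module.length_le_of_surjective φ.rangeRestrict φ.surjective_rangeRestrict).trans (Module.length_eq_one R _).le

theorem length_hom_le (hm : maximalIdeal R = Ideal.span {a, b}) (ha : a ≠ 0) (hab : ∀ w : R, a ∣ b * w → a ∣ w) (M : ℕ)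
    {X : Type u} [AddCommGroup X] [Module R X] (hX : IsFiniteLength R X) :
    Module.length R (X →ₗ[R] R ⧸ Ideal.span {a ^ (M + 1), b ^ (M + 1)}) ≤ Module.length R X := by
  set S := R ⧸ Ideal.span {a ^ (M + 1), b ^ (M + 1)}
  induction hX with
  | @of_subsingleton X _ _ _ =>
    have : Subsingleton (X →ₗ[R] S) := ⟨fun f g => LinearMap.ext fun x => by rw [Subsingleton.elim x 0, map_zero, map_zero]⟩
    rw [Module.length_eq_zero]
    exact zero_le
  | @of_simple_quotient X _ _ N hsimp _ ih =>
    let res : (X →ₗ[R] S) →ₗ[R] (N →ₗ[R] S) := LinearMap.lcomp R S N.subtype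
    have h1 : Module.length R (X →ₗ[R] S) =
        Module.length R (LinearMap.ker res) + Module.length R (LinearMap.range res) :=
      Module.length_eq_add_of_exact (LinearMap.ker res).subtype res.rangeRestrict (Submodule.subtype_injective _)
        res.surjective_rangeRestrict (LinearMap.exact_iff.mpr (by rw [LinearMap.ker_rangeRestrict, Submodule.range_subtype]))
    have := hsimp
    have := IsSimpleModule.nontrivial R (X ⧸ N)
    have hq : Module.length R (X ⧸ N) = 1 := Module.length_eq_one R _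
    have hker : Module.length R (LinearMap.ker res) ≤ 1 := by
      obtain ⟨x, hx⟩ : ∃ x : X ⧸ N, x ≠ 0 := exists_ne 0
      have hspan : Submodule.span R {x} = ⊤ := IsSimpleModule.span_singleton_eq_top R hx
      obtain ⟨x0, rfl⟩ := Submodule.Quotient.mk_surjective N x
      let ev : LinearMap.ker res →ₗ[R] S := (LinearMap.applyₗ x0).comp (LinearMap.ker res).subtype
      have hker' : ∀ f : LinearMap.ker res, ∀ y ∈ N, f.1 y = 0 := fun f y hy => LinearMap.congr_fun f.2 ⟨y, hy⟩
      have hgen : ∀ y : X, ∃ c : R, y - c • x0 ∈ N := fun y => by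
        obtain ⟨c, hc⟩ := Submodule.mem_span_singleton.mp (hspan ▸ Submodule.mem_top : Submodule.Quotient.mk y ∈ Submodule.span R {(Submodule.Quotient.mk x0 : X ⧸ N)})
        exact ⟨c, (Submodule.Quotient.eq N).mp hc.symm⟩
      have hinj : Function.Injective ev := fun f g e => Subtype.ext (LinearMap.ext fun y => by
        obtain ⟨c, hc⟩ := hgen y
        have hf := hker' f _ hc
        have hg := hker' g _ hc
        rw [map_sub, map_smul, sub_eq_zero] at hf hg
        rw [hf, hg]
        exact congrArg (c • ·) e)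
      have hann : ∀ m ∈ maximalIdeal R, m • x0 ∈ N := fun m hmm => by
        by_contra hne
        have hne' : (Submodule.Quotient.mk (m • x0) : X ⧸ N) ≠ 0 := fun e => hne ((Submodule.Quotient.mk_eq_zero N).mp e)
        obtain ⟨c, hc⟩ := Submodule.mem_span_singleton.mp
          ((IsSimpleModule.span_singleton_eq_top R hne') ▸ Submodule.mem_top :
            (Submodule.Quotient.mk x0 : X ⧸ N) ∈ Submodule.span R {(Submodule.Quotient.mk (m • x0) : X ⧸ N)})
        rw [← Submodule.Quotient.mk_smul, smul_smul, Submodule.Quotient.eq] at hc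
        have hu : IsUnit (c * m - 1) := by
          by_contra hnu
          refine (maximalIdeal.isMaximal R).ne_top ((Ideal.eq_top_iff_one _).mpr ?_)
          have := sub_mem (Ideal.mul_mem_left (maximalIdeal R) c hmm) ((mem_maximalIdeal _).mpr hnu)
          rwa [sub_sub_cancel] at this
        refine hx ((Submodule.Quotient.mk_eq_zero N).mpr ((Submodule.smul_mem_iff_of_isUnit N hu).mp ?_))
        rwa [sub_smul, one_smul]
      refine (Module.length_le_of_injective ev.rangeRestrict
        (fun f g e => hinj (congrArg Subtype.val e))).trans (length_socle_le hm ha hab M _ ?_)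
      rintro m hmm _ ⟨f, rfl⟩
      show m • f.1 x0 = 0
      rw [← map_smul]
      exact hker' f _ (hann m hmm)
    rw [h1, Module.length_eq_add_of_exact N.subtype N.mkQ (Submodule.subtype_injective _) N.mkQ_surjective
      (LinearMap.exact_subtype_mkQ N), hq, add_comm (Module.length R N)]
    exact add_le_add hker ((Module.length_le_of_injective (LinearMap.range res).subtype
      (Submodule.subtype_injective _)).trans ih)

end Groth.Agent.Hilb37.RegTwo
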