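import Groth.Agent.Hilb37.Column

/-! The six sign patterns of the tangent space in three variables. -/

set_option autoImplicit false

namespace Groth.Agent.Hilb37

open MvPolynomial W4c1hilbpn

variable {k : Type*} [Field k] {I : Ideal (MvPolynomial (Fin 3) k)}

theorem sum_box {M : Type*} [AddCommMonoid M] (N : ℕ) (l : Fin 3) (f : (Fin 3 → ℤ) → M) :
    ∑ α ∈ box N, f α = ∑ a ∈ Finset.Icc (-(N : ℤ)) N, ∑ b ∈ Finset.Icc (-(N : ℤ)) N,
      ∑ c ∈ Finset.Icc (-(N : ℤ)) N, f (pt l a b c) := by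
  simp only [← Finset.sum_product']
  refine Finset.sum_bij' (fun α _ => (α (l + 1), α (l + 2), α l)) (fun p _ => pt l p.1 p.2.1 p.2.2) ?_ ?_ ?_ ?_ ?_
  · intro α hα
    rw [mem_box] at hα
    simp only [Finset.mem_product, Finset.mem_Icc]
    exact ⟨hα _, hα _, hα _⟩
  · intro p hp
    simp only [Finset.mem_product, Finset.mem_Icc] at hp
    rw [mem_box, forall_fin3 l, pt_self, pt_one, pt_two]
    exact ⟨hp.2.2, hp.1, hp.2.1⟩
  · intro α _; exact pt_eta l α
  · intro p _; simp [pt_self, pt_one, pt_two]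
  · intro α _; simp [pt_eta]

theorem sum_nonneg_part {N : ℕ} (F : ℤ → ℕ) :
    ∑ a ∈ Finset.Icc (-(N : ℤ)) N, (if 0 ≤ a then F a else 0) = ∑ a ∈ Finset.range (N + 1), F a := by
  rw [← Finset.sum_filter]
  refine Finset.sum_bij' (fun a _ => a.toNat) (fun a _ => (a : ℤ)) ?_ ?_ ?_ ?_ ?_ <;>
    intro a ha <;> simp only [Finset.mem_filter, Finset.mem_Icc, Finset.mem_range] at ha ⊢
  · omega
  · omega
  · exact Int.toNat_of_nonneg ha.2
  · rfl
  · rw [Int.toNat_of_nonneg ha.2]

theorem sum_neg_part {N : ℕ} (F : ℤ → ℕ) (hF : F (-(N : ℤ) - 1) = 0) :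
    ∑ a ∈ Finset.Icc (-(N : ℤ)) N, (if a < 0 then F a else 0) = ∑ a ∈ Finset.range (N + 1), F (-(a : ℤ) - 1) := by
  rw [← Finset.sum_filter, Finset.sum_range_succ, hF, add_zero]
  refine Finset.sum_bij' (fun a _ => (-a - 1).toNat) (fun a _ => -(a : ℤ) - 1) ?_ ?_ ?_ ?_ ?_ <;>
    intro a ha <;> simp only [Finset.mem_filter, Finset.mem_Icc, Finset.mem_range] at ha ⊢
  · omega
  · omega
  · omega
  · omega
  · congr 1; omega

theorem colSum_eq_inner {N : ℕ} (hN : Bounded I N) (l : Fin 3) (a b : ℤ) :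
    ∑ c ∈ Finset.Icc (-(N : ℤ)) N, tDim I (pt l a b c) = colSum I N l a b := by
  refine Finset.sum_subset (fun x hx => ?_) fun x _ hx => tDim_eq_zero (hN.2 _ fun h => hx ?_)
  · simp only [Finset.mem_Icc] at hx ⊢; omega
  · have := mem_box.mp h l
    rw [pt_self] at this
    simpa [Finset.mem_Icc] using this

theorem colSum_eq_zero {N : ℕ} (hN : Bounded I N) (l : Fin 3) {a b : ℤ}
    (h : a < -(N : ℤ) ∨ (N : ℤ) < a ∨ b < -(N : ℤ) ∨ (N : ℤ) < b) : colSum I N l a b = 0 := by
  refine Finset.sum_eq_zero fun c _ => tDim_eq_zero (hN.2 _ fun hb => ?_)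
  have h1 := mem_box.mp hb (l + 1)
  have h2 := mem_box.mp hb (l + 2)
  rw [pt_one] at h1
  rw [pt_two] at h2
  omega

theorem compl_ne (l : Fin 3) : (l + 1 ≠ l) ∧ (l + 2 ≠ l) := by revert l; decide

variable [Module.Finite k (MvPolynomial (Fin 3) k ⧸ I)] (hI : IsMonomial I)

include hI in
theorem finrank_sigPiece {N : ℕ} (hN : Bounded I N) (S : Set (Fin 3)) :
    Module.finrank k ↥(sigPiece I S) =
      ∑ α ∈ box N, (open Classical in if ∀ i, α i < 0 ↔ i ∈ S then tDim I α else 0) := by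
  classical
  rw [sigPiece, finrank_iSup hI (P := fun α : Fin 3 → ℤ => ∀ i, α i < 0 ↔ i ∈ S) (F := box N)
    fun α _ hα => tPiece_eq_bot hI α (hN.2 α hα), Finset.sum_filter]
  rfl

include hI in
theorem finrank_sig_single {N : ℕ} (hN : Bounded I N) (l : Fin 3) :
    Module.finrank k ↥(sigPiece I {l}) =
      ∑ a ∈ Finset.range (N + 1), ∑ b ∈ Finset.range (N + 1), colSum I N l a b := by
  classical
  rw [finrank_sigPiece hI hN, sum_box N l, ← sum_nonneg_part (fun a : ℤ => ∑ b ∈ Finset.range (N + 1), colSum I N l a b)]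
  refine Finset.sum_congr rfl fun a _ => ?_
  by_cases ha : 0 ≤ a
  · rw [if_pos ha, ← sum_nonneg_part (fun b : ℤ => colSum I N l a b)]
    refine Finset.sum_congr rfl fun b _ => ?_
    by_cases hb : 0 ≤ b
    · rw [if_pos hb, ← colSum_eq_inner hN]
      refine Finset.sum_congr rfl fun c _ => ?_
      by_cases hc : c < 0
      · rw [if_pos]
        rw [forall_fin3 l, pt_self, pt_one, pt_two]
        simp [hc, (compl_ne l).1, (compl_ne l).2, ha, hb]
      · rw [if_neg, tDim_eq_zero_of_nonneg_or_neg hI (Or.inl ((forall_fin3 l).mpr ?_))]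
        · rw [pt_self, pt_one, pt_two]; exact ⟨not_lt.mp hc, ha, hb⟩
        · intro h; have := h l; simp [pt_self, hc] at this
    · rw [if_neg hb]
      refine Finset.sum_eq_zero fun c _ => if_neg fun h => ?_
      have := h (l + 2)
      simp [pt_two, (compl_ne l).2] at this
      omega
  · rw [if_neg ha]
    refine Finset.sum_eq_zero fun b _ => Finset.sum_eq_zero fun c _ => if_neg fun h => ?_
    have := h (l + 1)
    simp [pt_one, (compl_ne l).1] at this
    omega

include hI in
theorem finrank_sig_compl {N : ℕ} (hN : Bounded I N) (l : Fin 3) :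
    Module.finrank k ↥(sigPiece I ({l}ᶜ : Set (Fin 3))) =
      ∑ a ∈ Finset.range (N + 1), ∑ b ∈ Finset.range (N + 1), colSum I N l (-(a : ℤ) - 1) (-(b : ℤ) - 1) := by
  classical
  rw [finrank_sigPiece hI hN, sum_box N l,
    ← sum_neg_part (fun a : ℤ => ∑ b ∈ Finset.range (N + 1), colSum I N l a (-(b : ℤ) - 1))
      (Finset.sum_eq_zero fun b _ => colSum_eq_zero hN l (Or.inl (by omega)))]
  refine Finset.sum_congr rfl fun a _ => ?_
  by_cases ha : a < 0
  · rw [if_pos ha, ← sum_neg_part (fun b : ℤ => colSum I N l a b) (colSum_eq_zero hN l (by omega))]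
    refine Finset.sum_congr rfl fun b _ => ?_
    by_cases hb : b < 0
    · rw [if_pos hb, ← colSum_eq_inner hN]
      refine Finset.sum_congr rfl fun c _ => ?_
      by_cases hc : c < 0
      · rw [if_neg, tDim_eq_zero_of_nonneg_or_neg hI (Or.inr ((forall_fin3 l).mpr ?_))]
        · rw [pt_self, pt_one, pt_two]; exact ⟨hc, ha, hb⟩
        · intro h; have := h l; simp [pt_self, hc] at this
      · rw [if_pos]
        rw [forall_fin3 l, pt_self, pt_one, pt_two]
        simp [hc, (compl_ne l).1, (compl_ne l).2, ha, hb]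
    · rw [if_neg hb]
      refine Finset.sum_eq_zero fun c _ => if_neg fun h => ?_
      have := h (l + 2)
      simp [pt_two, (compl_ne l).2] at this
      omega
  · rw [if_neg ha]
    refine Finset.sum_eq_zero fun b _ => Finset.sum_eq_zero fun c _ => if_neg fun h => ?_
    have := h (l + 1)
    simp [pt_one, (compl_ne l).1] at this
    omega

include hI in
theorem finrank_quot_stairs {N : ℕ} (hN : Bounded I N) (l : Fin 3) :
    Module.finrank k (MvPolynomial (Fin 3) k ⧸ I) =
      ∑ a ∈ Finset.range (N + 1), ∑ b ∈ Finset.range (N + 1), stairs I l a b := by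
  classical
  haveI := (stand_finite hI).to_subtype
  have hfin : ∀ a b : ℕ, Finite {c : ℕ // pt l a b c ∈ stand I} := fun a b =>
    Finite.of_injective (β := stand I) (fun c => ⟨pt l a b c.1, c.2⟩) fun c c' e => by
      have := congrFun (congrArg Subtype.val e) l
      simp only [pt_self] at this
      exact Subtype.ext (by exact_mod_cast this)
  rw [finrank_quot hI]
  simp only [stairs, ← Finset.sum_coe_sort (Finset.range (N + 1))]
  simp only [← Nat.card_sigma]
  refine (Nat.card_congr (Equiv.ofBijective (fun p => (⟨pt l p.1.1 p.2.1.1 p.2.2.1, p.2.2.2⟩ : stand I))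
    ⟨?_, fun γ => ?_⟩)).symm
  · rintro ⟨⟨a, ha⟩, ⟨b, hb⟩, ⟨c, hc⟩⟩ ⟨⟨a', ha'⟩, ⟨b', hb'⟩, ⟨c', hc'⟩⟩ e
    have e' := congrArg Subtype.val e
    have h1 := congrFun e' (l + 1)
    have h2 := congrFun e' (l + 2)
    have h3 := congrFun e' l
    simp only [pt_one, pt_two, pt_self, Int.ofNat_inj, Nat.cast_inj] at h1 h2 h3
    subst h1 h2 h3
    rfl
  · refine ⟨⟨⟨(γ.1 (l + 1)).toNat, Finset.mem_range.mpr (by have := hN.1 _ γ.2 (l + 1); omega)⟩,
      ⟨(γ.1 (l + 2)).toNat, Finset.mem_range.mpr (by have := hN.1 _ γ.2 (l + 2); omega)⟩, (γ.1 l).toNat, ?_⟩, ?_⟩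
    · simp only [Int.toNat_of_nonneg (γ.2.1 _), pt_eta]
      exact γ.2
    · refine Subtype.ext ?_
      simp only [Int.toNat_of_nonneg (γ.2.1 _), pt_eta]

include hI in
/-- A piece negative in one direction against the piece negative in the other two. -/
theorem finrank_sig_eq (l : Fin 3) :
    Module.finrank k ↥(sigPiece I {l}) =
      Module.finrank k ↥(sigPiece I ({l}ᶜ : Set (Fin 3))) + Module.finrank k (MvPolynomial (Fin 3) k ⧸ I) := by
  obtain ⟨N, hN⟩ := exists_bound hI
  rw [finrank_sig_single hI hN, finrank_sig_compl hI hN, finrank_quot_stairs hI hN l, ← Finset.sum_add_distrib]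
  refine Finset.sum_congr rfl fun a _ => ?_
  rw [← Finset.sum_add_distrib]
  refine Finset.sum_congr rfl fun b _ => ?_
  rw [colSum_eq hI hN l a b, add_comm]

include hI in
theorem finrank_tgt_eq_sig :
    Module.finrank k (Tgt I) = ∑ l : Fin 3,
      (Module.finrank k ↥(sigPiece I {l}) + Module.finrank k ↥(sigPiece I ({l}ᶜ : Set (Fin 3)))) := by
  classical
  obtain ⟨N, hN⟩ := exists_bound hI
  rw [finrank_tgt hI, finsum_eq_sum_of_support_subset (s := box N) _ fun α hα => ?_]
  swap
  · by_contra h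
    exact hα (tDim_eq_zero (hN.2 α h))
  simp only [finrank_sigPiece hI hN, ← Finset.sum_add_distrib]
  rw [Finset.sum_comm]
  refine Finset.sum_congr rfl fun α _ => ?_
  show tDim I α = _
  simp only [Fin.sum_univ_three, Fin.forall_fin_succ, Fin.forall_fin_zero_pi, IsEmpty.forall_iff, and_true,
    Set.mem_singleton_iff, Set.mem_compl_iff]
  by_cases h0 : α 0 < 0 <;> by_cases h1 : α 1 < 0 <;> by_cases h2 : α 2 < 0
  all_goals simp [Fin.ext_iff, h0, h1, h2]
  all_goals refine tDim_eq_zero_of_nonneg_or_neg hI ?_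
  · exact Or.inr fun i => by fin_cases i <;> assumption
  · exact Or.inl fun i => by fin_cases i <;> simp <;> omega

end Groth.Agent.Hilb37
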