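import Groth.Agent.Hilb37.Misc

/-! Slices of monomial ideals in three variables. -/

set_option autoImplicit false

namespace Groth.Agent.Hilb37

open MvPolynomial W4c1hilbpn

variable {k : Type*} [Field k] {I : Ideal (MvPolynomial (Fin 3) k)}

/-- The exponent `(a, β)`. -/
noncomputable def cexp (a : ℕ) (β : Fin 2 →₀ ℕ) : Fin 3 →₀ ℕ := Finsupp.single 0 a + Finsupp.mapDomain Fin.succ β

theorem cexp_zero (a : ℕ) (β : Fin 2 →₀ ℕ) : cexp a β 0 = a := by
  rw [cexp, Finsupp.add_apply, Finsupp.mapDomain_notin_range _ _ (by rintro ⟨x, hx⟩; exact Fin.succ_ne_zero x hx)]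
  simp

theorem cexp_succ (a : ℕ) (β : Fin 2 →₀ ℕ) (j : Fin 2) : cexp a β j.succ = β j := by
  rw [cexp, Finsupp.add_apply, Finsupp.mapDomain_apply (Fin.succ_injective _),
    Finsupp.single_eq_of_ne (Fin.succ_ne_zero j), zero_add]

theorem cexp_injective (a : ℕ) : Function.Injective (cexp a) := fun β β' h => Finsupp.ext fun j => by
  rw [← cexp_succ a β j, h, cexp_succ]

theorem slice_coeff (a : ℕ) (f : MvPolynomial (Fin 2) k) (β : Fin 2 →₀ ℕ) :
    coeff (cexp a β) (rename Fin.succ f * X 0 ^ a) = coeff β f := by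
  rw [X_pow_eq_monomial, mul_comm, cexp, coeff_monomial_mul, one_mul, coeff_rename_mapDomain _ (Fin.succ_injective _)]

theorem mem_sliceX {a : ℕ} {f : MvPolynomial (Fin 2) k} : f ∈ sliceX I a ↔ rename Fin.succ f * X 0 ^ a ∈ I := by
  rw [sliceX, Ideal.mem_comap, Submodule.mem_colon_singleton, smul_eq_mul]
  rfl

theorem monomial_slice (a : ℕ) (β : Fin 2 →₀ ℕ) :
    rename Fin.succ (monomial β (1 : k)) * X 0 ^ a = monomial (cexp a β) 1 := by
  rw [rename_monomial, X_pow_eq_monomial, monomial_mul, one_mul, cexp, add_comm (Finsupp.single 0 a)]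

theorem mem_exps_slice {a : ℕ} {β : Fin 2 →₀ ℕ} : β ∈ exps (sliceX I a) ↔ cexp a β ∈ exps I := by
  show monomial β (1 : k) ∈ sliceX I a ↔ _
  rw [mem_sliceX, monomial_slice]
  rfl

theorem isMonomial_slice (hI : IsMonomial I) (a : ℕ) : IsMonomial (sliceX I a) := by
  intro f hf β hβ
  refine mem_exps_slice.mpr (hI _ (mem_sliceX.mp hf) _ ?_)
  rw [mem_support_iff, slice_coeff]
  exact mem_support_iff.mp hβ

theorem stable_slice (hI : IsStronglyStable I) (a : ℕ) : IsStronglyStable (sliceX I a) := by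
  refine ⟨isMonomial_slice hI.1 a, fun β hβ i j hij hj => mem_exps_slice.mpr ?_⟩
  have h := hI.2 _ (mem_exps_slice.mp hβ) i.succ j.succ (Fin.succ_lt_succ_iff.mpr hij) (by rw [cexp_succ]; exact hj)
  convert h using 1
  ext x
  refine Fin.cases ?_ (fun y => ?_) x
  · simp [cexp_zero, (Fin.succ_ne_zero i).symm, (Fin.succ_ne_zero j).symm]
  · simp [cexp_succ, Finsupp.single_apply]

theorem colon_slice_le (hI : IsStronglyStable I) (a : ℕ) :
    (sliceX I a).colon {(MvPolynomial.X 0 : MvPolynomial (Fin 2) k)} ≤ sliceX I (a + 1) := by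
  intro f hf
  rw [Submodule.mem_colon_singleton, smul_eq_mul] at hf
  rw [mem_sliceX, as_sum f, map_sum, Finset.sum_mul]
  refine Ideal.sum_mem _ fun β hβ => ?_
  rw [show monomial β (coeff β f) = C (coeff β f) * monomial β 1 by rw [C_mul_monomial, mul_one], map_mul, mul_assoc,
    monomial_slice]
  refine Ideal.mul_mem_left _ _ ?_
  have h1 : β + Finsupp.single 0 1 ∈ exps (sliceX I a) := isMonomial_slice hI.1 a _ hf _ (by
    rw [mem_support_iff, coeff_mul_X]
    exact mem_support_iff.mp hβ)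
  have h2 := hI.2 _ (mem_exps_slice.mp h1) 0 1 (by decide) (by
    show 0 < cexp a (β + Finsupp.single 0 1) (Fin.succ 0)
    rw [cexp_succ]; simp)
  have e : cexp (a + 1) β = cexp a (β + Finsupp.single 0 1) - Finsupp.single 1 1 + Finsupp.single 0 1 := by
    ext x
    refine Fin.cases ?_ (fun y => ?_) x
    · simp [cexp_zero]
    · simp only [Finsupp.add_apply, Finsupp.tsub_apply, cexp_succ]
      fin_cases y <;> simp
  show cexp (a + 1) β ∈ exps I
  rw [e]
  exact h2

end Groth.Agent.Hilb37
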