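import Groth.Agent.Hilb37.Bound
import Groth.Agent.Hilb37.Slices
import Groth.Agent.Hilb37.Powers3

/-! Strongly stable ideals of bounded colength in three variables. -/

set_option autoImplicit false

namespace Groth.Agent.Hilb37

open MvPolynomial W4c1hilbpn

variable {k : Type*} [Field k] {I : Ideal (MvPolynomial (Fin 3) k)}

variable (I) in
/-- The number of standard monomials with first exponent `a`. -/
noncomputable def sl (a : ℕ) : ℕ := Nat.card {γ : stand I // γ.1 0 = (a : ℤ)}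

theorem pt2_zero (a b c : ℤ) : pt 2 a b c 0 = a := pt_one 2 a b c

theorem pt2_one (a b c : ℤ) : pt 2 a b c 1 = b := pt_two 2 a b c

theorem pt1_zero (a b c : ℤ) : pt 1 a b c 0 = b := pt_two 1 a b c

theorem move_stand (hI : IsStronglyStable I) {γ : Fin 3 → ℤ} (hγ : γ ∈ stand I) {i j : Fin 3} (hij : i < j)
    (hi : 0 < γ i) : γ - ev i + ev j ∈ stand I := by
  have hne : i ≠ j := hij.ne
  have hn : NN (γ - ev i + ev j) := fun x => by
    have := hγ.1 x; have := ev_nonneg j x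
    simp only [Pi.add_apply, Pi.sub_apply]
    by_cases hx : x = i
    · subst hx; rw [ev_self, ev_ne hne]; omega
    · rw [ev_ne hx]; omega
  refine (stand_or_expZ hn).resolve_right fun h => not_expZ_of_stand hγ ?_
  have h2 := stable_expZ hI h hij (by simp [ev_self, ev_ne hne.symm]; have := hγ.1 j; omega)
  convert h2 using 1
  abel

theorem ideal_eq_of_stand {J : Ideal (MvPolynomial (Fin 3) k)} (hI : IsMonomial I) (hJ : IsMonomial J)
    (h : stand I = stand J) : I = J := by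
  have key : ∀ {A B : Ideal (MvPolynomial (Fin 3) k)}, IsMonomial A → stand A = stand B → A ≤ B := by
    intro A B hA he p hp
    rw [as_sum p]
    refine Ideal.sum_mem _ fun β hβ => ?_
    have h1 : β ∈ exps B := by
      by_contra hn
      exact (toZ_mem_stand.mp (he ▸ toZ_mem_stand.mpr hn)) (hA p hp β hβ)
    rw [show monomial β (coeff β p) = C (coeff β p) * monomial β 1 by rw [C_mul_monomial, mul_one]]
    exact Ideal.mul_mem_left _ _ h1
  exact le_antisymm (key hI h) (key hJ h.symm)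

theorem sl_eq_slice (hI : IsMonomial I) (a : ℕ) :
    Module.finrank k (MvPolynomial (Fin 2) k ⧸ sliceX I a) = sl I a := by
  rw [finrank_quot (isMonomial_slice hI a), sl]
  refine Nat.card_congr (Equiv.ofBijective
    (fun β => (⟨⟨toZ (cexp a (toN β.1)), toZ_mem_stand.mpr fun h => β.2.2 (mem_exps_slice.mpr h)⟩,
      by simp [cexp_zero]⟩ : {γ : stand I // γ.1 0 = (a : ℤ)})) ⟨fun β β' h => ?_, fun γ => ?_⟩)
  · have h1 := congrArg (fun z : {γ : stand I // γ.1 0 = (a : ℤ)} => toN z.1.1) h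
    simp only [toN_toZ] at h1
    have h2 := congrArg toZ (cexp_injective a h1)
    rw [toZ_toN β.2.1, toZ_toN β'.2.1] at h2
    exact Subtype.ext h2
  · let β : Fin 2 →₀ ℕ := toN fun j => γ.1.1 j.succ
    have e : cexp a β = toN γ.1.1 := by
      ext x
      refine Fin.cases ?_ (fun y => ?_) x
      · rw [cexp_zero, toN_apply, γ.2]; simp
      · rw [cexp_succ]; rfl
    refine ⟨⟨toZ β, toZ_mem_stand.mpr fun h => γ.1.2.2 (e ▸ mem_exps_slice.mp h)⟩, Subtype.ext (Subtype.ext ?_)⟩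
    show toZ (cexp a (toN (toZ β))) = γ.1.1
    rw [toN_toZ, e, toZ_toN γ.1.2.1]

variable [Module.Finite k (MvPolynomial (Fin 3) k ⧸ I)] (hI : IsStronglyStable I)

include hI in
theorem finite_fibre (a : ℕ) : Finite {γ : stand I // γ.1 0 = (a : ℤ)} := by
  haveI := (stand_finite hI.1).to_subtype
  infer_instance

include hI in
theorem sl_succ_le (a : ℕ) : sl I (a + 1) + stairs I 2 a 0 ≤ sl I a := by
  haveI := finite_fibre hI a
  haveI := finite_fibre hI (a + 1)
  haveI : Finite {c : ℕ // pt 2 (a : ℤ) ((0 : ℕ) : ℤ) c ∈ stand I} :=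
    Finite.of_injective (β := {γ : stand I // γ.1 0 = (a : ℤ)})
      (fun c => ⟨⟨pt 2 (a : ℤ) ((0 : ℕ) : ℤ) c.1, c.2⟩, by simp [pt2_zero]⟩) fun c c' h => by
      have := congrFun (congrArg (fun z : {γ : stand I // γ.1 0 = (a : ℤ)} => z.1.1) h) 2
      simp only [pt_self, Int.ofNat_inj] at this
      exact Subtype.ext this
  rw [stairs, sl, sl, ← Nat.card_sum]
  refine Nat.card_le_card_of_injective (Sum.elim
    (fun γ => (⟨⟨γ.1.1 - ev 0 + ev 1, move_stand hI γ.1.2 (by decide) (by rw [γ.2]; omega)⟩, by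
      simp [ev, γ.2]⟩ : {γ : stand I // γ.1 0 = (a : ℤ)}))
    (fun c => ⟨⟨pt 2 (a : ℤ) ((0 : ℕ) : ℤ) c.1, c.2⟩, by simp [pt2_zero]⟩)) ?_
  rintro (γ | c) (γ' | c') h <;> simp only [Sum.elim_inl, Sum.elim_inr, Subtype.mk.injEq] at h
  · refine congrArg Sum.inl (Subtype.ext (Subtype.ext ?_))
    have h' := congrArg (fun z => z - ev 1 + ev 0) h
    simpa using h'
  · exfalso
    have h1 := congrFun h 1
    rw [show pt 2 (a : ℤ) ((0 : ℕ) : ℤ) c'.1 1 = 0 from pt2_one _ _ _] at h1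
    have := γ.1.2.1 1
    simp [ev] at h1
    omega
  · exfalso
    have h1 := congrFun h 1
    rw [show pt 2 (a : ℤ) ((0 : ℕ) : ℤ) c.1 1 = 0 from pt2_one _ _ _] at h1
    have := γ'.1.2.1 1
    simp [ev] at h1
    omega
  · refine congrArg Sum.inr (Subtype.ext ?_)
    have h1 := congrFun h 2
    rw [pt_self, pt_self] at h1
    exact_mod_cast h1

include hI in
theorem row_lt (a : ℕ) {γ : Fin 3 → ℤ} (hγ : γ ∈ stand I) (ha : γ 0 = (a : ℤ)) :
    γ 1 + γ 2 < (stairs I 2 a 0 : ℤ) := by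
  suffices H : ∀ (m : ℕ) (x : Fin 3 → ℤ), x 1 = (m : ℤ) → x ∈ stand I → x 0 = (a : ℤ) →
      x 1 + x 2 < (stairs I 2 a 0 : ℤ) from H (γ 1).toNat γ (Int.toNat_of_nonneg (hγ.1 1)).symm hγ ha
  intro m
  induction m with
  | zero =>
    intro x h1 hx h0
    obtain ⟨c, hc⟩ : ∃ c : ℕ, x 2 = c := ⟨_, (Int.toNat_of_nonneg (hx.1 2)).symm⟩
    have e : x = pt 2 (a : ℤ) ((0 : ℕ) : ℤ) c := by
      rw [pt_two_eq]
      funext i
      fin_cases i <;> simp [h0, h1, hc]
    have := (lt_stairs_iff hI.1 2 a 0 c).mpr (e ▸ hx)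
    rw [h1, hc]
    omega
  | succ m ih =>
    intro x h1 hx h0
    have := ih (x - ev 1 + ev 2) (by simp [ev, h1]) (move_stand hI hx (by decide) (by omega)) (by simp [ev, h0])
    simp [ev] at this
    omega

include hI in
theorem sl_le_choose (a : ℕ) : sl I a ≤ (stairs I 2 a 0 + 1).choose 2 := by
  set N := stairs I 2 a 0
  have hcard : Nat.card (Σ y : Fin N, Fin (N - y)) = (N + 1).choose 2 := by
    rw [Nat.card_eq_fintype_card, Fintype.card_sigma]
    simp only [Fintype.card_fin]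
    rw [Fin.sum_univ_eq_sum_range (fun y => N - y) N]
    rw [← hockey 0 N N le_rfl]
    exact Finset.sum_congr rfl fun y _ => (Nat.choose_one_right _).symm
  rw [← hcard]
  refine Nat.card_le_card_of_injective (fun γ : {γ : stand I // γ.1 0 = (a : ℤ)} =>
    (⟨⟨(γ.1.1 1).toNat, by have := row_lt hI a γ.1.2 γ.2; have := γ.1.2.1 2; have := γ.1.2.1 1; omega⟩,
      ⟨(γ.1.1 2).toNat, by have := row_lt hI a γ.1.2 γ.2; have := γ.1.2.1 2; have := γ.1.2.1 1; show _ < N - _; simp only; omega⟩⟩ :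
      Σ y : Fin N, Fin (N - y))) fun γ γ' h => ?_
  obtain ⟨h1, h2⟩ := Sigma.mk.inj_iff.mp h
  have e1 := Fin.val_eq_of_eq h1
  have e2 := (Fin.heq_ext_iff (by rw [show _ = _ from e1])).mp h2
  simp only at e1 e2
  refine Subtype.ext (Subtype.ext (funext fun i => ?_))
  have := γ.1.2.1 1; have := γ.1.2.1 2; have := γ'.1.2.1 1; have := γ'.1.2.1 2
  fin_cases i <;> simp [γ.2, γ'.2] <;> omega

include hI in
theorem first_lt {r : ℕ} (hd : Module.finrank k (MvPolynomial (Fin 3) k ⧸ I) ≤ (r + 2).choose 3)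
    {γ : Fin 3 → ℤ} (hγ : γ ∈ stand I) : γ 0 < r := by
  by_contra hge
  have hsub : stand (mPow k 3 (r + 1)) ⊆ stand I := by
    intro x hx
    obtain ⟨hn, hs⟩ := mem_stand_mPow.mp hx
    refine (stand_or_expZ hn).resolve_right fun h => ?_
    suffices H : ∀ (m : ℕ) (y : Fin 3 → ℤ), y 1 + y 2 = (m : ℤ) → ∑ i, y i ≤ r → y ∈ expZ I → False from
      H (x 1 + x 2).toNat x (Int.toNat_of_nonneg (add_nonneg (hn 1) (hn 2))).symm (by omega) h
    intro m
    induction m with
    | zero =>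
      intro y hy hys hy'
      refine not_expZ_of_stand hγ (expZ_mono hy' fun i => ?_)
      have := hy'.1 1; have := hy'.1 2; have := hγ.1 1; have := hγ.1 2
      rw [Fin.sum_univ_three] at hys
      fin_cases i <;> simp <;> omega
    | succ m ih =>
      intro y hy hys hy'
      have := hy'.1 2
      by_cases h1 : 0 < y 1
      · exact ih (y - ev 1 + ev 0) (by simp [ev]; omega) (by
          rw [Fin.sum_univ_three] at hys ⊢; simp [ev]; omega) (stable_expZ hI hy' (by decide) h1)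
      · exact ih (y - ev 2 + ev 0) (by simp [ev]; omega) (by
          rw [Fin.sum_univ_three] at hys ⊢; simp [ev]; omega) (stable_expZ hI hy' (by decide) (by omega))
  haveI := finite_quot_mPow (k := k) (n := 3) (r := r + 1)
  have h := Nat.card_mono (stand_finite hI.1) hsub
  rw [← finrank_quot isMonomial_mPow, ← finrank_quot hI.1, finrank_quot_mPow] at h
  have := Nat.choose_succ_succ' (r + 2) 2
  have : 0 < (r + 2).choose 2 := Nat.choose_pos (by omega)
  simp only [show r + 1 + 2 = r + 3 from rfl] at h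
  have e : (r + 3).choose 3 = (r + 2).choose 2 + (r + 2).choose 3 := Nat.choose_succ_succ' (r + 2) 2
  omega

include hI in
theorem sl_zero {r : ℕ} (hd : Module.finrank k (MvPolynomial (Fin 3) k ⧸ I) ≤ (r + 2).choose 3) {a : ℕ} (ha : r ≤ a) :
    sl I a = 0 := by
  haveI : IsEmpty {γ : stand I // γ.1 0 = (a : ℤ)} := ⟨fun γ => by
    have := first_lt hI hd γ.1.2
    have := γ.2
    omega⟩
  exact Nat.card_of_isEmpty

include hI in
theorem finrank_eq_sum_sl {r : ℕ} (hd : Module.finrank k (MvPolynomial (Fin 3) k ⧸ I) ≤ (r + 2).choose 3) :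
    Module.finrank k (MvPolynomial (Fin 3) k ⧸ I) = ∑ i ∈ Finset.range r, sl I i := by
  haveI : ∀ i : Fin r, Finite {γ : stand I // γ.1 0 = ((i : ℕ) : ℤ)} := fun i => finite_fibre hI _
  rw [finrank_quot hI.1, ← Fin.sum_univ_eq_sum_range (fun i => sl I i) r]
  simp only [sl]
  rw [← Nat.card_sigma]
  exact Nat.card_congr
    { toFun := fun γ => ⟨⟨(γ.1 0).toNat, by have := first_lt hI hd γ.2; have := γ.2.1 0; omega⟩, γ,
        (Int.toNat_of_nonneg (γ.2.1 0)).symm⟩
      invFun := fun p => p.2.1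
      left_inv := fun γ => rfl
      right_inv := fun ⟨⟨i, hi⟩, γ, hγ⟩ => by
        have e : (γ.1 0).toNat = i := by rw [hγ]; simp
        subst e
        rfl }

/-- The slice counts of `(x, y, z)^r`. -/
def tr (r i : ℕ) : ℕ := (r - i + 1).choose 2

theorem sum_tr (r : ℕ) : ∑ i ∈ Finset.range r, tr r i = (r + 2).choose 3 := by
  rw [← hockey 1 (r + 1) (r + 1) le_rfl, Finset.sum_range_succ]
  simp only [Nat.reduceAdd]
  rw [show (r + 1 - r).choose 2 = 0 by simp [show r + 1 - r = 1 by omega], add_zero]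
  refine Finset.sum_congr rfl fun i hi => ?_
  rw [tr]; congr 1
  simp only [Finset.mem_range] at hi
  omega

theorem sum_mul_tr (r : ℕ) : ∑ i ∈ Finset.range r, (i + 1) * tr r i = (r + 3).choose 4 := by
  induction r with
  | zero => simp
  | succ r ih =>
    rw [Finset.sum_range_succ']
    have e : ∀ i ∈ Finset.range r, (i + 1 + 1) * tr (r + 1) (i + 1) = (i + 1) * tr r i + tr r i := fun i _ => by
      rw [tr, tr, Nat.succ_sub_succ]; ring
    rw [Finset.sum_congr rfl e, Finset.sum_add_distrib, ih, sum_tr]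
    simp only [tr, Nat.sub_zero, zero_add, one_mul]
    have h1 : (r + 4).choose 4 = (r + 3).choose 3 + (r + 3).choose 4 := Nat.choose_succ_succ' (r + 3) 3
    have h2 : (r + 3).choose 3 = (r + 2).choose 2 + (r + 2).choose 3 := Nat.choose_succ_succ' (r + 2) 2
    show _ = (r + 4).choose 4
    have h3 : (r + 1 + 1).choose 2 = (r + 2).choose 2 := rfl
    omega

theorem choose_two_succ (m : ℕ) : (m + 1).choose 2 = m + m.choose 2 := by
  rw [Nat.choose_succ_succ', Nat.choose_one_right]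

theorem step_le_tr {r i : ℕ} (hi : i < r) {s s' N : ℕ} (hs : s ≤ tr r i) (h1 : s' + N ≤ s) (h2 : s ≤ (N + 1).choose 2) :
    s' ≤ tr r (i + 1) := by
  obtain ⟨m, hm⟩ : ∃ m, r - i = m + 1 := ⟨r - i - 1, by omega⟩
  rw [tr, hm] at hs
  rw [tr, show r - (i + 1) + 1 = m + 1 by omega]
  rw [choose_two_succ (m + 1)] at hs
  rw [choose_two_succ N] at h2
  by_cases h : m + 1 ≤ N
  · omega
  · have := Nat.choose_le_choose 2 (show N ≤ m + 1 by omega)
    omega

include hI in
theorem dominated {r : ℕ} {j : ℕ} (hj : sl I j ≤ tr r j) : ∀ i, j ≤ i → i < r → sl I i ≤ tr r i := by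
  intro i hji
  induction i, hji using Nat.le_induction with
  | base => exact fun _ => hj
  | succ i _ ih => exact fun hi => step_le_tr (by omega) (ih (by omega)) (sl_succ_le hI i) (sl_le_choose hI i)

include hI in
theorem tail_le {r : ℕ} (hd : Module.finrank k (MvPolynomial (Fin 3) k ⧸ I) ≤ (r + 2).choose 3) {j : ℕ} (hj : j ≤ r) :
    ∑ i ∈ Finset.Ico j r, sl I i ≤ ∑ i ∈ Finset.Ico j r, tr r i := by
  rcases hj.lt_or_eq with hlt | rfl
  · by_cases h : sl I j ≤ tr r j
    · refine Finset.sum_le_sum fun i hi => ?_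
      simp only [Finset.mem_Ico] at hi
      exact dominated hI h i hi.1 hi.2
    · have hhead : ∑ i ∈ Finset.range j, tr r i ≤ ∑ i ∈ Finset.range j, sl I i := Finset.sum_le_sum fun i hi => by
        simp only [Finset.mem_range] at hi
        by_contra hlt'
        exact h (dominated hI (le_of_lt (not_le.mp hlt')) j (le_of_lt hi) hlt)
      have e1 := Finset.sum_range_add_sum_Ico (fun i => sl I i) hj
      have e2 := Finset.sum_range_add_sum_Ico (fun i => tr r i) hj
      rw [← finrank_eq_sum_sl hI hd] at e1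
      rw [sum_tr] at e2
      omega
  · simp

include hI in
theorem eq_mPow_of_tails {r : ℕ} (hd : Module.finrank k (MvPolynomial (Fin 3) k ⧸ I) ≤ (r + 2).choose 3)
    (h : ∀ j, j < r → ∑ i ∈ Finset.Ico j r, sl I i = ∑ i ∈ Finset.Ico j r, tr r i) : I = mPow k 3 r := by
  have heq : ∀ i, i < r → sl I i = tr r i := fun i hi => by
    have h1 := h i hi
    rw [Finset.sum_eq_sum_Ico_succ_bot hi, Finset.sum_eq_sum_Ico_succ_bot hi] at h1
    rcases Nat.lt_or_ge (i + 1) r with h2 | h2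
    · rw [h (i + 1) h2] at h1; omega
    · rw [Finset.Ico_eq_empty (by omega), Finset.sum_empty, Finset.sum_empty] at h1; omega
  have hN : ∀ i, i < r → stairs I 2 i 0 ≤ r - i := fun i hi => by
    have h1 := sl_succ_le hI i
    rw [heq i hi] at h1
    rcases Nat.lt_or_ge (i + 1) r with h2 | h2
    · rw [heq (i + 1) h2, tr, tr, show r - (i + 1) + 1 = r - i by omega, choose_two_succ (r - i)] at h1
      omega
    · rw [tr, show r - i = 1 by omega] at h1
      simp at h1
      omega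
  have hsub : stand I ⊆ stand (mPow k 3 r) := fun γ hγ => by
    have h0 := first_lt hI hd hγ
    obtain ⟨a, ha⟩ : ∃ a : ℕ, γ 0 = a := ⟨_, (Int.toNat_of_nonneg (hγ.1 0)).symm⟩
    have h1 := row_lt hI a hγ ha
    have h2 := hN a (by omega)
    refine mem_stand_mPow.mpr ⟨hγ.1, ?_⟩
    rw [Fin.sum_univ_three]
    omega
  haveI := finite_quot_mPow (k := k) (n := 3) (r := r)
  refine ideal_eq_of_stand hI.1 isMonomial_mPow (Set.eq_of_subset_of_ncard_le hsub ?_ (stand_finite isMonomial_mPow))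
  rw [← Nat.card_coe_set_eq, ← Nat.card_coe_set_eq, ← finrank_quot isMonomial_mPow, ← finrank_quot hI.1,
    finrank_quot_mPow, finrank_eq_sum_sl hI hd, Finset.sum_congr rfl fun i hi => heq i (Finset.mem_range.mp hi), sum_tr]

theorem sum_mul_eq_tails (f : ℕ → ℕ) (r : ℕ) :
    ∑ i ∈ Finset.range r, (i + 1) * f i = ∑ j ∈ Finset.range r, ∑ i ∈ Finset.Ico j r, f i := by
  rw [← sum_ite_le_nested r f]
  refine Finset.sum_congr rfl fun a _ => ?_
  rw [← Finset.sum_filter]
  refine Finset.sum_congr (Finset.ext fun x => ?_) fun _ _ => rfl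
  simp only [Finset.mem_filter, Finset.mem_range, Finset.mem_Ico]
  tauto

include hI in
theorem weighted_le {r : ℕ} (hd : Module.finrank k (MvPolynomial (Fin 3) k ⧸ I) ≤ (r + 2).choose 3) :
    ∑ i ∈ Finset.range r, (i + 1) * sl I i ≤ (r + 3).choose 4 ∧
      ((r + 3).choose 4 ≤ ∑ i ∈ Finset.range r, (i + 1) * sl I i → I = mPow k 3 r) := by
  rw [← sum_mul_tr, sum_mul_eq_tails, sum_mul_eq_tails]
  have h : ∀ j ∈ Finset.range r, ∑ i ∈ Finset.Ico j r, sl I i ≤ ∑ i ∈ Finset.Ico j r, tr r i := fun j hj =>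
    tail_le hI hd (le_of_lt (Finset.mem_range.mp hj))
  refine ⟨Finset.sum_le_sum h, fun hge => eq_mPow_of_tails hI hd fun j hj => ?_⟩
  exact (Finset.sum_eq_sum_iff_of_le h).mp (le_antisymm (Finset.sum_le_sum h) hge) j (Finset.mem_range.mpr hj)

include hI in
theorem sum_stairs_two {N : ℕ} (hN : Bounded I N) (i : ℕ) : ∑ j ∈ Finset.range (N + 1), stairs I 2 i j = sl I i := by
  classical
  haveI := (stand_finite hI.1).to_subtype
  haveI : ∀ b : Fin (N + 1), Finite {c : ℕ // pt 2 (i : ℤ) ((b : ℕ) : ℤ) c ∈ stand I} := fun b =>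
    Finite.of_injective (β := stand I) (fun c => ⟨_, c.2⟩) fun c c' h => by
      have := congrFun (congrArg Subtype.val h) 2
      simp only [pt_self, Int.ofNat_inj] at this
      exact Subtype.ext this
  rw [← Fin.sum_univ_eq_sum_range (fun j => stairs I 2 i j)]
  simp only [stairs, ← Nat.card_sigma, sl]
  refine Nat.card_congr (Equiv.ofBijective
    (fun p => (⟨⟨pt 2 (i : ℤ) ((p.1 : ℕ) : ℤ) p.2.1, p.2.2⟩, by simp [pt2_zero]⟩ : {γ : stand I // γ.1 0 = (i : ℤ)}))
    ⟨?_, fun γ => ?_⟩)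
  · rintro ⟨⟨b, hb⟩, c, hc⟩ ⟨⟨b', hb'⟩, c', hc'⟩ e
    have e' := congrArg (fun z : {γ : stand I // γ.1 0 = (i : ℤ)} => z.1.1) e
    have h1 := congrFun e' (2 + 2)
    have h2 := congrFun e' 2
    simp only [pt_two, pt_self, Int.ofNat_inj, Nat.cast_inj] at h1 h2
    subst h1 h2
    rfl
  · refine ⟨⟨⟨(γ.1.1 1).toNat, by have := hN.1 _ γ.1.2 1; omega⟩, (γ.1.1 2).toNat, ?_⟩, Subtype.ext (Subtype.ext ?_)⟩
    all_goals
      have e : pt 2 (i : ℤ) ((γ.1.1 1).toNat : ℤ) ((γ.1.1 2).toNat : ℤ) = γ.1.1 := by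
        refine Eq.trans ?_ (pt_eta 2 γ.1.1)
        rw [Int.toNat_of_nonneg (γ.1.2.1 1), Int.toNat_of_nonneg (γ.1.2.1 2), show γ.1.1 ((2 + 1 : Fin 3)) = (i : ℤ) from γ.2]
        rfl
    · exact e.symm ▸ γ.1.2
    · exact e

include hI in
theorem sum_stairs_one {N : ℕ} (hN : Bounded I N) (i : ℕ) : ∑ j ∈ Finset.range (N + 1), stairs I 1 j i = sl I i := by
  classical
  haveI := (stand_finite hI.1).to_subtype
  haveI : ∀ b : Fin (N + 1), Finite {c : ℕ // pt 1 ((b : ℕ) : ℤ) (i : ℤ) c ∈ stand I} := fun b =>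
    Finite.of_injective (β := stand I) (fun c => ⟨_, c.2⟩) fun c c' h => by
      have := congrFun (congrArg Subtype.val h) 1
      simp only [pt_self, Int.ofNat_inj] at this
      exact Subtype.ext this
  rw [← Fin.sum_univ_eq_sum_range (fun j => stairs I 1 j i)]
  simp only [stairs, ← Nat.card_sigma, sl]
  refine Nat.card_congr (Equiv.ofBijective
    (fun p => (⟨⟨pt 1 ((p.1 : ℕ) : ℤ) (i : ℤ) p.2.1, p.2.2⟩, by simp [pt1_zero]⟩ : {γ : stand I // γ.1 0 = (i : ℤ)}))
    ⟨?_, fun γ => ?_⟩)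
  · rintro ⟨⟨b, hb⟩, c, hc⟩ ⟨⟨b', hb'⟩, c', hc'⟩ e
    have e' := congrArg (fun z : {γ : stand I // γ.1 0 = (i : ℤ)} => z.1.1) e
    have h1 := congrFun e' (1 + 1)
    have h2 := congrFun e' 1
    simp only [pt_one, pt_self, Int.ofNat_inj, Nat.cast_inj] at h1 h2
    subst h1 h2
    rfl
  · refine ⟨⟨⟨(γ.1.1 2).toNat, by have := hN.1 _ γ.1.2 2; omega⟩, (γ.1.1 1).toNat, ?_⟩, Subtype.ext (Subtype.ext ?_)⟩
    all_goals
      have e : pt 1 ((γ.1.1 2).toNat : ℤ) (i : ℤ) ((γ.1.1 1).toNat : ℤ) = γ.1.1 := by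
        refine Eq.trans ?_ (pt_eta 1 γ.1.1)
        rw [Int.toNat_of_nonneg (γ.1.2.1 1), Int.toNat_of_nonneg (γ.1.2.1 2), show γ.1.1 ((1 + 2 : Fin 3)) = (i : ℤ) from γ.2]
        rfl
    · exact e.symm ▸ γ.1.2
    · exact e

include hI in
theorem weighted_eq {r N : ℕ} (hd : Module.finrank k (MvPolynomial (Fin 3) k ⧸ I) ≤ (r + 2).choose 3) (hN : r ≤ N) :
    ∑ i ∈ Finset.range (N + 1), (i + 1) * sl I i = ∑ i ∈ Finset.range r, (i + 1) * sl I i := by
  refine (Finset.sum_subset (Finset.range_mono (by omega)) fun i _ hi => ?_).symm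
  rw [sl_zero hI hd (by simpa using hi), mul_zero]

include hI in
theorem sig_le {r : ℕ} (hd : Module.finrank k (MvPolynomial (Fin 3) k ⧸ I) ≤ (r + 2).choose 3) {l : Fin 3} (hl : l ≠ 0) :
    Module.finrank k ↥(sigPiece I {l}) ≤ ∑ i ∈ Finset.range r, (i + 1) * sl I i := by
  obtain ⟨N₀, hN₀⟩ := exists_bound hI.1
  set N := max N₀ r
  have hN := hN₀.mono (le_max_left N₀ r)
  refine (finrank_sig_single_le hI.1 hN l).trans (le_of_eq ?_)
  rw [← weighted_eq hI hd (le_max_right N₀ r)]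
  rcases (by omega : l = 1 ∨ l = 2) with rfl | rfl
  · rw [Finset.sum_comm]
    refine Finset.sum_congr rfl fun j _ => ?_
    rw [← sum_stairs_one hI hN j, Finset.mul_sum]
    have h := telescope_mul (fun i => stairs I 1 i j) (fun i => (stairs_anti hI.1 1 i j).1) (N + 1)
    have hz : stairs I 1 (N + 1) j = 0 := stairs_eq_zero hI.1 hN 1 (Or.inl (by omega))
    simp only [hz, mul_zero, add_zero] at h
    rw [← Finset.mul_sum, ← h, Finset.mul_sum]
    refine Finset.sum_congr rfl fun i _ => ?_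
    rw [nbr, max_eq_left]
    · ring
    · by_contra hlt
      have h1 := (lt_stairs_iff hI.1 1 i (j + 1) (stairs I 1 (i + 1) j)).mp (not_le.mp hlt)
      refine lt_irrefl _ ((lt_stairs_iff hI.1 1 (i + 1) j _).mpr ?_)
      have h2 := move_stand hI h1 (i := 0) (j := 2) (by decide) (by simp [pt_one_eq] <;> omega)
      convert h2 using 1
      rw [pt_one_eq, pt_one_eq]
      funext x
      simp only [Pi.add_apply, Pi.sub_apply, ev, Pi.single_apply]
      fin_cases x <;> simp
  · refine Finset.sum_congr rfl fun i _ => ?_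
    rw [← sum_stairs_two hI hN i, ← Finset.mul_sum]
    have h := telescope_mul (fun j => stairs I 2 i j) (fun j => (stairs_anti hI.1 2 i j).2) (N + 1)
    have hz : stairs I 2 i (N + 1) = 0 := stairs_eq_zero hI.1 hN 2 (Or.inr (by omega))
    simp only [hz, mul_zero, add_zero] at h
    rw [← h]
    congr 1
    refine Finset.sum_congr rfl fun j _ => ?_
    rw [nbr, max_eq_right]
    by_contra hlt
    have h1 := (lt_stairs_iff hI.1 2 (i + 1) j (stairs I 2 i (j + 1))).mp (not_le.mp hlt)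
    refine lt_irrefl _ ((lt_stairs_iff hI.1 2 i (j + 1) _).mpr ?_)
    have h2 := move_stand hI h1 (i := 0) (j := 1) (by decide) (by simp [pt_two_eq] <;> omega)
    convert h2 using 1
    rw [pt_two_eq, pt_two_eq]
    funext x
    simp only [Pi.add_apply, Pi.sub_apply, ev, Pi.single_apply]
    fin_cases x <;> simp

include hI in
theorem sig_bounds {r : ℕ} (hd : Module.finrank k (MvPolynomial (Fin 3) k ⧸ I) = (r + 2).choose 3) {l : Fin 3} (hl : l ≠ 0) :
    (Module.finrank k ↥(sigPiece I {l}) ≤ (r + 3).choose 4 ∧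
      (Module.finrank k ↥(sigPiece I {l}) = (r + 3).choose 4 ↔ I = mPow k 3 r)) ∧
    (Module.finrank k ↥(sigPiece I ({l}ᶜ : Set (Fin 3))) ≤ (r + 2).choose 4 ∧
      (Module.finrank k ↥(sigPiece I ({l}ᶜ : Set (Fin 3))) = (r + 2).choose 4 ↔ I = mPow k 3 r)) := by
  have h1 := sig_le hI hd.le hl
  obtain ⟨h2, h3⟩ := weighted_le hI hd.le
  have h4 := finrank_sig_eq hI.1 l
  rw [hd] at h4
  have h5 : (r + 3).choose 4 = (r + 2).choose 3 + (r + 2).choose 4 := Nat.choose_succ_succ' (r + 2) 3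
  refine ⟨⟨h1.trans h2, fun e => h3 (by omega), fun e => ?_⟩, by omega, fun e => h3 (by omega), fun e => ?_⟩
  · subst e; exact finrank_sig_mPow l
  · subst e; exact finrank_sigCompl_mPow l

end Groth.Agent.Hilb37
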