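import Groth.Agent.Hilb37.DegZero
import Mathlib.Algebra.Order.Antidiag.FinsuppEquiv
import Mathlib.Algebra.BigOperators.Fin

/-! The ideals `x0 (x0, …, x_{n-1}) + x1^q (x1, …, x_m)`. -/

set_option autoImplicit false

namespace Groth.Agent.Hilb37

open MvPolynomial W4c1hilbpn

variable {k : Type*} [Field k]

/-- The unit vector at the index `i`. -/
def eN (n i : ℕ) : Fin (n + 1) → ℤ := fun x => if x.val = i then 1 else 0

theorem eN_apply (n i : ℕ) (x : Fin (n + 1)) : eN n i x = if x.val = i then 1 else 0 := rfl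

theorem sum_eN {n i : ℕ} (h : i ≤ n) : ∑ x, eN n i x = 1 := by
  rw [Finset.sum_eq_single ⟨i, by omega⟩] <;> simp +contextual [eN, Fin.ext_iff]

theorem eq_eN_of_sum {n : ℕ} {γ : Fin (n + 1) → ℤ} (h : NN γ) (hs : ∑ x, γ x = 1) : ∃ l ≤ n, γ = eN n l := by
  obtain ⟨x, hx⟩ : ∃ x, γ x ≠ 0 := by
    by_contra hc
    push Not at hc
    simp [hc] at hs
  have h1 : γ x ≤ 1 := hs ▸ Finset.single_le_sum (fun i _ => h i) (Finset.mem_univ x)
  refine ⟨x.val, by omega, funext fun y => ?_⟩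
  have := h x
  have := h y
  by_cases e : y = x
  · subst e
    simp [eN]; omega
  · have h2 : γ y + γ x ≤ 1 := by
      rw [← hs, ← Finset.sum_pair e]
      exact Finset.sum_le_univ_sum_of_nonneg fun i => h i
    rw [eN, if_neg fun h => e (Fin.ext h)]; omega

theorem val_one_fin {n : ℕ} (hn : 1 ≤ n) : ((1 : Fin (n + 1)) : ℕ) = 1 := by
  obtain ⟨m, rfl⟩ : ∃ m, n = m + 1 := ⟨n - 1, by omega⟩
  simp

theorem single_le_iff' {n : ℕ} {x : Fin (n + 1) → ℤ} (hx : NN x) (a b : Fin (n + 1)) (p : ℕ) :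
    toZ (Finsupp.single a p + Finsupp.single b 1) ≤ x ↔
      (p : ℤ) + (if a = b then 1 else 0) ≤ x a ∧ 1 ≤ x b + 0 := by
  classical
  constructor
  · intro h
    have h1 := h a
    have h2 := h b
    simp only [toZ_apply, Finsupp.add_apply, Finsupp.single_apply] at h1 h2
    by_cases hab : a = b
    · subst hab; simp only [if_true] at h1 h2 ⊢; omega
    · simp only [if_true, if_neg hab, if_neg (Ne.symm hab)] at h1 h2 ⊢; omega
  · rintro ⟨h1, h2⟩ y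
    have := hx y
    simp only [toZ_apply, Finsupp.add_apply, Finsupp.single_apply]
    by_cases hb : b = y <;> by_cases ha : a = y
    · subst hb; subst ha; simp only [if_true] at h1 ⊢; omega
    · subst hb; simp only [if_neg ha, if_true]; omega
    · subst ha; simp only [if_neg hb, if_true] at h1 ⊢; split_ifs at h1 <;> omega
    · simp only [if_neg ha, if_neg hb]; omega

theorem isHomogeneous_sum_le {n : ℕ} {x : Fin (n + 1) → ℤ} (hx : NN x) (a b : Fin (n + 1)) (h : a ≠ b) :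
    x a + x b ≤ ∑ i, x i := by
  rw [← Finset.sum_pair h]
  exact Finset.sum_le_univ_sum_of_nonneg fun i => hx i

theorem eq_eN_of_mid_zero {n d : ℕ} {γ : Fin (n + 1) → ℤ} (h0 : γ 0 = 1)
    (hm : ∀ i : Fin (n + 1), 1 ≤ i.val → i.val < n → γ i = 0) (hs : ∑ x, γ x = (d : ℤ) + 1) (hn : 1 ≤ n) :
    γ = fun x => eN n 0 x + (d : ℤ) * eN n n x := by
  have e : ∑ x, γ x = γ 0 + γ (Fin.last n) := by
    rw [← Finset.sum_pair (show (0 : Fin (n + 1)) ≠ Fin.last n by simp [Fin.ext_iff]; omega)]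
    refine (Finset.sum_subset (Finset.subset_univ _) fun i _ hi => ?_).symm
    simp only [Finset.mem_insert, Finset.mem_singleton, Fin.ext_iff, Fin.val_last, Fin.val_zero, not_or] at hi
    exact hm i (by omega) (by omega)
  funext x
  by_cases hx : x.val = 0
  · obtain rfl : x = 0 := Fin.ext hx
    simp only [eN]; split_ifs <;> simp_all <;> omega
  by_cases hx' : x.val = n
  · obtain rfl : x = Fin.last n := Fin.ext hx'
    simp [eN]
    split_ifs <;> omega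
  · rw [hm x (by omega) (by omega)]
    simp [eN, hx, hx']

variable (k) in
/-- The two-block ideal. -/
noncomputable def twoBlock (n q m : ℕ) : Ideal (MvPolynomial (Fin (n + 1)) k) :=
  Ideal.span ({f : MvPolynomial (Fin (n + 1)) k | ∃ i : Fin (n + 1), i.val + 1 ≤ n ∧ f = MvPolynomial.X 0 * MvPolynomial.X i} ∪
    {f : MvPolynomial (Fin (n + 1)) k | ∃ i : Fin (n + 1), 1 ≤ i.val ∧ i.val ≤ m ∧ f = MvPolynomial.X 1 ^ q * MvPolynomial.X i})

/-- Exponents of its generators. -/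
def blockGens (n q m : ℕ) : Set (Fin (n + 1) →₀ ℕ) :=
  {g | (∃ i : Fin (n + 1), i.val + 1 ≤ n ∧ g = Finsupp.single 0 1 + Finsupp.single i 1) ∨
    ∃ i : Fin (n + 1), 1 ≤ i.val ∧ i.val ≤ m ∧ g = Finsupp.single 1 q + Finsupp.single i 1}

theorem twoBlock_eq (n q m : ℕ) :
    twoBlock k n q m = Ideal.span ((fun β => monomial β (1 : k)) '' blockGens n q m) := by
  rw [twoBlock]
  congr 1
  have e : ∀ (a i : Fin (n + 1)) (p : ℕ), (X a : MvPolynomial (Fin (n + 1)) k) ^ p * X i =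
      monomial (Finsupp.single a p + Finsupp.single i 1) 1 := fun a i p => by
    rw [X_pow_eq_monomial, show (X i : MvPolynomial (Fin (n + 1)) k) = monomial (Finsupp.single i 1) 1 from rfl,
      monomial_mul, one_mul]
  ext f
  constructor
  · rintro (⟨i, hi, rfl⟩ | ⟨i, h1, h2, rfl⟩)
    · refine ⟨_, Or.inl ⟨i, hi, rfl⟩, ?_⟩
      show monomial _ (1 : k) = _
      rw [← e, pow_one]
    · exact ⟨_, Or.inr ⟨i, h1, h2, rfl⟩, (e _ _ _).symm⟩
  · rintro ⟨_, ⟨i, hi, rfl⟩ | ⟨i, h1, h2, rfl⟩, rfl⟩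
    · exact Or.inl ⟨i, hi, show monomial _ (1 : k) = _ by rw [← e, pow_one]⟩
    · exact Or.inr ⟨i, h1, h2, show monomial _ (1 : k) = _ by rw [e]⟩

theorem isMonomial_twoBlock (n q m : ℕ) : IsMonomial (twoBlock k n q m) := by
  rw [twoBlock_eq]; exact isMonomial_span _

variable {n q m : ℕ}

theorem mem_expZ_block (hn : 2 ≤ n) {x : Fin (n + 1) → ℤ} : x ∈ expZ (twoBlock k n q m) ↔ NN x ∧
    ((∃ i : Fin (n + 1), i.val + 1 ≤ n ∧ 1 ≤ x 0 ∧ (i.val = 0 → 2 ≤ x 0) ∧ 1 ≤ x i) ∨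
      ∃ i : Fin (n + 1), 1 ≤ i.val ∧ i.val ≤ m ∧ (q : ℤ) ≤ x 1 ∧ (i.val = 1 → (q : ℤ) + 1 ≤ x 1) ∧ 1 ≤ x i) := by
  rw [twoBlock_eq, mem_expZ_span]
  refine and_congr_right fun hx => ⟨?_, ?_⟩
  · rintro ⟨g, (⟨i, hi, rfl⟩ | ⟨i, h1, h2, rfl⟩), hle⟩
    · obtain ⟨ha, hb⟩ := (single_le_iff' hx _ _ _).mp hle
      refine Or.inl ⟨i, hi, ?_, fun e => ?_, by omega⟩
      · split_ifs at ha <;> omega
      · rw [if_pos (Fin.ext (by simp [e]))] at ha; omega
    · obtain ⟨ha, hb⟩ := (single_le_iff' hx _ _ _).mp hle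
      refine Or.inr ⟨i, h1, h2, ?_, fun e => ?_, by omega⟩
      · split_ifs at ha <;> omega
      · rw [if_pos (Fin.ext (by rw [e, val_one_fin (by omega : 1 ≤ n)]))] at ha; omega
  · rintro (⟨i, hi, h0, h00, hi1⟩ | ⟨i, h1, h2, hq, hq1, hi1⟩)
    · refine ⟨_, Or.inl ⟨i, hi, rfl⟩, (single_le_iff' hx _ _ _).mpr ⟨?_, by omega⟩⟩
      split_ifs with e
      · have := h00 (by rw [← e]; rfl); omega
      · omega
    · refine ⟨_, Or.inr ⟨i, h1, h2, rfl⟩, (single_le_iff' hx _ _ _).mpr ⟨?_, by omega⟩⟩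
      split_ifs with e
      · have := hq1 (by rw [← e, val_one_fin (by omega : 1 ≤ n)]); omega
      · omega

theorem mem_stand_block (hn : 2 ≤ n) {x : Fin (n + 1) → ℤ} : x ∈ stand (twoBlock k n q m) ↔ NN x ∧
    (∀ i : Fin (n + 1), i.val + 1 ≤ n → ¬ (1 ≤ x 0 ∧ (i.val = 0 → 2 ≤ x 0) ∧ 1 ≤ x i)) ∧
    ∀ i : Fin (n + 1), 1 ≤ i.val → i.val ≤ m → ¬ ((q : ℤ) ≤ x 1 ∧ (i.val = 1 → (q : ℤ) + 1 ≤ x 1) ∧ 1 ≤ x i) := by
  constructor
  · intro h
    have h' := not_expZ_of_stand h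
    rw [mem_expZ_block hn] at h'
    exact ⟨h.1, fun i hi hc => h' ⟨h.1, Or.inl ⟨i, hi, hc⟩⟩, fun i h1 h2 hc => h' ⟨h.1, Or.inr ⟨i, h1, h2, hc⟩⟩⟩
  · rintro ⟨hn', hA, hB⟩
    refine (stand_or_expZ hn').resolve_right fun h => ?_
    rw [mem_expZ_block hn] at h
    rcases h.2 with ⟨i, hi, hc⟩ | ⟨i, h1, h2, hc⟩
    · exact hA i hi hc
    · exact hB i h1 h2 hc

theorem stand_head (hn : 2 ≤ n) {x : Fin (n + 1) → ℤ} (h : x ∈ stand (twoBlock k n q m)) (h0 : 1 ≤ x 0) :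
    x 0 = 1 ∧ ∀ i : Fin (n + 1), 1 ≤ i.val → i.val < n → x i = 0 := by
  obtain ⟨hx, hA, -⟩ := (mem_stand_block hn).mp h
  refine ⟨?_, fun i h1 h2 => ?_⟩
  · by_contra hc
    exact hA 0 (by simp; omega) ⟨h0, fun _ => by omega, h0⟩
  · by_contra hc
    exact hA i (by omega) ⟨h0, fun e => by omega, by have := hx i; omega⟩

theorem mem_expZ_genA (hn : 2 ≤ n) (i : ℕ) (hi : i + 1 ≤ n) :
    (fun x => eN n 0 x + eN n i x) ∈ expZ (twoBlock k n q m) := by
  rw [mem_expZ_block hn]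
  refine ⟨fun x => by simp only [eN]; split_ifs <;> omega, Or.inl ⟨⟨i, by omega⟩, hi, ?_, fun e => ?_, ?_⟩⟩ <;>
    simp [eN] at * <;> split_ifs <;> omega

theorem mem_expZ_genB (hn : 2 ≤ n) (i : ℕ) (h1 : 1 ≤ i) (h2 : i ≤ m) (hi : i ≤ n) :
    (fun x => (q : ℤ) * eN n 1 x + eN n i x) ∈ expZ (twoBlock k n q m) := by
  have hone := val_one_fin (show 1 ≤ n by omega)
  rw [mem_expZ_block hn]
  refine ⟨fun x => by simp only [eN]; split_ifs <;> omega, Or.inr ⟨⟨i, by omega⟩, h1, h2, ?_, fun e => ?_, ?_⟩⟩ <;>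
    simp only [eN, hone, mul_ite, mul_one, mul_zero] at * <;> split_ifs <;> omega

end Groth.Agent.Hilb37
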