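import Groth.Agent.Hilb37.TwoBlockFamily
import Mathlib.Algebra.BigOperators.Group.Finset.Piecewise

/-! The standard family spans the degree-zero maps of the two-block ideal. -/

set_option autoImplicit false

namespace Groth.Agent.Hilb37

open MvPolynomial W4c1hilbpn

variable {k : Type*} [Field k] {n q m : ℕ}

/-- The generators as integer points. -/
def genA (n i : ℕ) : Fin (n + 1) → ℤ := fun x => eN n 0 x + eN n i x

/-- The generators as integer points. -/
def genB (n q l : ℕ) : Fin (n + 1) → ℤ := fun x => (q : ℤ) * eN n 1 x + eN n l x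

theorem sum_genA {i : ℕ} (h : i ≤ n) : ∑ x, genA n i x = 2 := by
  simp only [genA, Finset.sum_add_distrib, sum_eN (Nat.zero_le _), sum_eN h]; norm_num

theorem sum_genB {l : ℕ} (hn : 1 ≤ n) (h : l ≤ n) : ∑ x, genB n q l x = (q : ℤ) + 1 := by
  simp only [genB, Finset.sum_add_distrib, ← Finset.mul_sum, sum_eN hn, sum_eN h, mul_one]

theorem gen_cases (hn : 2 ≤ n) {x : Fin (n + 1) → ℤ} (h : x ∈ expZ (twoBlock k n q m)) :
    ∃ g, ((∃ i, i + 1 ≤ n ∧ g = genA n i) ∨ ∃ l, 1 ≤ l ∧ l ≤ m ∧ l ≤ n ∧ g = genB n q l) ∧ g ≤ x := by
  have hone := val_one_fin (show 1 ≤ n by omega)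
  obtain ⟨hx, ⟨i, hi, c0, c00, ci⟩ | ⟨i, h1, h2, cq, cq1, ci⟩⟩ := (mem_expZ_block hn).mp h
  · refine ⟨genA n i.val, Or.inl ⟨_, hi, rfl⟩, fun y => ?_⟩
    show eN n 0 y + eN n i.val y ≤ x y
    have := hx y
    by_cases hy : y.val = i.val
    · obtain rfl : y = i := Fin.ext hy
      by_cases hy0 : y.val = 0
      · obtain rfl : y = 0 := Fin.ext hy0
        have := c00 rfl
        simp only [eN]; split_ifs <;> first | omega | contradiction
      · simp only [eN]; split_ifs <;> first | omega | contradiction
    · by_cases hy0 : y.val = 0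
      · obtain rfl : y = 0 := Fin.ext hy0
        simp only [eN]; split_ifs <;> first | omega | contradiction
      · simp only [eN]; split_ifs <;> first | omega | contradiction
  · refine ⟨genB n q i.val, Or.inr ⟨_, h1, h2, by omega, rfl⟩, fun y => ?_⟩
    show (q : ℤ) * eN n 1 y + eN n i.val y ≤ x y
    have := hx y
    simp only [eN, mul_ite, mul_one, mul_zero]
    by_cases hy : y.val = i.val
    · obtain rfl : y = i := Fin.ext hy
      by_cases hy1 : y.val = 1
      · have := cq1 hy1
        obtain rfl : y = 1 := Fin.ext (by omega)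
        split_ifs <;> first | omega | contradiction
      · split_ifs <;> first | omega | contradiction
    · by_cases hy1 : y.val = 1
      · obtain rfl : y = 1 := Fin.ext (by omega)
        split_ifs <;> first | omega | contradiction
      · split_ifs <;> first | omega | contradiction

theorem stand_head_eq (hn : 2 ≤ n) {γ : Fin (n + 1) → ℤ} {d : ℕ} (h : γ ∈ stand (twoBlock k n q m)) (h0 : 1 ≤ γ 0)
    (hs : ∑ x, γ x = (d : ℤ) + 1) : γ = fun x => eN n 0 x + (d : ℤ) * eN n n x :=
  eq_eN_of_mid_zero (stand_head hn h h0).1 (stand_head hn h h0).2 hs (by omega)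

/-- Standard monomials with one more variable. -/
theorem stand_add {γ : Fin (n + 1) → ℤ} (hn : 2 ≤ n) (h : γ ∈ stand (twoBlock k n q m)) (h0 : γ 0 = 0) {v : ℕ}
    (hv1 : 1 ≤ v) (hv : v ≤ n)
    (hB : ∀ l : Fin (n + 1), 1 ≤ l.val → l.val ≤ m → l.val = v → (q : ℤ) ≤ γ 1 → False)
    (h1 : v = 1 → γ 1 + 1 < q ∨ (∀ l : Fin (n + 1), 2 ≤ l.val → l.val ≤ m → γ l = 0) ∧ γ 1 < q) :
    (fun x => γ x + eN n v x) ∈ stand (twoBlock k n q m) := by
  have hone := val_one_fin (show 1 ≤ n by omega)
  have hz : ((0 : Fin (n + 1)) : ℕ) = 0 := rfl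
  obtain ⟨hx, -, hB'⟩ := (mem_stand_block hn).mp h
  refine (mem_stand_block hn).mpr ⟨fun x => by have := hx x; simp only [eN]; split_ifs <;> omega, fun i hi => ?_, fun i i1 i2 => ?_⟩
  · rintro ⟨c, -, -⟩
    simp only [eN, hz] at c
    split_ifs at c <;> omega
  · rintro ⟨c1, c2, c3⟩
    simp only [eN, hone] at c1 c2 c3
    by_cases hiv : i.val = v
    · refine hB i i1 i2 hiv ?_
      by_cases h : v = 1
      · have := c2 (hiv.trans h); split_ifs at * <;> omega
      · split_ifs at * <;> omega
    · rw [if_neg hiv, add_zero] at c3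
      by_cases hv' : v = 1
      · rw [if_pos hv'.symm] at c1
        rcases h1 hv' with h' | ⟨h', h''⟩
        · omega
        · have := h' i (by omega) i2; omega
      · rw [if_neg (Ne.symm hv')] at c1 c2
        exact hB' i i1 i2 ⟨by omega, fun e => by have := c2 e; omega, c3⟩

theorem add_eN_sub (γ g : Fin (n + 1) → ℤ) (α : Fin (n + 1) → ℤ) (hg : g + α = γ) (v : ℕ) :
    (fun x => g x + eN n v x) + α = fun x => γ x + eN n v x := by
  funext x
  have := congrFun hg x
  simp only [Pi.add_apply] at this ⊢
  omega

theorem A_link (hn : 2 ≤ n) {α : Fin (n + 1) → ℤ} {f : (Fin (n + 1) → ℤ) → k}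
    (hf : f ∈ RegFun (twoBlock k n q m) α) {i j : ℕ} (hi : i + 1 ≤ n) (hj : j + 1 ≤ n) (hij : i ≠ j)
    (hst : (fun x => (genA n i + α) x + eN n j x) ∈ stand (twoBlock k n q m)) :
    f (genA n i + α) = f (genA n j + α) ∧ ((genA n j + α) ∉ stand (twoBlock k n q m) → f (genA n i + α) = 0) := by
  have he : f (genA n i + α) = f (genA n j + α) := by
    refine RegFun.link hf (g := genA n i) (h := genA n j) (l := fun x => genA n i x + eN n j x)
      (mem_expZ_genA hn i hi) (mem_expZ_genA hn j hj) (fun x => ?_) (fun x => ?_) ?_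
    · show genA n i x ≤ genA n i x + eN n j x
      simp only [eN]; split_ifs <;> omega
    · show genA n j x ≤ genA n i x + eN n j x
      simp only [genA, eN]; split_ifs <;> omega
    · rwa [add_eN_sub _ _ α rfl]
  exact ⟨he, fun h => he.trans (hf.1 _ fun h' => h h'.1)⟩

theorem B_link (hn : 2 ≤ n) {α : Fin (n + 1) → ℤ} {f : (Fin (n + 1) → ℤ) → k}
    (hf : f ∈ RegFun (twoBlock k n q m) α) {i j : ℕ} (hi : 1 ≤ i) (hi' : i ≤ m) (hj : 1 ≤ j) (hj' : j ≤ m)
    (hmn : m ≤ n) (hst : (fun x => (genB n q i + α) x + eN n j x) ∈ stand (twoBlock k n q m)) :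
    f (genB n q i + α) = f (genB n q j + α) := by
  refine RegFun.link hf (g := genB n q i) (h := genB n q j) (l := fun x => genB n q i x + eN n j x)
      (mem_expZ_genB hn i hi hi' (by omega)) (mem_expZ_genB hn j hj hj' (by omega)) (fun x => ?_) (fun x => ?_) ?_
  · show genB n q i x ≤ genB n q i x + eN n j x
    simp only [eN]; split_ifs <;> omega
  · show genB n q j x ≤ genB n q i x + eN n j x
    simp only [genB, eN]; split_ifs <;> omega
  · rwa [add_eN_sub _ _ α rfl]

theorem eq_zero_of_reps (hm2 : 2 ≤ m) (hmn : m + 2 ≤ n) (hq : 1 ≤ q) (α : Fin (n + 1) → ℤ) (hα : ∑ x, α x = 0)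
    {f : (Fin (n + 1) → ℤ) → k} (hf : f ∈ RegFun (twoBlock k n q m) α)
    (hrep : ∀ t : BIdx n q m, bAl n q m t = α → f (bS n q m t) = 0)
    (hextra : genA n (n - 1) + α ∈ stand (twoBlock k n q m) → (genA n (n - 1) + α) 0 = 0 →
      (genA n (n - 1) + α) ⟨n - 1, by omega⟩ = 0 →
      (∀ v : ℕ, 1 ≤ v → v + 2 ≤ n → (fun x => (genA n (n - 1) + α) x + eN n v x) ∉ stand (twoBlock k n q m)) →
      f (genA n (n - 1) + α) = 0) :
    f = 0 := by
  classical
  have hn : 2 ≤ n := by omega
  have hone := val_one_fin (show 1 ≤ n by omega)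
  have hz : ((0 : Fin (n + 1)) : ℕ) = 0 := rfl
  refine RegFun.eq_zero_of_gen (I := twoBlock k n q m)
    (fun g => (∃ i, i + 1 ≤ n ∧ g = genA n i) ∨ ∃ l, 1 ≤ l ∧ l ≤ m ∧ l ≤ n ∧ g = genB n q l)
    (fun x hx => gen_cases hn hx) (fun g hg => ?_) hf fun g hg hs => ?_
  · rcases hg with ⟨i, hi, rfl⟩ | ⟨l, h1, h2, h3, rfl⟩
    · exact mem_expZ_genA hn i hi
    · exact mem_expZ_genB hn l h1 h2 h3
  -- the value of the last generator of the first block
  have hlast : ∀ (hs : genA n (n - 1) + α ∈ stand (twoBlock k n q m)), (genA n (n - 1) + α) 0 = 0 →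
      f (genA n (n - 1) + α) = 0 := fun hs h0 => by
    set μ := genA n (n - 1) + α with hμ
    have hsum : ∑ x, μ x = 2 := by
      simp only [hμ, Pi.add_apply, Finset.sum_add_distrib, sum_genA (show n - 1 ≤ n by omega), hα, add_zero]
    by_cases hμn : 1 ≤ μ ⟨n - 1, by omega⟩
    · obtain ⟨l, hl, hl'⟩ := eq_eN_of_sum (γ := fun x => μ x - eN n (n - 1) x) (fun x => by
        have := hs.1 x
        by_cases hx : x.val = n - 1
        · rw [show x = ⟨n - 1, by omega⟩ from Fin.ext hx]; simp [eN]; omega
        · simp [eN, hx]; omega) (by rw [Finset.sum_sub_distrib, hsum, sum_eN (by omega)]; norm_num)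
      have h00 := congrFun hl' 0
      have hl0 : l ≠ 0 := fun e => by
        subst e
        simp only [eN, hz, h0] at h00
        split_ifs at h00 <;> omega
      have e : bS n q m (.inr (.inr (.inl ⟨l - 1, by omega⟩))) = μ := funext fun x => by
        have := congrFun hl' x
        simp only [bS, show l - 1 + 1 = l by omega] at this ⊢
        omega
      rw [← e]
      refine hrep _ (funext fun x => ?_)
      have h1 := congrFun hl' x
      simp only [hμ, Pi.add_apply, genA] at h1
      simp only [bAl, show l - 1 + 1 = l by omega]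
      omega
    · by_cases hv : ∃ v : ℕ, 1 ≤ v ∧ v + 2 ≤ n ∧ (fun x => μ x + eN n v x) ∈ stand (twoBlock k n q m)
      · obtain ⟨v, hv1, hv2, hv3⟩ := hv
        refine (A_link hn hf (by omega) (by omega) (by omega) hv3).2 fun h => ?_
        have h' := h.1 ⟨n - 1, by omega⟩
        have e : μ ⟨n - 1, by omega⟩ = genA n (n - 1) ⟨n - 1, by omega⟩ + α ⟨n - 1, by omega⟩ := rfl
        simp only [Pi.add_apply, genA, eN] at h' e
        split_ifs at * <;> first | omega | contradiction
      · push Not at hv
        exact hextra hs h0 (by have := hs.1 ⟨n - 1, by omega⟩; omega) hv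
  -- the second generator of the second block
  have hB2 : genB n q 2 + α ∈ stand (twoBlock k n q m) → (genB n q 2 + α) 0 = 0 →
      1 ≤ (genB n q 2 + α) ⟨2, by omega⟩ → f (genB n q 2 + α) = 0 := fun hs h0 h2 => by
    set ν := genB n q 2 + α with hν
    let F : Fin (n + 1) →₀ ℕ := Finsupp.equivFunOnFinite.symm fun x => (ν x - eN n 2 x).toNat
    have hnn : ∀ x, 0 ≤ ν x - eN n 2 x := fun x => by
      have := hs.1 x
      by_cases hx : x.val = 2
      · rw [show x = ⟨2, by omega⟩ from Fin.ext hx]; simp [eN]; omega
      · simp [eN, hx]; omega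
    have hF : ∀ x, ((F x : ℕ) : ℤ) = ν x - eN n 2 x := fun x => Int.toNat_of_nonneg (hnn x)
    have hFmem : F ∈ fSet n q := by
      refine mem_fSet.mpr ⟨fun e => ?_, ?_, ?_⟩
      · have h1 := hF 1
        rw [e, Finsupp.single_eq_same] at h1
        obtain ⟨-, -, hB⟩ := (mem_stand_block hn).mp hs
        refine hB ⟨2, by omega⟩ (by simp) (by simpa using hm2) ⟨?_, fun e => by simp at e, h2⟩
        simp only [eN, hone] at h1
        split_ifs at h1 <;> omega
      · have h1 := hF 0
        rw [h0] at h1
        simp only [eN, hz] at h1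
        split_ifs at h1 <;> omega
      · have : ((∑ x, F x : ℕ) : ℤ) = q := by
          rw [Nat.cast_sum, Finset.sum_congr rfl fun x _ => hF x, Finset.sum_sub_distrib, sum_eN (by omega)]
          simp only [hν, Pi.add_apply, Finset.sum_add_distrib, sum_genB (show 1 ≤ n by omega) (show 2 ≤ n by omega), hα]
          ring
        exact_mod_cast this
    have e : bS n q m (.inr (.inr (.inr (.inr ⟨F, hFmem⟩)))) = ν := funext fun x => by
      simp only [bS, hF]; ring
    rw [← e]
    refine hrep _ (funext fun x => ?_)
    simp only [bAl, hF, hν, Pi.add_apply, genB]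
    ring
  rcases hg with ⟨i, hi, rfl⟩ | ⟨j, hj1, hj2, hjn, rfl⟩
  · -- first block
    set μ := genA n i + α with hμ
    have hsum : ∑ x, μ x = ((1 : ℕ) : ℤ) + 1 := by
      simp only [hμ, Pi.add_apply, Finset.sum_add_distrib, sum_genA (show i ≤ n by omega), hα]; norm_num
    by_cases h0 : 1 ≤ μ 0
    · have e := stand_head_eq hn hs h0 hsum
      have e' : bS n q m (.inl ⟨i, by omega⟩) = μ := funext fun x => by
        rw [e]; simp [bS]
      rw [← e']
      refine hrep _ (funext fun x => ?_)
      have h1 := congrFun e x
      simp only [hμ, Pi.add_apply, genA, Nat.cast_one, one_mul] at h1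
      simp only [bAl]
      omega
    · have h0' : μ 0 = 0 := by have := hs.1 0; omega
      by_cases hin : i = n - 1
      · subst hin; exact hlast hs h0'
      · have hst : (fun x => μ x + eN n (n - 1) x) ∈ stand (twoBlock k n q m) :=
          stand_add hn hs h0' (v := n - 1) (by omega) (by omega) (fun l _ h2 e => by omega) (fun e => by omega)
        obtain ⟨he, hz'⟩ := A_link hn hf hi (j := n - 1) (by omega) hin hst
        rw [he]
        by_cases hs' : genA n (n - 1) + α ∈ stand (twoBlock k n q m)
        · by_cases hi0 : i = 0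
          · exfalso
            subst hi0
            have := hs'.1 0
            simp only [hμ, Pi.add_apply, genA, eN, hz] at h0' this
            split_ifs at * <;> omega
          · refine hlast hs' ?_
            simp only [hμ, Pi.add_apply, genA, eN, hz] at h0' ⊢
            split_ifs at * <;> omega
        · exact hf.1 _ fun h => hs' h.1
  · -- second block
    set ν := genB n q j + α with hν
    have hsum : ∑ x, ν x = (q : ℤ) + 1 := by
      simp only [hν, Pi.add_apply, Finset.sum_add_distrib, sum_genB (show 1 ≤ n by omega) hjn, hα, add_zero]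
    by_cases h0 : 1 ≤ ν 0
    · have e := stand_head_eq hn hs h0 hsum
      have e' : bS n q m (.inr (.inl ⟨j - 1, by omega⟩)) = ν := by rw [e]; rfl
      rw [← e']
      refine hrep _ (funext fun x => ?_)
      have h1 := congrFun e x
      simp only [hν, Pi.add_apply, genB] at h1
      simp only [bAl, show j - 1 + 1 = j by omega]
      linarith
    · have h0' : ν 0 = 0 := by have := hs.1 0; omega
      obtain ⟨-, -, hBs⟩ := (mem_stand_block hn).mp hs
      by_cases hq1 : (q : ℤ) ≤ ν 1
      · -- a move
        obtain ⟨l, hl, hl'⟩ := eq_eN_of_sum (γ := fun x => ν x - (q : ℤ) * eN n 1 x) (fun x => by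
          have := hs.1 x
          by_cases hx : x.val = 1
          · rw [show x = 1 from Fin.ext (by omega)]; simp [eN, hone]; omega
          · simp [eN, hx]; omega) (by rw [Finset.sum_sub_distrib, ← Finset.mul_sum, hsum, sum_eN (by omega)]; ring)
        have hl0 : l ≠ 0 := fun e => by
          have := congrFun hl' 0
          subst e
          simp [eN, h0'] at this
        have hlm : m < l := by
          by_contra hc
          have h1 := congrFun hl' ⟨l, by omega⟩
          have h2 := congrFun hl' 1
          simp only [eN, hone] at h1 h2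
          refine hBs ⟨l, by omega⟩ (show 1 ≤ l by omega) (show l ≤ m by omega) ⟨hq1, fun e => ?_, ?_⟩
          · replace e : l = 1 := e
            subst e
            simp at h2; omega
          · by_cases e : l = 1
            · subst e
              rw [show (⟨1, by omega⟩ : Fin (n + 1)) = 1 from Fin.ext hone.symm]
              omega
            · simp [e] at h1; omega
        have e' : bS n q m (.inr (.inr (.inr (.inl (⟨j - 1, by omega⟩, ⟨l - m - 1, by omega⟩))))) = ν := funext fun x => by
          have := congrFun hl' x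
          simp only [bS, show m + 1 + (l - m - 1) = l by omega] at this ⊢
          linarith
        rw [← e']
        refine hrep _ (funext fun x => ?_)
        have h1 := congrFun hl' x
        simp only [hν, Pi.add_apply, genB] at h1
        simp only [bAl, show m + 1 + (l - m - 1) = l by omega, show j - 1 + 1 = j by omega]
        linarith
      · have hst2 : (fun x => ν x + eN n 2 x) ∈ stand (twoBlock k n q m) :=
          stand_add hn hs h0' (v := 2) (by omega) (by omega) (fun l _ _ e h => by omega) (fun e => by omega)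
        by_cases hj : j = 2
        · subst hj
          by_cases h2 : 1 ≤ ν ⟨2, by omega⟩
          · exact hB2 hs h0' h2
          · have h2' : ν ⟨2, by omega⟩ = 0 := by have := hs.1 ⟨2, by omega⟩; omega
            by_cases hm3 : 3 ≤ m
            · have hst : (fun x => ν x + eN n 3 x) ∈ stand (twoBlock k n q m) :=
                stand_add hn hs h0' (v := 3) (by omega) (by omega) (fun l _ _ e h => by omega) (fun e => by omega)
              rw [B_link hn hf hj1 hj2 (j := 3) (by omega) hm3 (by omega) hst]
              refine hf.1 _ fun h => ?_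
              have h' := h.1.1 ⟨2, by omega⟩
              simp only [hν, Pi.add_apply, genB, eN, mul_ite, mul_one, mul_zero] at h' h2'
              split_ifs at * <;> first | omega | contradiction
            · have hst : (fun x => ν x + eN n 1 x) ∈ stand (twoBlock k n q m) := by
                refine stand_add hn hs h0' (v := 1) (by omega) (by omega) (fun l _ _ e h => by omega) (fun _ => Or.inr ⟨fun l hl1 hl2 => ?_, by omega⟩)
                rw [show l = ⟨2, by omega⟩ from Fin.ext (show l.val = 2 by omega)]; exact h2'
              rw [B_link hn hf hj1 hj2 (j := 1) le_rfl (by omega) (by omega) hst]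
              refine hf.1 _ fun h => ?_
              have h' := h.1.1 ⟨2, by omega⟩
              simp only [hν, Pi.add_apply, genB, eN, mul_ite, mul_one, mul_zero] at h' h2'
              split_ifs at * <;> first | omega | contradiction
        · rw [B_link hn hf hj1 hj2 (j := 2) (by omega) hm2 (by omega) hst2]
          by_cases hs' : genB n q 2 + α ∈ stand (twoBlock k n q m)
          · refine hB2 hs' ?_ ?_
            · simp only [hν, Pi.add_apply, genB, eN, hz, mul_ite, mul_one, mul_zero] at h0' ⊢
              split_ifs at * <;> first | omega | contradiction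
            · have := hs.1 ⟨2, by omega⟩
              simp only [hν, Pi.add_apply, genB, eN, mul_ite, mul_one, mul_zero] at this ⊢
              split_ifs at * <;> first | omega | contradiction
          · exact hf.1 _ fun h => hs' h.1

end Groth.Agent.Hilb37

namespace Groth.Agent.Hilb37

open MvPolynomial W4c1hilbpn

variable {k : Type*} [Field k] {n q m : ℕ}

theorem family_fun (hm2 : 2 ≤ m) (hmn : m + 2 ≤ n) (hq : 1 ≤ q) (t : BIdx n q m) :
    ∃ f ∈ RegFun (twoBlock k n q m) (bAl n q m t), f (bS n q m t) = 1 ∧
      ∀ t', bAl n q m t' = bAl n q m t → t' ≠ t → f (bS n q m t') = 0 := by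
  refine ⟨_, indFun_mem (bU_valid1 hm2 (by omega) hq t) (bU_valid2 hm2 (by omega) hq t), ?_, fun t' e hne => ?_⟩
  · exact if_pos (bS_stand hm2 (by omega) hq (Or.inr hmn) t)
  · exact if_neg fun h => bS_separate hm2 (by omega) hq t t' e hne h.2.2

theorem card_BIdx (hn : 1 ≤ n) (hmn : m ≤ n) :
    Fintype.card (BIdx n q m) = n + (m + (n + (m * (n - m) + ((n + q - 1).choose q - 1)))) := by
  simp only [BIdx, Fintype.card_sum, Fintype.card_prod, Fintype.card_fin, Fintype.card_coe, card_fSet hn]

theorem finrank_twoBlock (hm2 : 2 ≤ m) (hq : 1 ≤ q) (hcase : m + 3 ≤ n ∨ (m + 2 ≤ n ∧ 3 ≤ q)) :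
    Module.finrank k ↥(⨆ α : {α : Fin (n + 1) → ℤ // ∑ i, α i = 0}, tPiece (twoBlock k n q m) α.1) =
      n + (m + (n + (m * (n - m) + ((n + q - 1).choose q - 1)))) := by
  classical
  have hmn : m + 2 ≤ n := by omega
  rw [finrank_iSup_eq_card (isMonomial_twoBlock n q m) (bAl n q m) (bS n q m) (fun α => ∑ i, α i = 0)
    (sum_bAl (by omega) (by omega)) (family_fun hm2 hmn hq)
    (fun α hα f hf hrep => eq_zero_of_reps hm2 hmn hq α hα hf hrep fun hs h0 hlast hno => ?_), card_BIdx (by omega) (by omega)]
  exfalso
  rcases hcase with h | ⟨-, h⟩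
  · exact hno (n - 2) (by omega) (by omega)
      (stand_add (by omega) hs h0 (v := n - 2) (by omega) (by omega) (fun l _ _ _ _ => by omega) (fun e => by omega))
  · refine hno 2 (by omega) (by omega)
      (stand_add (by omega) hs h0 (v := 2) (by omega) (by omega) (fun l _ _ _ hl => ?_) (fun e => by omega))
    have hsum : ∑ x, (genA n (n - 1) + α) x = 2 := by
      simp only [Pi.add_apply, Finset.sum_add_distrib, sum_genA (show n - 1 ≤ n by omega), hα, add_zero]
    have := Finset.single_le_sum (fun i _ => hs.1 i) (Finset.mem_univ (1 : Fin (n + 1)))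
    omega

/-- The exceptional degree for `q = 1`, `m = n - 2`. -/
def xAl (n : ℕ) : Fin (n + 1) → ℤ := fun x => eN n 1 x + eN n n x - eN n 0 x - eN n (n - 1) x

/-- Its point. -/
def xS (n : ℕ) : Fin (n + 1) → ℤ := fun x => eN n 1 x + eN n n x

set_option maxHeartbeats 2000000 in
theorem xAl_ne (hn : 4 ≤ n) (t : BIdx n 1 (n - 2)) : bAl n 1 (n - 2) t ≠ xAl n := by
  intro e
  have hone := val_one_fin (show 1 ≤ n by omega)
  have hz : ((0 : Fin (n + 1)) : ℕ) = 0 := rfl
  have hl : ((Fin.last n : Fin (n + 1)) : ℕ) = n := rfl
  have e0 := congrFun e 0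
  have e1 := congrFun e 1
  have en := congrFun e (Fin.last n)
  rcases t with i | j | l | ⟨j, l⟩ | f
  all_goals simp only [bAl, xAl, eN, hone, hz, hl, Nat.cast_one, one_mul] at e0 e1 en
  all_goals try (have hf := (mem_fSet.mp f.2).2.1)
  all_goals (split_ifs at * <;> first | omega | contradiction)

set_option maxHeartbeats 2000000 in
theorem finrank_twoBlock_special (hn : 4 ≤ n) :
    Module.finrank k ↥(⨆ α : {α : Fin (n + 1) → ℤ // ∑ i, α i = 0}, tPiece (twoBlock k n 1 (n - 2)) α.1) =
      6 * n - 6 := by
  classical
  have hone := val_one_fin (show 1 ≤ n by omega)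
  have hz : ((0 : Fin (n + 1)) : ℕ) = 0 := rfl
  rw [finrank_iSup_eq_card (isMonomial_twoBlock n 1 (n - 2)) (T := BIdx n 1 (n - 2) ⊕ Unit)
    (Sum.elim (bAl n 1 (n - 2)) fun _ => xAl n) (Sum.elim (bS n 1 (n - 2)) fun _ => xS n)
    (fun α => ∑ i, α i = 0) ?_ ?_ ?_]
  · rw [Fintype.card_sum, card_BIdx (by omega) (by omega), Fintype.card_unit,
      show n + 1 - 1 = n from Nat.add_sub_cancel n 1, Nat.choose_one_right, show n - (n - 2) = 2 by omega]
    omega
  · rintro (t | _)
    · exact sum_bAl (by omega) (by omega) t
    · simp only [Sum.elim_inr, xAl, Finset.sum_sub_distrib, Finset.sum_add_distrib]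
      rw [sum_eN (by omega), sum_eN le_rfl, sum_eN (by omega), sum_eN (by omega)]
      norm_num
  · rintro (t | _)
    · obtain ⟨f, hf, h1, h0⟩ := family_fun (k := k) (n := n) (q := 1) (m := n - 2) (by omega) (by omega) le_rfl t
      refine ⟨f, hf, h1, ?_⟩
      rintro (t' | _) e hne
      · exact h0 t' e fun e' => hne (by rw [e'])
      · exact absurd e.symm (xAl_ne hn t)
    · refine ⟨indFun (twoBlock k n 1 (n - 2)) (xAl n) (fun γ => γ 0 = 0), indFun_mem ?_ ?_, if_pos ?_, ?_⟩
      · intro γ γ' he hle' hs hU
        have hle : ∀ x, γ x ≤ γ' x := hle'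
        obtain ⟨hge, hI⟩ := sub_al_ge he (by omega)
        obtain ⟨hx', -, hB⟩ := (mem_stand_block (by omega : 2 ≤ n)).mp hs
        have g0 := hge 0
        have g1 := hge 1
        have l0 := hle 0
        have l1 := hle 1
        simp only [Sum.elim_inr, xAl, eN, hone, hz] at g0 g1 hge hI
        simp only [show ¬ ((0 : ℕ) = 1) by omega, show ¬ (0 = n) by omega, show ¬ (0 = n - 1) by omega, show ¬ ((1 : ℕ) = 0) by omega,
          show ¬ (1 = n) by omega, show ¬ (1 = n - 1) by omega, if_false, if_true] at g0 g1 hI
        have hb : 1 ≤ γ' 1 := by omega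
        have key : 0 ≤ γ 0 ∧ 0 ≤ γ ⟨n - 1, by omega⟩ := by
          have gn := hge ⟨n - 1, by omega⟩
          rcases hI with ⟨a, ha, c0, c00, ca⟩ | ⟨a, ha1, ha2, cq, cq1, ca⟩
          · have la := hle a
            refine ⟨by split_ifs at * <;> first | omega | contradiction, ?_⟩
            by_cases ha0 : a.val = 0
            · have := c00 ha0; exfalso; split_ifs at * <;> first | omega | contradiction
            by_cases han : a.val = n - 1
            · rw [show (⟨n - 1, by omega⟩ : Fin (n + 1)) = a from Fin.ext han.symm]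
              split_ifs at * <;> first | omega | contradiction
            exfalso
            refine hB a (by omega) (by omega) ⟨by omega, fun e => ?_, ?_⟩
            · obtain rfl : a = 1 := Fin.ext (by omega)
              split_ifs at * <;> first | omega | contradiction
            · split_ifs at * <;> first | omega | contradiction
          · have la := hle a
            exfalso
            refine hB a ha1 ha2 ⟨by omega, fun e => ?_, ?_⟩
            · have := cq1 e; split_ifs at * <;> first | omega | contradiction
            · split_ifs at * <;> first | omega | contradiction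
        refine ⟨fun x => ?_, by omega⟩
        have := hge x
        by_cases hx0 : x.val = 0
        · rw [show x = 0 from Fin.ext hx0]; exact key.1
        by_cases hxn : x.val = n - 1
        · rw [show x = ⟨n - 1, by omega⟩ from Fin.ext hxn]; exact key.2
        split_ifs at * <;> first | omega | contradiction
      · intro γ γ' he hle' hs hn0 hU
        have hle : ∀ x, γ x ≤ γ' x := hle'
        obtain ⟨hge, -⟩ := sub_al_ge he (by omega)
        have g1 := hge 1
        have l1 := hle 1
        simp only [Sum.elim_inr, xAl, eN, hone] at g1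
        by_contra hc
        have := (stand_head (by omega : 2 ≤ n) hs (by have := hs.1 0; omega)).2 1 (by omega) (by omega)
        split_ifs at * <;> first | omega | contradiction
      · refine ⟨?_, ?_, by simp only [Sum.elim_inr, xS, eN, hz]; split_ifs <;> first | omega | contradiction⟩
        · refine (mem_stand_block (by omega : 2 ≤ n)).mpr ⟨fun x => by simp only [Sum.elim_inr, xS, eN]; split_ifs <;> omega,
            fun a ha => ?_, fun a h1 h2 => ?_⟩
          · rintro ⟨c1, c2, c3⟩
            simp only [Sum.elim_inr, xS, eN, hz] at c1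
            split_ifs at * <;> first | omega | contradiction
          · rintro ⟨c1, c2, c3⟩
            simp only [Sum.elim_inr, xS, eN, hone] at c1 c2 c3
            split_ifs at * <;> first | omega | contradiction
        · have e : Sum.elim (bS n 1 (n - 2)) (fun _ => xS n) (Sum.inr ()) - xAl n = genA n (n - 1) := funext fun x => by
            simp only [Sum.elim_inr, Pi.sub_apply, xS, xAl, genA]; ring
          rw [e]
          exact mem_expZ_genA (by omega) (n - 1) (by omega)
      · rintro (t' | _) e hne
        · exact absurd e (xAl_ne hn t')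
        · exact absurd rfl hne
  · intro α hα f hf hrep
    refine eq_zero_of_reps (by omega) (by omega) le_rfl α hα hf (fun t => hrep (.inl t)) fun hs h0 hlast hno => ?_
    set μ := genA n (n - 1) + α with hμ
    have hsum : ∑ x, μ x = 2 := by
      simp only [hμ, Pi.add_apply, Finset.sum_add_distrib, sum_genA (show n - 1 ≤ n by omega), hα, add_zero]
    have h1 : 1 ≤ μ 1 := by
      by_contra hc
      exact hno 2 (by omega) (by omega)
        (stand_add (by omega) hs h0 (v := 2) (by omega) (by omega) (fun l _ _ _ hl => by omega) (fun e => by omega))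
    obtain ⟨l, hl, hl'⟩ := eq_eN_of_sum (γ := fun x => μ x - eN n 1 x) (fun x => by
      have := hs.1 x
      by_cases hx : x.val = 1
      · rw [show x = 1 from Fin.ext (by omega)]; simp [eN, hone]; omega
      · simp [eN, hx]; omega) (by rw [Finset.sum_sub_distrib, hsum, sum_eN (by omega)]; norm_num)
    have hln : l = n := by
      by_contra hc
      have hl1 := congrFun hl' ⟨l, by omega⟩
      have hl0 := congrFun hl' 0
      have hll := congrFun hl' ⟨n - 1, by omega⟩
      simp only [eN, hz, h0, hlast] at hl0 hll hl1
      by_cases hlm : 1 ≤ l ∧ l ≤ n - 2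
      · obtain ⟨-, -, hB⟩ := (mem_stand_block (by omega : 2 ≤ n)).mp hs
        have h11 := congrFun hl' 1
        simp only [eN, hone] at h11
        refine hB ⟨l, by omega⟩ hlm.1 hlm.2 ⟨by omega, fun e => ?_, ?_⟩
        · replace e : l = 1 := e
          split_ifs at * <;> first | omega | contradiction
        · split_ifs at * <;> first | omega | contradiction
      · split_ifs at * <;> first | omega | contradiction
    subst hln
    have e : xS l = μ := funext fun x => by
      have := congrFun hl' x
      simp only [xS] at this ⊢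
      omega
    rw [← e]
    refine hrep (.inr ()) (funext fun x => ?_)
    have := congrFun e x
    simp only [xS, hμ, Pi.add_apply, genA] at this
    simp only [Sum.elim_inr, xAl]
    omega

end Groth.Agent.Hilb37
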