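import Groth.Agent.Hilb37.TwoBlock

/-! The standard dual family for the two-block ideal. -/

set_option autoImplicit false

namespace Groth.Agent.Hilb37

open MvPolynomial W4c1hilbpn

variable {k : Type*} [Field k] {n q m : ℕ}

/-- The exponents of degree `q` in `x_1, …, x_n` other than `x_1^q`. -/
noncomputable def fSet (n q : ℕ) : Finset (Fin (n + 1) →₀ ℕ) :=
  ((Finset.univ.erase (0 : Fin (n + 1))).finsuppAntidiag q).erase (Finsupp.single 1 q)

theorem mem_fSet {f : Fin (n + 1) →₀ ℕ} : f ∈ fSet n q ↔ f ≠ Finsupp.single 1 q ∧ f 0 = 0 ∧ ∑ i, f i = q := by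
  classical
  rw [fSet, Finset.mem_erase, Finset.mem_finsuppAntidiag]
  refine and_congr_right fun _ => ⟨fun ⟨h1, h2⟩ => ⟨?_, ?_⟩, fun ⟨h0, h⟩ => ⟨?_, ?_⟩⟩
  · by_contra hc
    simpa using h2 (Finsupp.mem_support_iff.mpr hc)
  · rw [← Finset.add_sum_erase _ _ (Finset.mem_univ (0 : Fin (n + 1))), h1]
    have : f 0 = 0 := by by_contra hc; simpa using h2 (Finsupp.mem_support_iff.mpr hc)
    rw [this, zero_add]
  · rw [← Finset.add_sum_erase _ _ (Finset.mem_univ (0 : Fin (n + 1))), h0, zero_add] at h
    exact h
  · intro i hi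
    rw [Finsupp.mem_support_iff] at hi
    exact Finset.mem_erase.mpr ⟨fun e => hi (e ▸ h0), Finset.mem_univ _⟩

theorem card_fSet (hn : 1 ≤ n) : (fSet n q).card = (n + q - 1).choose q - 1 := by
  classical
  have h1 := val_one_fin hn
  rw [fSet, Finset.card_erase_of_mem, Finset.card_finsuppAntidiag_nat_eq_choose, Finset.card_erase_of_mem (Finset.mem_univ _),
    Finset.card_univ, Fintype.card_fin, Nat.add_sub_cancel]
  rw [Finset.mem_finsuppAntidiag]
  have hne : (1 : Fin (n + 1)) ∈ Finset.univ.erase (0 : Fin (n + 1)) :=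
    Finset.mem_erase.mpr ⟨fun e => by rw [e] at h1; simp at h1, Finset.mem_univ _⟩
  refine ⟨?_, fun i hi => ?_⟩
  · rw [Finset.sum_eq_single_of_mem _ hne fun i _ hi => Finsupp.single_eq_of_ne hi, Finsupp.single_eq_same]
  · rw [Finset.mem_singleton.mp (Finsupp.support_single_subset hi)]
    exact hne

theorem fSet_lt {f : Fin (n + 1) →₀ ℕ} (h : f ∈ fSet n q) : f 1 < q := by
  classical
  obtain ⟨hne, hf0, hfs⟩ := mem_fSet.mp h
  by_contra hc
  refine hne (Finsupp.ext fun x => ?_)
  by_cases hx : x = 1
  · subst hx
    rw [Finsupp.single_eq_same]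
    have := Finset.single_le_sum (fun i _ => Nat.zero_le (f i)) (Finset.mem_univ (1 : Fin (n + 1)))
    omega
  · rw [Finsupp.single_eq_of_ne hx]
    have : f x + f 1 ≤ q := by
      refine le_of_le_of_eq ?_ hfs
      rw [← Finset.sum_pair hx]
      exact Finset.sum_le_univ_sum_of_nonneg fun i => Nat.zero_le _
    omega

/-- The indices of the dual family. -/
abbrev BIdx (n q m : ℕ) := Fin n ⊕ Fin m ⊕ Fin n ⊕ (Fin m × Fin (n - m)) ⊕ ↥(fSet n q)

/-- The degrees. -/
noncomputable def bAl (n q m : ℕ) : BIdx n q m → (Fin (n + 1) → ℤ)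
  | .inl i => fun x => eN n n x - eN n i x
  | .inr (.inl j) => fun x => eN n 0 x + (q : ℤ) * eN n n x - (q : ℤ) * eN n 1 x - eN n (j + 1) x
  | .inr (.inr (.inl l)) => fun x => eN n (l + 1) x - eN n 0 x
  | .inr (.inr (.inr (.inl (j, l)))) => fun x => eN n (m + 1 + l) x - eN n (j + 1) x
  | .inr (.inr (.inr (.inr f))) => fun x => (f.1 x : ℤ) - (q : ℤ) * eN n 1 x

/-- The points where the maps are read. -/
noncomputable def bS (n q m : ℕ) : BIdx n q m → (Fin (n + 1) → ℤ)
  | .inl _ => fun x => eN n 0 x + eN n n x
  | .inr (.inl _) => fun x => eN n 0 x + (q : ℤ) * eN n n x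
  | .inr (.inr (.inl l)) => fun x => eN n (n - 1) x + eN n (l + 1) x
  | .inr (.inr (.inr (.inl (_, l)))) => fun x => (q : ℤ) * eN n 1 x + eN n (m + 1 + l) x
  | .inr (.inr (.inr (.inr f))) => fun x => (f.1 x : ℤ) + eN n 2 x

/-- The parts of the regions. -/
def bU (n q m : ℕ) : BIdx n q m → (Fin (n + 1) → ℤ) → Prop
  | .inl _ => fun γ => 1 ≤ γ 0
  | .inr (.inl _) => fun _ => True
  | .inr (.inr (.inl _)) => fun γ => γ 0 = 0
  | .inr (.inr (.inr (.inl (j, _)))) => fun γ => γ 0 = 0 ∧ (j.val = 0 → (q : ℤ) ≤ γ 1)
  | .inr (.inr (.inr (.inr f))) => fun γ => γ 0 = 0 ∧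
      ((f.1 1 + 1 = q ∧ ∀ x : Fin (n + 1), 2 ≤ x.val → x.val ≤ m → f.1 x = 0) → γ 1 < q)

theorem sum_bAl (hm1 : 1 ≤ m) (hmn : m + 1 ≤ n) (t : BIdx n q m) : ∑ x, bAl n q m t x = 0 := by
  rcases t with i | j | l | ⟨j, l⟩ | f
  all_goals simp only [bAl, Finset.sum_sub_distrib, Finset.sum_add_distrib, ← Finset.mul_sum]
  · rw [sum_eN le_rfl, sum_eN (by omega)]; ring
  · rw [sum_eN (Nat.zero_le _), sum_eN le_rfl, sum_eN (by omega), sum_eN (by omega)]; ring
  · rw [sum_eN (by omega), sum_eN (Nat.zero_le _)]; ring
  · rw [sum_eN (by omega), sum_eN (by omega)]; ring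
  · rw [sum_eN (by omega), mul_one, sub_eq_zero]
    exact_mod_cast (mem_fSet.mp f.2).2.2

theorem sub_al_ge {γ : Fin (n + 1) → ℤ} {al : Fin (n + 1) → ℤ} (h : γ - al ∈ expZ (twoBlock k n q m))
    (hn : 2 ≤ n) : (∀ x, al x ≤ γ x) ∧
    ((∃ i : Fin (n + 1), i.val + 1 ≤ n ∧ 1 ≤ γ 0 - al 0 ∧ (i.val = 0 → 2 ≤ γ 0 - al 0) ∧ 1 ≤ γ i - al i) ∨
      ∃ i : Fin (n + 1), 1 ≤ i.val ∧ i.val ≤ m ∧ (q : ℤ) ≤ γ 1 - al 1 ∧ (i.val = 1 → (q : ℤ) + 1 ≤ γ 1 - al 1) ∧
        1 ≤ γ i - al i) := by
  rw [mem_expZ_block hn] at h
  exact ⟨fun x => sub_nonneg.mp (h.1 x), h.2⟩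

set_option maxHeartbeats 2000000 in
theorem bU_valid1 (hm2 : 2 ≤ m) (hmn : m + 1 ≤ n) (hq : 1 ≤ q) (t : BIdx n q m) :
    ∀ γ γ', γ - bAl n q m t ∈ expZ (twoBlock k n q m) → γ ≤ γ' → γ' ∈ stand (twoBlock k n q m) →
      bU n q m t γ' → NN γ ∧ bU n q m t γ := by
  intro γ γ' he hle' hs hU
  have hle : ∀ x, γ x ≤ γ' x := hle'
  have hone := val_one_fin (show 1 ≤ n by omega)
  have hz : ((0 : Fin (n + 1)) : ℕ) = 0 := rfl
  obtain ⟨hge, hI⟩ := sub_al_ge he (by omega)
  obtain ⟨hx', hA, hB⟩ := (mem_stand_block (by omega : 2 ≤ n)).mp hs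
  have hhead := stand_head (by omega : 2 ≤ n) hs
  have l0 := hle 0
  have l1 := hle 1
  have g0 := hge 0
  have g1 := hge 1
  rcases t with i | j | l | ⟨j, l⟩ | f <;> simp only [bU] at hU ⊢ <;>
    simp only [bAl, eN, hone, hz, mul_ite, mul_one, mul_zero] at g0 g1 hge hI
  · -- the maps `x0 x_i ↦ x0 x_n`
    obtain ⟨e0, emid⟩ := hhead hU
    have hi := i.isLt
    have hlow : 1 ≤ γ 0 ∧ (1 ≤ i.val → 0 ≤ γ ⟨i.val, by omega⟩) := by
      rcases hI with ⟨a, ha, c0, c00, ca⟩ | ⟨a, ha1, ha2, cq, cq1, ca⟩
      · have := hle a
        by_cases ha0 : a.val = 0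
        · obtain rfl : a = 0 := Fin.ext ha0
          have := c00 rfl
          refine ⟨by split_ifs at * <;> first | omega | contradiction, fun h => ?_⟩
          split_ifs at * <;> first | omega | contradiction
        · have := emid a (by omega) (by omega)
          have hai : a.val = i.val := by split_ifs at * <;> first | omega | contradiction
          refine ⟨by split_ifs at * <;> first | omega | contradiction, fun _ => ?_⟩
          rw [show (⟨i.val, by omega⟩ : Fin (n + 1)) = a from Fin.ext hai.symm]
          split_ifs at * <;> first | omega | contradiction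
      · have := hle a
        have := emid a ha1 (by omega)
        have := emid 1 (by omega) (by omega)
        by_cases ha : a.val = 1
        · have := cq1 ha
          obtain rfl : a = 1 := Fin.ext (by omega)
          split_ifs at * <;> first | omega | contradiction
        · split_ifs at * <;> first | omega | contradiction
    refine ⟨fun x => ?_, hlow.1⟩
    have := hge x
    by_cases hx : x.val = i.val
    · by_cases h : 1 ≤ i.val
      · rw [show x = ⟨i.val, by omega⟩ from Fin.ext hx]; exact hlow.2 h
      · rw [show x = 0 from Fin.ext (by simp; omega)]; omega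
    · split_ifs at * <;> first | omega | contradiction
  · -- the maps `x1^q x_j ↦ x0 x_n^q`
    have hj := j.isLt
    refine ⟨fun x => ?_, trivial⟩
    have h0 : 1 ≤ γ' 0 := by split_ifs at * <;> first | omega | contradiction
    obtain ⟨e0, emid⟩ := hhead h0
    have := emid 1 (by omega) (by omega)
    have hlow : 0 ≤ γ 1 ∧ 0 ≤ γ ⟨j.val + 1, by omega⟩ := by
      rcases hI with ⟨a, ha, c0, c00, ca⟩ | ⟨a, ha1, ha2, cq, cq1, ca⟩
      · exfalso
        split_ifs at * <;> first | omega | contradiction
      · have := hle a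
        have := emid a ha1 (by omega)
        by_cases haj : a.val = j.val + 1
        · rw [show (⟨j.val + 1, by omega⟩ : Fin (n + 1)) = a from Fin.ext haj.symm]
          by_cases hj1 : j.val = 0
          · have := cq1 (by omega)
            obtain rfl : a = 1 := Fin.ext (by omega)
            split_ifs at * <;> first | omega | contradiction
          · split_ifs at * <;> first | omega | contradiction
        · exfalso
          by_cases ha : a.val = 1
          · have := cq1 ha
            obtain rfl : a = 1 := Fin.ext (by omega)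
            split_ifs at * <;> first | omega | contradiction
          · split_ifs at * <;> first | omega | contradiction
    have := hge x
    by_cases hx : x.val = j.val + 1
    · rw [show x = ⟨j.val + 1, by omega⟩ from Fin.ext hx]; exact hlow.2
    · by_cases hx1 : x.val = 1
      · rw [show x = 1 from Fin.ext (by omega)]; exact hlow.1
      · split_ifs at * <;> first | omega | contradiction
  · -- the maps `x0 x_i ↦ x_i x_l`
    have hl := l.isLt
    have h0 : 0 ≤ γ 0 := by
      by_contra hc
      rcases hI with ⟨a, ha, c0, c00, ca⟩ | ⟨a, ha1, ha2, cq, cq1, ca⟩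
      · split_ifs at * <;> first | omega | contradiction
      · have := hle a
        refine hB a ha1 ha2 ⟨?_, fun e => ?_, ?_⟩
        · split_ifs at * <;> first | omega | contradiction
        · have := cq1 e; split_ifs at * <;> first | omega | contradiction
        · split_ifs at * <;> first | omega | contradiction
    refine ⟨fun x => ?_, by omega⟩
    have := hge x
    by_cases hx : x.val = 0
    · rw [show x = 0 from Fin.ext hx]; exact h0
    · split_ifs at * <;> first | omega | contradiction
  · -- the moves
    have hj := j.isLt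
    have hl := l.isLt
    obtain ⟨hU0, hU1⟩ := hU
    have hlow : 0 ≤ γ ⟨j.val + 1, by omega⟩ ∧ (j.val = 0 → (q : ℤ) ≤ γ 1) := by
      have lj := hle ⟨j.val + 1, by omega⟩
      have gj := hge ⟨j.val + 1, by omega⟩
      rcases hI with ⟨a, ha, c0, c00, ca⟩ | ⟨a, ha1, ha2, cq, cq1, ca⟩
      · exfalso
        split_ifs at * <;> first | omega | contradiction
      · have la := hle a
        by_cases hj0 : j.val = 0
        · have e : (⟨j.val + 1, by omega⟩ : Fin (n + 1)) = 1 := Fin.ext (by show j.val + 1 = _; omega)
          rw [e] at lj gj ⊢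
          by_cases hlow : (q : ℤ) ≤ γ 1
          · exact ⟨by omega, fun _ => hlow⟩
          · exfalso
            by_cases ha : a.val = 1
            · have := cq1 ha
              split_ifs at * <;> first | omega | contradiction
            · refine hB a ha1 ha2 ⟨by have := hU1 hj0; omega, fun e' => absurd e' ha, ?_⟩
              split_ifs at * <;> first | omega | contradiction
        · refine ⟨?_, fun h => absurd h hj0⟩
          by_contra hc
          by_cases haj : a.val = j.val + 1
          · rw [show (⟨j.val + 1, by omega⟩ : Fin (n + 1)) = a from Fin.ext haj.symm] at hc gj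
            split_ifs at * <;> first | omega | contradiction
          · refine hB a ha1 ha2 ⟨?_, fun e' => ?_, ?_⟩
            · split_ifs at * <;> first | omega | contradiction
            · have := cq1 e'; split_ifs at * <;> first | omega | contradiction
            · split_ifs at * <;> first | omega | contradiction
    refine ⟨fun x => ?_, ?_, hlow.2⟩
    · have := hge x
      by_cases hx : x.val = j.val + 1
      · rw [show x = ⟨j.val + 1, by omega⟩ from Fin.ext hx]; exact hlow.1
      · split_ifs at * <;> first | omega | contradiction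
    · split_ifs at * <;> first | omega | contradiction
  · -- the maps `x1^q x_i ↦ f x_i`
    obtain ⟨hU0, hU1⟩ := hU
    obtain ⟨-, hf0, -⟩ := mem_fSet.mp f.2
    have h1 : 0 ≤ γ 1 := by
      by_contra hc
      rcases hI with ⟨a, ha, c0, c00, ca⟩ | ⟨a, ha1, ha2, cq, cq1, ca⟩
      · split_ifs at * <;> first | omega | contradiction
      · split_ifs at * <;> first | omega | contradiction
    refine ⟨fun x => ?_, ?_, fun h => ?_⟩
    · have := hge x
      by_cases hx : x.val = 1
      · rw [show x = 1 from Fin.ext (by omega)]; exact h1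
      · split_ifs at * <;> first | omega | contradiction
    · split_ifs at * <;> first | omega | contradiction
    · have := hU1 h
      omega

set_option maxHeartbeats 2000000 in
theorem bU_valid2 (hm2 : 2 ≤ m) (hmn : m + 1 ≤ n) (hq : 1 ≤ q) (t : BIdx n q m) :
    ∀ γ γ', γ - bAl n q m t ∈ expZ (twoBlock k n q m) → γ ≤ γ' → γ' ∈ stand (twoBlock k n q m) →
      NN γ → bU n q m t γ → bU n q m t γ' := by
  intro γ γ' he hle' hs hn0 hU
  have hle : ∀ x, γ x ≤ γ' x := hle'
  have hone := val_one_fin (show 1 ≤ n by omega)
  have hz : ((0 : Fin (n + 1)) : ℕ) = 0 := rfl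
  obtain ⟨hge, hI⟩ := sub_al_ge he (by omega)
  obtain ⟨hx', hA, hB⟩ := (mem_stand_block (by omega : 2 ≤ n)).mp hs
  have hhead := stand_head (by omega : 2 ≤ n) hs
  have l0 := hle 0
  have l1 := hle 1
  have n1 := hn0 1
  have n0' := hx' 0
  have g0 := hge 0
  have g1 := hge 1
  rcases t with i | j | l | ⟨j, l⟩ | f <;> simp only [bU] at hU ⊢ <;>
    simp only [bAl, eN, hone, hz, mul_ite, mul_one, mul_zero] at g0 g1 hge hI
  · omega
  · by_contra hc
    have h0 : 1 ≤ γ' 0 := by omega
    obtain ⟨e0, emid⟩ := hhead h0
    rcases hI with ⟨a, ha, c0, c00, ca⟩ | ⟨a, ha1, ha2, cq, cq1, ca⟩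
    · by_cases ha0 : a.val = 0
      · have := c00 ha0; split_ifs at * <;> first | omega | contradiction
      · have := emid a (by omega) (by omega)
        have := hle a; have := hn0 a
        split_ifs at * <;> first | omega | contradiction
    · have := emid a ha1 (by omega)
      have := emid 1 (by omega) (by omega)
      have := hle a; have := hn0 a
      split_ifs at * <;> first | omega | contradiction
  · obtain ⟨hU0, hU1⟩ := hU
    refine ⟨?_, fun h => by have := hU1 h; omega⟩
    by_contra hc
    have h0 : 1 ≤ γ' 0 := by omega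
    obtain ⟨e0, emid⟩ := hhead h0
    rcases hI with ⟨a, ha, c0, c00, ca⟩ | ⟨a, ha1, ha2, cq, cq1, ca⟩
    · split_ifs at * <;> first | omega | contradiction
    · have := emid a ha1 (by omega)
      have := emid 1 (by omega) (by omega)
      have := hle a; have := hn0 a
      by_cases ha : a.val = 1
      · have := cq1 ha; split_ifs at * <;> first | omega | contradiction
      · split_ifs at * <;> first | omega | contradiction
  · obtain ⟨hU0, hU1⟩ := hU
    obtain ⟨-, hf0, -⟩ := mem_fSet.mp f.2
    refine ⟨?_, fun h => ?_⟩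
    · by_contra hc
      have h0 : 1 ≤ γ' 0 := by omega
      obtain ⟨e0, emid⟩ := hhead h0
      rcases hI with ⟨a, ha, c0, c00, ca⟩ | ⟨a, ha1, ha2, cq, cq1, ca⟩
      · split_ifs at * <;> first | omega | contradiction
      · have := emid a ha1 (by omega)
        have := emid 1 (by omega) (by omega)
        have := hle a; have := hn0 a
        by_cases ha : a.val = 1
        · have := cq1 ha; split_ifs at * <;> first | omega | contradiction
        · split_ifs at * <;> first | omega | contradiction
    · have hlt := hU1 h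
      by_contra hc
      rcases hI with ⟨a, ha, c0, c00, ca⟩ | ⟨a, ha1, ha2, cq, cq1, ca⟩
      · split_ifs at * <;> first | omega | contradiction
      · by_cases ha : a.val = 1
        · have := cq1 ha
          have := h.1
          split_ifs at * <;> first | omega | contradiction
        · have := hle a
          have := h.2 a (by omega) ha2
          refine hB a ha1 ha2 ⟨by omega, fun e => absurd e ha, ?_⟩
          split_ifs at * <;> first | omega | contradiction

set_option maxHeartbeats 2000000 in
theorem bS_stand (hm2 : 2 ≤ m) (hmn : m + 1 ≤ n) (hq : 1 ≤ q) (h : 2 ≤ q ∨ m + 2 ≤ n) (t : BIdx n q m) :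
    bS n q m t ∈ stand (twoBlock k n q m) ∧ bS n q m t - bAl n q m t ∈ expZ (twoBlock k n q m) ∧
      bU n q m t (bS n q m t) := by
  have hone := val_one_fin (show 1 ≤ n by omega)
  have hz : ((0 : Fin (n + 1)) : ℕ) = 0 := rfl
  have key : ∀ g : Fin (n + 1) → ℤ, g ∈ expZ (twoBlock k n q m) →
      bS n q m t - bAl n q m t = g → bS n q m t - bAl n q m t ∈ expZ (twoBlock k n q m) := fun g hg e => e ▸ hg
  rw [mem_stand_block (by omega : 2 ≤ n)]
  rcases t with i | j | l | ⟨j, l⟩ | f
  · have hi := i.isLt
    refine ⟨⟨fun x => by simp only [bS, eN]; (split_ifs <;> first | omega | contradiction), fun a ha => ?_, fun a h1 h2 => ?_⟩,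
      key _ (mem_expZ_genA (by omega) i.val (by omega)) (funext fun x => by simp only [Pi.sub_apply, bS, bAl]; ring), ?_⟩
    all_goals simp only [bS, bU, eN, hone, hz, mul_ite, mul_one, mul_zero]
    · first | (rintro ⟨c1, c2, c3⟩; split_ifs at * <;> first | omega | contradiction) | ((split_ifs <;> first | omega | contradiction))
    · first | (rintro ⟨c1, c2, c3⟩; split_ifs at * <;> first | omega | contradiction) | ((split_ifs <;> first | omega | contradiction))
    · first | (rintro ⟨c1, c2, c3⟩; split_ifs at * <;> first | omega | contradiction) | ((split_ifs <;> first | omega | contradiction))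
  · have hj := j.isLt
    refine ⟨⟨fun x => by simp only [bS, eN]; (split_ifs <;> first | omega | contradiction), fun a ha => ?_, fun a h1 h2 => ?_⟩,
      key _ (mem_expZ_genB (by omega) (j.val + 1) (by omega) (by omega) (by omega))
        (funext fun x => by simp only [Pi.sub_apply, bS, bAl]; ring), ?_⟩
    all_goals simp only [bS, bU, eN, hone, hz, mul_ite, mul_one, mul_zero]
    · first | (rintro ⟨c1, c2, c3⟩; split_ifs at * <;> first | omega | contradiction) | ((split_ifs <;> first | omega | contradiction))
    · first | (rintro ⟨c1, c2, c3⟩; split_ifs at * <;> first | omega | contradiction) | ((split_ifs <;> first | omega | contradiction))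
  · have hl := l.isLt
    refine ⟨⟨fun x => by simp only [bS, eN]; (split_ifs <;> first | omega | contradiction), fun a ha => ?_, fun a h1 h2 => ?_⟩,
      key _ (mem_expZ_genA (by omega) (n - 1) (by omega)) (funext fun x => by simp only [Pi.sub_apply, bS, bAl]; ring), ?_⟩
    all_goals simp only [bS, bU, eN, hone, hz, mul_ite, mul_one, mul_zero]
    · first | (rintro ⟨c1, c2, c3⟩; split_ifs at * <;> first | omega | contradiction) | ((split_ifs <;> first | omega | contradiction))
    · rintro ⟨c1, c2, c3⟩
      rcases h with h | h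
      · split_ifs at * <;> first | omega | contradiction
      · split_ifs at * <;> first | omega | contradiction
    · first | (rintro ⟨c1, c2, c3⟩; split_ifs at * <;> first | omega | contradiction) | ((split_ifs <;> first | omega | contradiction))
  · have hj := j.isLt
    have hl := l.isLt
    refine ⟨⟨fun x => by simp only [bS, eN]; (split_ifs <;> first | omega | contradiction), fun a ha => ?_, fun a h1 h2 => ?_⟩,
      key _ (mem_expZ_genB (by omega) (j.val + 1) (by omega) (by omega) (by omega))
        (funext fun x => by simp only [Pi.sub_apply, bS, bAl]; ring), ?_⟩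
    all_goals simp only [bS, bU, eN, hone, hz, mul_ite, mul_one, mul_zero]
    · first | (rintro ⟨c1, c2, c3⟩; split_ifs at * <;> first | omega | contradiction) | ((split_ifs <;> first | omega | contradiction))
    · first | (rintro ⟨c1, c2, c3⟩; split_ifs at * <;> first | omega | contradiction) | ((split_ifs <;> first | omega | contradiction))
    · refine ⟨by (split_ifs <;> first | omega | contradiction), fun _ => by (split_ifs <;> first | omega | contradiction)⟩
  · obtain ⟨hne, hf0, hfs⟩ := mem_fSet.mp f.2
    have hf1 := fSet_lt f.2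
    refine ⟨⟨fun x => by simp only [bS, eN]; (split_ifs <;> first | omega | contradiction), fun a ha => ?_, fun a h1 h2 => ?_⟩,
      key _ (mem_expZ_genB (by omega) 2 (by omega) (by omega) (by omega))
        (funext fun x => by simp only [Pi.sub_apply, bS, bAl]; ring), ?_⟩
    all_goals simp only [bS, bU, eN, hone, hz, mul_ite, mul_one, mul_zero]
    · first | (rintro ⟨c1, c2, c3⟩; split_ifs at * <;> first | omega | contradiction) | ((split_ifs <;> first | omega | contradiction))
    · first | (rintro ⟨c1, c2, c3⟩; split_ifs at * <;> first | omega | contradiction) | ((split_ifs <;> first | omega | contradiction))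
    · exact ⟨by (split_ifs <;> first | omega | contradiction), fun _ => by (split_ifs <;> first | omega | contradiction)⟩

set_option maxHeartbeats 2000000 in
theorem bS_separate (hm2 : 2 ≤ m) (hmn : m + 1 ≤ n) (hq : 1 ≤ q) (t t' : BIdx n q m)
    (e : bAl n q m t' = bAl n q m t) (hne : t' ≠ t) : ¬ bU n q m t (bS n q m t') := by
  intro hU
  refine hne ?_
  have hone := val_one_fin (show 1 ≤ n by omega)
  have hz : ((0 : Fin (n + 1)) : ℕ) = 0 := rfl
  have hv : ∀ (a : ℕ) (h : a < n + 1), ((⟨a, h⟩ : Fin (n + 1)) : ℕ) = a := fun _ _ => rfl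
  have e0 := congrFun e 0
  have e1 := congrFun e 1
  rcases t with i | j | l | ⟨j, l⟩ | f <;> rcases t' with i' | j' | l' | ⟨j', l'⟩ | f' <;>
    simp only [bU, bS, bAl, eN, hone, hz, mul_ite, mul_one, mul_zero] at e0 e1 hU
  all_goals try (have hf := (mem_fSet.mp f.2).2.1)
  all_goals try (have hf' := (mem_fSet.mp f'.2).2.1)
  all_goals try (have hlt := fSet_lt f.2)
  all_goals try (have hlt' := fSet_lt f'.2)
  all_goals try (exfalso; split_ifs at * <;> first | omega | contradiction)
  · have h := congrFun e ⟨i'.val, by omega⟩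
    simp only [bAl, eN, hv] at h
    refine congrArg _ (Fin.ext ?_)
    split_ifs at * <;> first | omega | contradiction
  · have h := congrFun e ⟨j'.val + 1, by omega⟩
    simp only [bAl, eN, hv, mul_ite, mul_one, mul_zero] at h
    refine congrArg _ (congrArg _ (Fin.ext ?_))
    split_ifs at * <;> first | omega | contradiction
  · have h := congrFun e ⟨l'.val + 1, by omega⟩
    simp only [bAl, eN, hv] at h
    refine congrArg _ (congrArg _ (congrArg _ (Fin.ext ?_)))
    split_ifs at * <;> first | omega | contradiction
  · have h := congrFun e ⟨j'.val + 1, by omega⟩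
    have h' := congrFun e ⟨m + 1 + l'.val, by omega⟩
    simp only [bAl, eN] at h h'
    clear e e0 e1 hU
    have := j.isLt
    have := j'.isLt
    simp only [show ¬ (j'.val + 1 = m + 1 + l'.val) by omega, show ¬ (j'.val + 1 = m + 1 + l.val) by omega,
      show ¬ (m + 1 + l'.val = j'.val + 1) by omega, show ¬ (m + 1 + l'.val = j.val + 1) by omega, if_false, if_true] at h h'
    refine congrArg _ (congrArg _ (congrArg _ (congrArg _ (Prod.ext (Fin.ext ?_) (Fin.ext ?_)))))
    · show j'.val = j.val
      split_ifs at h <;> first | omega | contradiction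
    · show l'.val = l.val
      split_ifs at h' <;> first | omega | contradiction
  · exfalso
    obtain ⟨hU0, hU1⟩ := hU
    have hj : j'.val = 0 := by split_ifs at * <;> first | omega | contradiction
    have h1 : f.1 1 + 1 = q := by split_ifs at * <;> first | omega | contradiction
    have := hU1 ⟨h1, fun x hx1 hx2 => by
      have h := congrFun e x
      simp only [bAl, eN, mul_ite, mul_one, mul_zero] at h
      split_ifs at * <;> first | omega | contradiction⟩
    split_ifs at * <;> first | omega | contradiction
  · refine congrArg _ (congrArg _ (congrArg _ (congrArg _ (Subtype.ext (Finsupp.ext fun x => ?_)))))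
    have h := congrFun e x
    simp only [bAl] at h
    exact_mod_cast sub_left_inj.mp h

end Groth.Agent.Hilb37
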