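import Groth.Agent.Hilb37.TwoBlockCount

/-! The case `q = 1`, `m = n - 1` of the two-block ideals. -/

set_option autoImplicit false

namespace Groth.Agent.Hilb37

open MvPolynomial W4c1hilbpn

variable {k : Type*} [Field k] {n : ℕ}

/-- `x_a x_i`. -/
def g2 (n a i : ℕ) : Fin (n + 1) → ℤ := fun x => eN n a x + eN n i x

theorem sum_g2 {a i : ℕ} (ha : a ≤ n) (hi : i ≤ n) : ∑ x, g2 n a i x = 2 := by
  simp only [g2, Finset.sum_add_distrib, sum_eN ha, sum_eN hi]; norm_num

theorem g2_mem (hn : 3 ≤ n) {a i : ℕ} (ha : a ≤ 1) (hi : i + 1 ≤ n) : g2 n a i ∈ expZ (twoBlock k n 1 (n - 1)) := by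
  rcases Nat.le_one_iff_eq_zero_or_eq_one.mp ha with rfl | rfl
  · exact mem_expZ_genA (by omega) i hi
  · rcases Nat.eq_zero_or_pos i with rfl | h
    · have e : g2 n 1 0 = fun x => eN n 0 x + eN n 1 x := funext fun x => add_comm _ _
      rw [e]; exact mem_expZ_genA (by omega) 1 (by omega)
    · have e : g2 n 1 i = fun x => ((1 : ℕ) : ℤ) * eN n 1 x + eN n i x := funext fun x => by simp [g2]
      rw [e]; exact mem_expZ_genB (by omega) i h (by omega) (by omega)

theorem g2_cases (hn : 3 ≤ n) {x : Fin (n + 1) → ℤ} (h : x ∈ expZ (twoBlock k n 1 (n - 1))) :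
    ∃ g, (∃ a i, a ≤ 1 ∧ i + 1 ≤ n ∧ g = g2 n a i) ∧ g ≤ x := by
  obtain ⟨g, hg, hle⟩ := gen_cases (by omega) h
  refine ⟨g, ?_, hle⟩
  rcases hg with ⟨i, hi, rfl⟩ | ⟨l, h1, h2, h3, rfl⟩
  · exact ⟨0, i, by omega, hi, rfl⟩
  · exact ⟨1, l, le_rfl, by omega, funext fun x => by simp [genB, g2]⟩

theorem stand_two (hn : 3 ≤ n) {γ : Fin (n + 1) → ℤ} (h : γ ∈ stand (twoBlock k n 1 (n - 1))) {c : ℕ} (hc : c ≤ 1)
    (hpos : 1 ≤ γ ⟨c, by omega⟩) : γ ⟨c, by omega⟩ = 1 ∧ ∀ x : Fin (n + 1), x.val < n → x.val ≠ c → γ x = 0 := by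
  obtain ⟨hx, hA, hB⟩ := (mem_stand_block (by omega : 2 ≤ n)).mp h
  have hone := val_one_fin (show 1 ≤ n by omega)
  have e0 : (⟨0, by omega⟩ : Fin (n + 1)) = 0 := rfl
  have e1 : (⟨1, by omega⟩ : Fin (n + 1)) = 1 := Fin.ext hone.symm
  rcases Nat.le_one_iff_eq_zero_or_eq_one.mp hc with rfl | rfl
  · rw [e0] at hpos ⊢
    obtain ⟨h1, h2⟩ := stand_head (by omega) h hpos
    exact ⟨h1, fun x hx hne => h2 x (by omega) hx⟩
  · rw [e1] at hpos ⊢
    have h0 : γ 0 = 0 := by
      by_contra hc
      have := (stand_head (by omega) h (by have := hx 0; omega)).2 1 (by omega) (by omega)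
      omega
    refine ⟨?_, fun x hxn hne => ?_⟩
    · by_contra hc
      exact hB 1 (by omega) (by omega) ⟨by omega, fun _ => by omega, hpos⟩
    · by_contra hc
      by_cases hx0 : x.val = 0
      · exact hc ((congrArg γ (Fin.ext hx0 : x = 0)).trans h0)
      · exact hB x (by omega) (by omega) ⟨by omega, fun e => absurd e hne, by have := hx x; omega⟩

/-- Indices of the generators. -/
abbrev GIdx (n : ℕ) := Fin n ⊕ Fin (n - 1)

/-- The first index of a generator. -/
def gA (n : ℕ) : GIdx n → ℕ := Sum.elim (fun _ => 0) fun _ => 1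

/-- The second index of a generator. -/
def gI (n : ℕ) : GIdx n → ℕ := Sum.elim (fun i => i.val) fun i => i.val + 1

theorem gA_le (t : GIdx n) : gA n t ≤ 1 := by rcases t with i | i <;> simp [gA]

theorem gI_lt (t : GIdx n) : gI n t + 1 ≤ n := by rcases t with i | i <;> simp [gI] <;> omega

/-- The indices of the dual family. -/
abbrev LIdx (n : ℕ) := GIdx n × Fin 2 ⊕ Fin 2 × Fin (n - 1)

/-- Degrees. -/
def lAl (n : ℕ) : LIdx n → Fin (n + 1) → ℤ
  | .inl (g, c) => fun x => eN n c x + eN n n x - g2 n (gA n g) (gI n g) x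
  | .inr (a, l) => fun x => eN n (l + 2) x - eN n a x

/-- Points. -/
def lS (n : ℕ) : LIdx n → Fin (n + 1) → ℤ
  | .inl (_, c) => fun x => eN n c x + eN n n x
  | .inr (_, l) => fun x => eN n (n - 1) x + eN n (l + 2) x

/-- Regions. -/
def lU (n : ℕ) : LIdx n → (Fin (n + 1) → ℤ) → Prop
  | .inl (_, c) => fun γ => ∃ x : Fin (n + 1), x.val = c.val ∧ 1 ≤ γ x
  | .inr _ => fun γ => ∀ x : Fin (n + 1), x.val ≤ 1 → γ x = 0

theorem lU_valid1 (hn : 3 ≤ n) (t : LIdx n) :
    ∀ γ γ', γ - lAl n t ∈ expZ (twoBlock k n 1 (n - 1)) → γ ≤ γ' → γ' ∈ stand (twoBlock k n 1 (n - 1)) →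
      lU n t γ' → NN γ ∧ lU n t γ := by
  intro γ γ' he hle' hs hU
  have hle : ∀ x, γ x ≤ γ' x := hle'
  have hge : ∀ x, lAl n t x ≤ γ x := fun x => sub_nonneg.mp (he.1 x)
  obtain ⟨-, ⟨b, j, hb, hj, rfl⟩, hle2'⟩ := g2_cases hn he
  have hle2 : ∀ x, g2 n b j x ≤ γ x - lAl n t x := hle2'
  rcases t with ⟨g, c⟩ | ⟨a, l⟩
  · obtain ⟨z, hz, hz1⟩ := hU
    rw [show z = ⟨c.val, by omega⟩ from Fin.ext hz] at hz1
    obtain ⟨hc1, hmid⟩ := stand_two hn hs (by omega : c.val ≤ 1) hz1
    have hi := gI_lt g
    have ha := gA_le g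
    -- the defect is zero
    have hd : ∀ x : Fin (n + 1), x.val < n → γ x = if x.val = c.val then 1 else 0 := by
      intro x hx
      have hnn : ∀ y ∈ Finset.univ.filter (fun y : Fin (n + 1) => y.val < n),
          0 ≤ (eN n c y) - γ y := fun y hy => by
        have hy' := (Finset.mem_filter.mp hy).2
        have := hle y
        by_cases e : y.val = c.val
        · rw [show y = ⟨c.val, by omega⟩ from Fin.ext e] at this ⊢; simp [eN]; omega
        · have := hmid y hy' e; simp [eN, e]; omega
      have hs1 : ∀ i : ℕ, i < n → ∑ y ∈ Finset.univ.filter (fun y : Fin (n + 1) => y.val < n), eN n i y = 1 := fun i hi => by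
        rw [Finset.sum_eq_single_of_mem ⟨i, by omega⟩ (by simpa using hi)] <;> simp +contextual [eN, Fin.ext_iff]
      have hsn : ∑ y ∈ Finset.univ.filter (fun y : Fin (n + 1) => y.val < n), eN n n y = 0 :=
        Finset.sum_eq_zero fun y hy => by have := (Finset.mem_filter.mp hy).2; simp [eN]; omega
      have hsum := Finset.sum_le_sum fun y (_ : y ∈ Finset.univ.filter (fun y : Fin (n + 1) => y.val < n)) => hle2 y
      simp only [lAl, g2, Finset.sum_add_distrib, Finset.sum_sub_distrib, hs1 b (by omega), hs1 j (by omega),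
        hs1 c.val (by omega), hsn, hs1 (gA n g) (by omega), hs1 (gI n g) (by omega)] at hsum
      have h1 : ∑ y ∈ Finset.univ.filter (fun y : Fin (n + 1) => y.val < n), (eN n c y - γ y) = 0 := by
        have := Finset.sum_nonneg hnn
        rw [Finset.sum_sub_distrib, hs1 c.val (by omega)] at this ⊢
        omega
      have := (Finset.sum_eq_zero_iff_of_nonneg hnn).mp h1 x (by simpa using hx)
      simp only [eN] at this
      omega
    refine ⟨fun x => ?_, ⟨c.val, by omega⟩, rfl, by rw [hd _ (show c.val < n by omega)]; simp⟩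
    by_cases hx : x.val < n
    · rw [hd x hx]; (split_ifs <;> first | omega | contradiction)
    · have := hge x
      simp only [lAl, g2, eN] at this
      have : x.val = n := by omega
      (split_ifs at * <;> first | omega | contradiction)
  · have hl := l.isLt
    have hbv : ∀ x : Fin (n + 1), x.val ≤ 1 → x.val ≠ a.val → γ x ≤ 0 := fun x hx _ => by
      have := hle x; have := hU x hx; omega
    have ha0 : γ ⟨a.val, by omega⟩ = 0 := by
      by_contra hc
      have h1 := hge ⟨a.val, by omega⟩
      have h2 := hle ⟨a.val, by omega⟩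
      have h3 := hU ⟨a.val, by omega⟩ (by show a.val ≤ 1; omega)
      have h4 := hle2 ⟨b, by omega⟩
      have h5 := hle ⟨b, by omega⟩
      have h6 := hU ⟨b, by omega⟩ (by show b ≤ 1; omega)
      by_cases e : b = a.val
      · rw [show (⟨b, by omega⟩ : Fin (n + 1)) = ⟨a.val, by omega⟩ from Fin.ext e] at h4
        simp only [lAl, g2, eN] at h1 h4
        (split_ifs at * <;> first | omega | contradiction)
      · simp only [lAl, g2, eN] at h1 h4
        (split_ifs at * <;> first | omega | contradiction)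
    refine ⟨fun x => ?_, fun x hx => ?_⟩
    · by_cases hx : x.val = a.val
      · rw [show x = ⟨a.val, by omega⟩ from Fin.ext hx, ha0]
      · have := hge x
        simp only [lAl, eN] at this
        (split_ifs at this <;> first | omega | contradiction)
    · by_cases hx' : x.val = a.val
      · rw [show x = ⟨a.val, by omega⟩ from Fin.ext hx', ha0]
      · have := hge x
        have := hle x; have := hU x hx
        simp only [lAl, eN] at *
        (split_ifs at * <;> first | omega | contradiction)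

theorem lU_valid2 (hn : 3 ≤ n) (t : LIdx n) :
    ∀ γ γ', γ - lAl n t ∈ expZ (twoBlock k n 1 (n - 1)) → γ ≤ γ' → γ' ∈ stand (twoBlock k n 1 (n - 1)) →
      NN γ → lU n t γ → lU n t γ' := by
  intro γ γ' he hle' hs hn0 hU
  have hle : ∀ x, γ x ≤ γ' x := hle'
  obtain ⟨-, ⟨b, j, hb, hj, rfl⟩, hle2'⟩ := g2_cases hn he
  have hle2 : ∀ x, g2 n b j x ≤ γ x - lAl n t x := hle2'
  rcases t with ⟨g, c⟩ | ⟨a, l⟩
  · obtain ⟨z, hz, hz1⟩ := hU
    exact ⟨z, hz, hz1.trans (hle z)⟩
  · intro x hx
    by_contra hc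
    obtain ⟨-, hmid⟩ := stand_two hn hs hx (show 1 ≤ γ' x by have := hs.1 x; omega)
    have hl := l.isLt
    have hz : ∀ y : Fin (n + 1), y.val < n → γ y = 0 := fun y hy => by
      by_cases e : y.val ≤ 1
      · exact hU y e
      · have := hmid y hy (by omega); have := hle y; have := hn0 y; omega
    have hb' := hle2 ⟨b, by omega⟩
    have hj' := hle2 ⟨j, by omega⟩
    rw [hz _ (show b < n by omega)] at hb'
    rw [hz _ (show j < n by omega)] at hj'
    simp only [lAl, g2, eN] at hb' hj'
    (split_ifs at * <;> first | omega | contradiction)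

theorem lS_facts (hn : 3 ≤ n) (t : LIdx n) :
    lS n t ∈ stand (twoBlock k n 1 (n - 1)) ∧ lS n t - lAl n t ∈ expZ (twoBlock k n 1 (n - 1)) ∧ lU n t (lS n t) := by
  have hone := val_one_fin (show 1 ≤ n by omega)
  have hz : ((0 : Fin (n + 1)) : ℕ) = 0 := rfl
  rw [mem_stand_block (by omega : 2 ≤ n)]
  rcases t with ⟨g, c⟩ | ⟨a, l⟩
  · have e : lS n (.inl (g, c)) - lAl n (.inl (g, c)) = g2 n (gA n g) (gI n g) :=
      funext fun x => by simp only [Pi.sub_apply, lS, lAl]; ring
    refine ⟨⟨fun x => by simp only [lS, eN]; split_ifs <;> omega, fun i hi => ?_, fun i h1 h2 => ?_⟩,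
      e ▸ g2_mem hn (gA_le g) (gI_lt g), ⟨c.val, by omega⟩, rfl, ?_⟩
    · rintro ⟨c1, c2, c3⟩
      simp only [lS, eN, hz] at c1 c2 c3
      split_ifs at * <;> first | omega | contradiction
    · rintro ⟨c1, c2, c3⟩
      simp only [lS, eN, hone] at c1 c2 c3
      split_ifs at * <;> first | omega | contradiction
    · simp only [lS, eN]; split_ifs <;> first | omega | contradiction
  · have hl := l.isLt
    have e : lS n (.inr (a, l)) - lAl n (.inr (a, l)) = g2 n a (n - 1) :=
      funext fun x => by simp only [Pi.sub_apply, lS, lAl, g2]; ring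
    refine ⟨⟨fun x => by simp only [lS, eN]; split_ifs <;> omega, fun i hi => ?_, fun i h1 h2 => ?_⟩,
      e ▸ g2_mem hn (by omega) (by omega), fun x hx => ?_⟩
    · rintro ⟨c1, c2, c3⟩
      simp only [lS, eN, hz] at c1 c2 c3
      split_ifs at * <;> first | omega | contradiction
    · rintro ⟨c1, c2, c3⟩
      simp only [lS, eN, hone] at c1 c2 c3
      split_ifs at * <;> first | omega | contradiction
    · simp only [lS, eN]; split_ifs <;> first | omega | contradiction

theorem g2_inj (hn : 3 ≤ n) {g g' : GIdx n} (h : g2 n (gA n g) (gI n g) = g2 n (gA n g') (gI n g')) : g = g' := by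
  have hone := val_one_fin (show 1 ≤ n by omega)
  rcases g with i | i <;> rcases g' with i' | i' <;> have hi := i.isLt <;> have hi' := i'.isLt
  · refine congrArg _ (Fin.ext ?_)
    have h1 := congrFun h ⟨i.val, by omega⟩
    simp only [g2, gA, gI, Sum.elim_inl, eN] at h1
    (split_ifs at h1 <;> first | omega | contradiction)
  · exfalso
    have h1 := congrFun h ⟨0, by omega⟩
    simp [g2, gA, gI, eN] at h1
    (split_ifs at h1 <;> first | omega | contradiction)
  · exfalso
    have h1 := congrFun h ⟨0, by omega⟩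
    simp [g2, gA, gI, eN] at h1
    (split_ifs at h1 <;> first | omega | contradiction)
  · refine congrArg _ (Fin.ext ?_)
    have h1 := congrFun h ⟨i.val + 1, by omega⟩
    simp only [g2, gA, gI, Sum.elim_inr, eN] at h1
    (split_ifs at h1 <;> first | omega | contradiction)

theorem lS_separate (hn : 3 ≤ n) (t t' : LIdx n) (e : lAl n t' = lAl n t) (hne : t' ≠ t) : ¬ lU n t (lS n t') := by
  intro hU
  refine hne ?_
  rcases t with ⟨g, c⟩ | ⟨a, l⟩ <;> rcases t' with ⟨g', c'⟩ | ⟨a', l'⟩
  · obtain ⟨x, hx, h1⟩ := hU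
    simp only [lS, eN] at h1
    obtain rfl : c' = c := Fin.ext (by (split_ifs at h1 <;> first | omega | contradiction))
    obtain rfl : g' = g := g2_inj hn (funext fun y => by have := congrFun e y; simp only [lAl] at this; omega)
    rfl
  · obtain ⟨x, hx, h1⟩ := hU
    simp only [lS, eN] at h1
    exfalso
    (split_ifs at h1 <;> first | omega | contradiction)
  · have h1 := hU ⟨c'.val, by omega⟩ (by show c'.val ≤ 1; omega)
    simp only [lS, eN] at h1
    exfalso
    (split_ifs at h1 <;> first | omega | contradiction)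
  · have h1 := congrFun e ⟨a.val, by omega⟩
    have h2 := congrFun e ⟨l'.val + 2, by omega⟩
    simp only [lAl, eN] at h1 h2
    have ea : a' = a := Fin.ext (by (split_ifs at h1 <;> first | omega | contradiction))
    have el : l' = l := Fin.ext (by (split_ifs at h2 <;> first | omega | contradiction))
    rw [ea, el]

theorem lines_link (hn : 3 ≤ n) {α : Fin (n + 1) → ℤ} {f : (Fin (n + 1) → ℤ) → k}
    (hf : f ∈ RegFun (twoBlock k n 1 (n - 1)) α) {a i j : ℕ} (ha : a ≤ 1) (hi : i + 1 ≤ n) (hj : j + 1 ≤ n)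
    (hst : (fun x => (g2 n a i + α) x + eN n j x) ∈ stand (twoBlock k n 1 (n - 1))) :
    f (g2 n a i + α) = f (g2 n a j + α) := by
  refine RegFun.link hf (g := g2 n a i) (h := g2 n a j) (l := fun x => g2 n a i x + eN n j x)
      (g2_mem hn ha hi) (g2_mem hn ha hj) (fun x => ?_) (fun x => ?_) ?_
  · show g2 n a i x ≤ g2 n a i x + eN n j x
    simp only [eN]; (split_ifs <;> first | omega | contradiction)
  · show g2 n a j x ≤ g2 n a i x + eN n j x
    simp only [g2, eN]; (split_ifs <;> first | omega | contradiction)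
  · rwa [add_eN_sub _ _ α rfl]

theorem lines_injective (hn : 3 ≤ n) (α : Fin (n + 1) → ℤ) (hα : ∑ x, α x = 0) (f : (Fin (n + 1) → ℤ) → k)
    (hf : f ∈ RegFun (twoBlock k n 1 (n - 1)) α) (hrep : ∀ t, lAl n t = α → f (lS n t) = 0) : f = 0 := by
  have hone := val_one_fin (show 1 ≤ n by omega)
  have hz : ((0 : Fin (n + 1)) : ℕ) = 0 := rfl
  refine RegFun.eq_zero_of_gen (I := twoBlock k n 1 (n - 1)) (fun g => ∃ a i, a ≤ 1 ∧ i + 1 ≤ n ∧ g = g2 n a i)
    (fun x hx => g2_cases hn hx) (fun g ⟨a, i, ha, hi, e⟩ => e ▸ g2_mem hn ha hi) hf ?_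
  rintro _ ⟨a, i, ha, hi, rfl⟩ hs
  have hidx : ∀ a i : ℕ, a ≤ 1 → i + 1 ≤ n → ∃ t : GIdx n, g2 n (gA n t) (gI n t) = g2 n a i := by
    intro a i ha hi
    rcases Nat.le_one_iff_eq_zero_or_eq_one.mp ha with rfl | rfl
    · exact ⟨.inl ⟨i, by omega⟩, rfl⟩
    · rcases Nat.eq_zero_or_pos i with rfl | h
      · exact ⟨.inl ⟨1, by omega⟩, funext fun x => add_comm _ _⟩
      · exact ⟨.inr ⟨i - 1, by omega⟩, by simp [gA, gI, show i - 1 + 1 = i by omega]⟩
  have key : ∀ (a i : ℕ), a ≤ 1 → i + 1 ≤ n → g2 n a i + α ∈ stand (twoBlock k n 1 (n - 1)) →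
      ((∃ c : Fin 2, 1 ≤ (g2 n a i + α) ⟨c.val, by omega⟩) ∨ i = n - 1) → f (g2 n a i + α) = 0 := by
    intro a i ha hi hs hcase
    set μ := g2 n a i + α with hμ
    have hsum : ∑ x, μ x = 2 := by
      simp only [hμ, Pi.add_apply, Finset.sum_add_distrib, sum_g2 (show a ≤ n by omega) (show i ≤ n by omega), hα, add_zero]
    by_cases hc : ∃ c : Fin 2, 1 ≤ μ ⟨c.val, by omega⟩
    · obtain ⟨c, hc⟩ := hc
      obtain ⟨h1, hmid⟩ := stand_two hn hs (by omega : c.val ≤ 1) hc
      obtain ⟨l, hl, hl'⟩ := eq_eN_of_sum (γ := fun x => μ x - eN n c x) (fun x => by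
        have := hs.1 x
        by_cases hx : x.val = c.val
        · rw [show x = ⟨c.val, by omega⟩ from Fin.ext hx]; simp [eN]; omega
        · simp [eN, hx]; omega) (by rw [Finset.sum_sub_distrib, hsum, sum_eN (by omega)]; norm_num)
      have hln : l = n := by
        by_contra hne
        have h2 := congrFun hl' ⟨l, by omega⟩
        by_cases hlc : l = c.val
        · subst hlc; simp [eN] at h2; omega
        · rw [hmid ⟨l, by omega⟩ (show l < n by omega) hlc] at h2
          simp [eN, hlc] at h2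
      subst hln
      obtain ⟨t, ht⟩ := hidx a i ha hi
      have e : lS l (.inl (t, c)) = μ := funext fun x => by
        have := congrFun hl' x; simp only [lS] at this ⊢; omega
      rw [← e]
      refine hrep _ (funext fun x => ?_)
      have h2 := congrFun e x
      simp only [lS, hμ, Pi.add_apply] at h2
      simp only [lAl, ht]
      omega
    · have hin : i = n - 1 := hcase.resolve_left hc
      subst hin
      push Not at hc
      have hlow : ∀ x : Fin (n + 1), x.val ≤ 1 → μ x = 0 := fun x hx => by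
        have : μ x < 1 := hc ⟨x.val, by omega⟩; have := hs.1 x; omega
      by_cases hn1 : 1 ≤ μ ⟨n - 1, by omega⟩
      · obtain ⟨l, hl, hl'⟩ := eq_eN_of_sum (γ := fun x => μ x - eN n (n - 1) x) (fun x => by
          have := hs.1 x
          by_cases hx : x.val = n - 1
          · rw [show x = ⟨n - 1, by omega⟩ from Fin.ext hx]; simp [eN]; omega
          · simp [eN, hx]; omega) (by rw [Finset.sum_sub_distrib, hsum, sum_eN (by omega)]; norm_num)
        have hl2 : 2 ≤ l := by
          by_contra h
          have h2 := congrFun hl' ⟨l, by omega⟩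
          rw [hlow ⟨l, by omega⟩ (show l ≤ 1 by omega)] at h2
          simp [eN] at h2
          (split_ifs at h2 <;> first | omega | contradiction)
        have e : lS n (.inr (⟨a, by omega⟩, ⟨l - 2, by omega⟩)) = μ := funext fun x => by
          have := congrFun hl' x
          simp only [lS, show l - 2 + 2 = l by omega] at this ⊢
          omega
        rw [← e]
        refine hrep _ (funext fun x => ?_)
        have h2 := congrFun hl' x
        simp only [hμ, Pi.add_apply, g2] at h2
        simp only [lAl, show l - 2 + 2 = l by omega]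
        omega
      · obtain ⟨j, hj, hjn, hst⟩ : ∃ j, j + 1 ≤ n ∧ j ≠ n - 1 ∧
            (fun x => μ x + eN n j x) ∈ stand (twoBlock k n 1 (n - 1)) := by
          by_cases h4 : 4 ≤ n
          · refine ⟨2, by omega, by omega, stand_add (by omega) hs (hlow 0 (by simp)) (v := 2) (by omega) (by omega)
              (fun l _ _ _ hq => ?_) (fun e => by omega)⟩
            have := hlow 1 (by omega); omega
          · obtain rfl : n = 3 := by omega
            refine ⟨0, by omega, by omega, (mem_stand_block (by omega : 2 ≤ 3)).mpr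
              ⟨fun x => by have := hs.1 x; simp only [eN]; split_ifs <;> omega, fun x hx => ?_, fun x h1 h2 => ?_⟩⟩
            · rintro ⟨c1, c2, c3⟩
              by_cases hx0 : x.val = 0
              · have := c2 hx0; have := hlow 0 (by simp); have : eN 3 0 (0 : Fin 4) = 1 := by simp [eN]
                omega
              · simp only [eN, if_neg hx0] at c3
                by_cases hx1 : x.val ≤ 1
                · have := hlow x hx1; omega
                · rw [show x = ⟨3 - 1, by omega⟩ from Fin.ext (show x.val = 2 by omega)] at c3; omega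
            · rintro ⟨c1, -, -⟩
              have := hlow 1 (by omega)
              simp only [eN, hone] at c1
              simp at c1; omega
        rw [lines_link hn hf ha hi hj hst]
        refine hf.1 _ fun h => ?_
        have h' := h.1.1 ⟨n - 1, by omega⟩
        simp only [hμ, Pi.add_apply, g2, eN] at h' hn1
        (split_ifs at * <;> first | omega | contradiction)
  by_cases hc : ∃ c : Fin 2, 1 ≤ (g2 n a i + α) ⟨c.val, by omega⟩
  · exact key a i ha hi hs (Or.inl hc)
  · by_cases hin : i = n - 1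
    · exact key a i ha hi hs (Or.inr hin)
    · push Not at hc
      have hlow : ∀ x : Fin (n + 1), x.val ≤ 1 → (g2 n a i + α) x = 0 := fun x hx => by
        have : (g2 n a i + α) x < 1 := hc ⟨x.val, by omega⟩; have := hs.1 x; omega
      rw [lines_link hn hf ha hi (j := n - 1) (by omega) (stand_add (by omega) hs (hlow 0 (by simp)) (v := n - 1) (by omega)
        (by omega) (fun l _ _ _ hq => by have := hlow 1 (by omega); omega) (fun e => by omega))]
      by_cases hs' : g2 n a (n - 1) + α ∈ stand (twoBlock k n 1 (n - 1))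
      · exact key a (n - 1) ha (by omega) hs' (Or.inr rfl)
      · exact hf.1 _ fun h => hs' h.1

theorem finrank_twoLines (hn : 3 ≤ n) :
    Module.finrank k ↥(⨆ α : {α : Fin (n + 1) → ℤ // ∑ i, α i = 0}, tPiece (twoBlock k n 1 (n - 1)) α.1) =
      6 * n - 4 := by
  classical
  rw [finrank_iSup_eq_card (isMonomial_twoBlock n 1 (n - 1)) (lAl n) (lS n) (fun α => ∑ i, α i = 0) ?_ ?_
    (fun α hα f hf hrep => lines_injective hn α hα f hf hrep)]
  · simp only [Fintype.card_sum, Fintype.card_prod, Fintype.card_fin]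
    omega
  · rintro (⟨g, c⟩ | ⟨a, l⟩)
    · simp only [lAl, Finset.sum_sub_distrib, Finset.sum_add_distrib, sum_g2 (show gA n g ≤ n by have := gA_le g; omega)
        (show gI n g ≤ n by have := gI_lt g; omega), sum_eN le_rfl, sum_eN (show c.val ≤ n by omega)]
      norm_num
    · simp only [lAl, Finset.sum_sub_distrib, sum_eN (show a.val ≤ n by omega), sum_eN (show l.val + 2 ≤ n by omega)]
      norm_num
  · intro t
    refine ⟨_, indFun_mem (lU_valid1 hn t) (lU_valid2 hn t), if_pos (lS_facts hn t), fun t' e hne => ?_⟩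
    exact if_neg fun h => lS_separate hn t t' e hne h.2.2

end Groth.Agent.Hilb37
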